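import Cfsg.Agent.H98.JFour.Orbits

/-!
The eighteen special vectors of the half `A₇ ⧸ ⟨z⟩` form six points, no three of which are collinear.
-/

set_option autoImplicit false
set_option linter.style.haveILetI false

namespace Cfsg.Agent.H98.JFour

open Module H43.JFour Subgroup

universe u v

variable {G : Type u} [Group G] [Finite G] {A : Type v} [Group A]
variable {c : Ctx G A} {M W : Subgroup A}

namespace Pkg

/-- The point of a vector. -/
noncomputable def pt (h : Pkg c M W) (u : Sp c) : Submodule (ZMod 2) (Sp c) :=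
  Submodule.span (ZMod 2) {u, (spForm h.hc).ρ (spForm h.hc).p u}

theorem mem_pt (h : Pkg c M W) {u v : Sp c} :
    v ∈ h.pt u ↔ v = 0 ∨ v = u ∨ v = (spForm h.hc).ρ (spForm h.hc).p u ∨
      v = (spForm h.hc).ρ (spForm h.hc).p ((spForm h.hc).ρ (spForm h.hc).p u) := by
  set f := spForm h.hc with hf
  have hsum : f.ρ f.p (f.ρ f.p u) = u + f.ρ f.p u := by
    rw [← sub_eq_zero, Form.sub_eq_add, add_comm]; exact f.p_sum u
  constructor
  · intro hv
    rw [pt, Submodule.mem_span_pair] at hv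
    obtain ⟨r, s, rfl⟩ := hv
    have h01 : ∀ t : ZMod 2, t = 0 ∨ t = 1 := by decide
    rcases h01 r with rfl | rfl <;> rcases h01 s with rfl | rfl <;>
      simp only [zero_smul, one_smul, zero_add, add_zero] <;> simp [← hf, hsum]
  · have h1 : u ∈ h.pt u := Submodule.subset_span (Or.inl rfl)
    have h2 : f.ρ f.p u ∈ h.pt u := Submodule.subset_span (Or.inr rfl)
    rintro (rfl | rfl | rfl | rfl)
    exacts [Submodule.zero_mem _, h1, h2, hsum ▸ Submodule.add_mem _ h1 h2]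

theorem pt_inv (h : Pkg c M W) (u : Sp c) : (spForm h.hc).Inv (spForm h.hc).p (h.pt u) := by
  intro v hv
  rw [h.mem_pt] at hv ⊢
  rcases hv with rfl | rfl | rfl | rfl
  · exact Or.inl (map_zero _)
  · exact Or.inr (Or.inr (Or.inl rfl))
  · exact Or.inr (Or.inr (Or.inr rfl))
  · exact Or.inr (Or.inl ((spForm h.hc).p_apply_three u))

theorem self_mem_pt (h : Pkg c M W) (u : Sp c) : u ∈ h.pt u := Submodule.subset_span (Or.inl rfl)

theorem finrank_pt (h : Pkg c M W) {u : Sp c} (hu : u ≠ 0) : finrank (ZMod 2) (h.pt u) = 2 := by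
  classical
  haveI := finite_sp h.hc
  obtain ⟨m, hm⟩ := (spForm h.hc).even_finrank (h.pt_inv u)
  have h2 : finrank (ZMod 2) (h.pt u) ≤ 2 := by
    have e : h.pt u = Submodule.span (ZMod 2) (↑({u, (spForm h.hc).ρ (spForm h.hc).p u} : Finset (Sp c))) := by
      simp [pt]
    rw [e]
    exact (finrank_span_finset_le_card _).trans Finset.card_le_two
  have h1 : finrank (ZMod 2) (h.pt u) ≠ 0 := fun e => hu (by
    have := h.self_mem_pt u
    rw [Submodule.finrank_eq_zero.1 e] at this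
    exact (Submodule.mem_bot _).1 this)
  omega

/-- The line of an element of `W`. -/
noncomputable def Ln (h : Pkg c M W) (α : A) : Submodule (ZMod 2) (Sp c) := by
  classical
  exact if hα : α ∈ W then (spForm h.hc).mov (h.lft (h.E5_surj hα).choose_spec.1) else ⊥

theorem Ln_eq (h : Pkg c M W) {w : G} (hw : w ∈ h.E5) :
    h.Ln (c.pr w) = (spForm h.hc).mov (h.lft hw) := by
  classical
  rw [Ln, dif_pos hw.2.1]
  obtain ⟨hl, hpl⟩ := (h.E5_surj hw.2.1).choose_spec
  set v := (h.E5_surj hw.2.1).choose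
  have hρ : (spForm h.hc).ρ (h.lft hl) = (spForm h.hc).ρ (h.lft hw) := by
    refine LinearMap.ext fun x => ?_
    obtain ⟨a, ha, rfl⟩ := vec_surj c x
    rw [spForm_ρ h.hc _ ha, spForm_ρ h.hc _ ha]
    show vec c (v * a * v⁻¹) = vec c (w * a * w⁻¹)
    rcases h.E5_ker (mul_mem hl (inv_mem hw))
      (by rw [h.pr_mul_C hl.1 (inv_mem hw.1), h.pr_inv_C hw.1, hpl, mul_inv_cancel]) with e | e
    · rw [mul_inv_eq_one.1 e]
    · have hwa := h.hc.conjE (mem_inf.1 hw.1).1 ha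
      rw [mul_inv_eq_iff_eq_mul.1 e, show c.z * w * a * (c.z * w)⁻¹ = c.z * (w * a * w⁻¹) * c.z⁻¹ by group,
        h.hc.z_comm hwa, mul_inv_cancel_right]
  show LinearMap.range ((spForm h.hc).ρ (h.lft hl) - 1) = LinearMap.range _
  rw [hρ]

theorem Ln_le (h : Pkg c M W) {α : A} (hα : α ∈ W) : h.Ln α ≤ h.X := by
  obtain ⟨w, hw, rfl⟩ := h.E5_surj hα
  rw [h.Ln_eq hw]; exact h.mov_le_X hw

theorem finrank_Ln (h : Pkg c M W) {α : A} (hα : α ∈ W) (h1 : α ≠ 1) :
    finrank (ZMod 2) (h.Ln α) = 4 := by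
  obtain ⟨w, hw, rfl⟩ := h.E5_surj hα
  rw [h.Ln_eq hw]; exact h.finrank_mov_E5 hw h1

theorem Ln_inv (h : Pkg c M W) (α : A) : (spForm h.hc).Inv (spForm h.hc).p (h.Ln α) := by
  by_cases hα : α ∈ W
  · obtain ⟨w, hw, rfl⟩ := h.E5_surj hα
    rw [h.Ln_eq hw]
    exact (spForm h.hc).inv_mov_of_commute ((spForm h.hc).cen _).symm
  · rw [Ln, dif_neg hα]
    intro u hu
    rw [Submodule.mem_bot] at hu ⊢
    rw [hu, map_zero]

theorem Ln_inj (h : Pkg c M W) {α β : A} (hα : α ∈ W) (hβ : β ∈ W) (hα1 : α ≠ 1) (hβ1 : β ≠ 1)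
    (e : h.Ln α = h.Ln β) : α = β := by
  haveI := finite_sp h.hc
  obtain ⟨v, hv, rfl⟩ := h.E5_surj hα
  obtain ⟨w, hw, rfl⟩ := h.E5_surj hβ
  rw [h.Ln_eq hv, h.Ln_eq hw, Form.mov_eq_orthogonal, Form.mov_eq_orthogonal] at e
  by_contra hne
  have hfix : (spForm h.hc).fix (h.lft hv) = (spForm h.hc).fix (h.lft hw) := by
    have := congrArg (spForm h.hc).β.orthogonal e
    rwa [LinearMap.BilinForm.orthogonal_orthogonal (spForm h.hc).nd (spForm h.hc).alt.isRefl,
      LinearMap.BilinForm.orthogonal_orthogonal (spForm h.hc).nd (spForm h.hc).alt.isRefl] at this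
  have h8 := h.finrank_fix_E5 hv hα1
  have hX := h.inf_fix hv hw hα1 hβ1 hne
  change (spForm h.hc).fix (h.lft hv) ⊓ (spForm h.hc).fix (h.lft hw) = h.X at hX
  rw [← hfix, inf_idem] at hX
  rw [hX, h.finrank_X] at h8
  omega

theorem Ln_map (h : Pkg c M W) {n : c.C} (hn : c.pr (n : G) ∈ normalizer (W : Set A)) {α : A}
    (hα : α ∈ W) {u : Sp c} (hu : u ∈ h.Ln α) :
    (spForm h.hc).ρ n u ∈ h.Ln (c.pr (n : G) * α * (c.pr (n : G))⁻¹) := by
  set f := spForm h.hc
  obtain ⟨w, hw, rfl⟩ := h.E5_surj hα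
  have hw' := h.E5_conj (c.C_le_Nh n.2) hn hw
  rw [← h.hc.pr_conj (mem_inf.1 n.2).1 (mem_inf.1 hw.1).1, h.Ln_eq hw', f.mem_mov]
  rw [h.Ln_eq hw, f.mem_mov] at hu
  obtain ⟨v, rfl⟩ := hu
  refine ⟨f.ρ n v, ?_⟩
  rw [map_add, show h.lft hw' = n * h.lft hw * n⁻¹ from rfl, f.mul_apply, f.mul_apply, f.inv_cancel]

/-- The number of lines through a vector. -/
noncomputable def deg (h : Pkg c M W) (u : Sp c) : ℕ := {α : A | (α ∈ W ∧ α ≠ 1) ∧ u ∈ h.Ln α}.ncard

theorem deg_conj (h : Pkg c M W) {n : c.C} (hn : c.pr (n : G) ∈ normalizer (W : Set A)) (u : Sp c) :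
    h.deg ((spForm h.hc).ρ n u) = h.deg u := by
  haveI := h.finiteA
  have key : ∀ {n : c.C}, c.pr (n : G) ∈ normalizer (W : Set A) → ∀ u : Sp c,
      h.deg u ≤ h.deg ((spForm h.hc).ρ n u) := by
    intro n hn u
    refine Set.ncard_le_ncard_of_injOn (fun α => c.pr (n : G) * α * (c.pr (n : G))⁻¹) ?_
      (fun a _ b _ e => mul_left_cancel (mul_right_cancel e)) (Set.toFinite _)
    rintro α ⟨⟨hα, hα1⟩, hu⟩
    refine ⟨⟨(mem_normalizer_iff.1 hn α).1 hα, fun e => hα1 ?_⟩, h.Ln_map hn hα hu⟩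
    rw [mul_inv_eq_one] at e
    exact mul_eq_left.1 e
  have hi : c.pr ((n⁻¹ : c.C) : G) ∈ normalizer (W : Set A) := by
    rw [InvMemClass.coe_inv, h.pr_inv_C n.2]; exact inv_mem hn
  refine le_antisymm ?_ (key hn u)
  have := key hi ((spForm h.hc).ρ n u)
  rwa [(spForm h.hc).inv_cancel] at this

theorem inf_Ln (h : Pkg c M W) {α β : A} {u : Sp c} (hα : α ∈ W) (hβ : β ∈ W) (hα1 : α ≠ 1)
    (hβ1 : β ≠ 1) (hne : α ≠ β) (hu : u ≠ 0) (ha : u ∈ h.Ln α) (hb : u ∈ h.Ln β) :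
    h.Ln α ⊓ h.Ln β = h.pt u := by
  haveI := finite_sp h.hc
  have hle : h.pt u ≤ h.Ln α ⊓ h.Ln β := Submodule.span_le.2 (by
    rintro x (rfl | rfl)
    exacts [⟨ha, hb⟩, ⟨h.Ln_inv α _ ha, h.Ln_inv β _ hb⟩])
  obtain ⟨m, hm⟩ := (spForm h.hc).even_finrank ((spForm h.hc).inv_inf (h.Ln_inv α) (h.Ln_inv β))
  have h4 := Submodule.finrank_mono (inf_le_left : h.Ln α ⊓ h.Ln β ≤ h.Ln α)
  rw [h.finrank_Ln hα hα1] at h4
  have hne4 : finrank (ZMod 2) ↥(h.Ln α ⊓ h.Ln β) ≠ 4 := fun e => hne (h.Ln_inj hα hβ hα1 hβ1 (by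
    rw [← Submodule.eq_of_le_of_finrank_eq (inf_le_left : h.Ln α ⊓ h.Ln β ≤ h.Ln α)
      (e.trans (h.finrank_Ln hα hα1).symm)]
    exact Submodule.eq_of_le_of_finrank_eq inf_le_right (e.trans (h.finrank_Ln hβ hβ1).symm)))
  refine (Submodule.eq_of_le_of_finrank_eq hle ?_).symm
  have h2 := Submodule.finrank_mono hle
  rw [h.finrank_pt hu] at h2 ⊢
  omega

theorem ncard_sub (h : Pkg c M W) {U : Submodule (ZMod 2) (Sp c)} {k : ℕ}
    (hk : finrank (ZMod 2) U = k) : ((U : Set (Sp c))).ncard = 2 ^ k := by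
  haveI := finite_sp h.hc
  rw [← Nat.card_coe_set_eq]
  show Nat.card U = 2 ^ k
  rw [Module.natCard_eq_pow_finrank (K := ZMod 2) (V := U), Nat.card_zmod, hk]

/-- At most five lines pass through a vector, and five cover the half. -/
theorem deg_le (h : Pkg c M W) {u : Sp c} (hu : u ∈ h.X) (hu0 : u ≠ 0) :
    h.deg u ≤ 5 ∧ (h.deg u = 5 → ∀ v ∈ h.X, ∃ α ∈ W, α ≠ 1 ∧ u ∈ h.Ln α ∧ v ∈ h.Ln α) := by
  classical
  haveI := h.finiteA
  haveI := finite_sp h.hc
  haveI := Fintype.ofFinite A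
  haveI := Fintype.ofFinite (Sp c)
  set I : Finset A := Finset.univ.filter fun α => (α ∈ W ∧ α ≠ 1) ∧ u ∈ h.Ln α with hI
  have hIc : h.deg u = I.card := by
    rw [deg, Set.ncard_eq_toFinset_card', hI]
    congr 1
    ext α
    simp
  let Ls : A → Finset (Sp c) := fun α => ((h.Ln α : Set (Sp c)) \ (h.pt u : Set (Sp c))).toFinset
  have hmemI : ∀ α ∈ I, α ∈ W ∧ α ≠ 1 ∧ u ∈ h.Ln α := fun α hα => by
    simp only [hI, Finset.mem_filter, Finset.mem_univ, true_and] at hα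
    exact ⟨hα.1.1, hα.1.2, hα.2⟩
  have hdis : (I : Set A).PairwiseDisjoint Ls := by
    intro α hα β hβ hne
    obtain ⟨ha, ha1, hau⟩ := hmemI α hα
    obtain ⟨hb, hb1, hbu⟩ := hmemI β hβ
    simp only [Function.onFun, Ls, Finset.disjoint_left, Set.mem_toFinset, Set.mem_sdiff,
      SetLike.mem_coe]
    rintro x ⟨hxa, hxp⟩ ⟨hxb, -⟩
    exact hxp (h.inf_Ln ha hb ha1 hb1 hne hu0 hau hbu ▸ ⟨hxa, hxb⟩)
  have hcard : ∀ α ∈ I, (Ls α).card = 12 := by
    intro α hα
    obtain ⟨ha, ha1, hau⟩ := hmemI α hα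
    have hsub : h.pt u ≤ h.Ln α := Submodule.span_le.2 (by
      rintro x (rfl | rfl)
      exacts [hau, h.Ln_inv α _ hau])
    rw [← Set.ncard_eq_toFinset_card', Set.ncard_sdiff hsub (Set.toFinite _),
      h.ncard_sub (h.finrank_Ln ha ha1), h.ncard_sub (h.finrank_pt hu0)]
    rfl
  set T : Finset (Sp c) := ((h.X : Set (Sp c)) \ (h.pt u : Set (Sp c))).toFinset with hT
  have hTc : T.card = 60 := by
    have hsub : h.pt u ≤ h.X := Submodule.span_le.2 (by
      rintro x (rfl | rfl)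
      exacts [hu, (spForm h.hc).inv_p_fixAll _ _ hu])
    rw [hT, ← Set.ncard_eq_toFinset_card', Set.ncard_sdiff hsub (Set.toFinite _),
      h.ncard_sub h.finrank_X, h.ncard_sub (h.finrank_pt hu0)]
    rfl
  have hsubT : I.biUnion Ls ⊆ T := by
    intro x hx
    obtain ⟨α, hα, hxα⟩ := Finset.mem_biUnion.1 hx
    simp only [Ls, hT, Set.mem_toFinset, Set.mem_sdiff, SetLike.mem_coe] at hxα ⊢
    exact ⟨h.Ln_le (hmemI α hα).1 hxα.1, hxα.2⟩
  have hu12 : (I.biUnion Ls).card = I.card * 12 := by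
    rw [Finset.card_biUnion hdis, Finset.sum_congr rfl hcard, Finset.sum_const, smul_eq_mul]
  have hle := Finset.card_le_card hsubT
  rw [hu12, hTc] at hle
  refine ⟨by omega, fun h5 v hv => ?_⟩
  rw [hIc] at h5
  have heq : I.biUnion Ls = T := Finset.eq_of_subset_of_card_le hsubT (by rw [hu12, hTc, h5])
  by_cases hvp : v ∈ h.pt u
  · obtain ⟨α, hα⟩ : I.Nonempty := Finset.card_pos.1 (by omega)
    obtain ⟨ha, ha1, hau⟩ := hmemI α hα
    refine ⟨α, ha, ha1, hau, ?_⟩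
    exact (Submodule.span_le.2 (by
      rintro x (rfl | rfl)
      exacts [hau, h.Ln_inv α _ hau])) hvp
  · have : v ∈ I.biUnion Ls := heq ▸ (by simp [hT, hv, hvp])
    obtain ⟨α, hα, hvα⟩ := Finset.mem_biUnion.1 this
    obtain ⟨ha, ha1, hau⟩ := hmemI α hα
    simp only [Ls, Set.mem_toFinset, Set.mem_sdiff, SetLike.mem_coe] at hvα
    exact ⟨α, ha, ha1, hau, hvα.1⟩

/-- The special vectors. -/
noncomputable def S18 (h : Pkg c M W) : Set (Sp c) := vec c '' h.fib h.rest 1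

theorem mem_S18 (h : Pkg c M W) {a : G} (ha : a ∈ h.A7) :
    a ∈ h.fib h.rest 1 ↔ vec c a ∈ h.S18 := by
  refine ⟨fun h1 => ⟨a, h1, rfl⟩, ?_⟩
  rintro ⟨b, hb, e⟩
  have hbA := h.mem_A7_of_pr (h.rest_inv.sub hb.1) hb.2
  rcases (vec_eq_iff h.hc (mem_inf.1 ha).1 (mem_inf.1 hbA).1).1 e.symm with rfl | rfl
  · exact hb
  · obtain ⟨e', he', heb⟩ := h.exists_flip (mem_inf.1 hbA).1 hb.1.1.2
      (fun e'' => hb.1.2 (e'' ▸ self_mem_conjSet _ _))
    exact ⟨heb ▸ h.rest_inv.inv e' (h.E_le_NH he') b hb.1, h.hc.pr_E (mem_inf.1 ha).1⟩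

theorem S18_facts (h : Pkg c M W) (hF : HasFus c M) :
    h.S18.ncard = 18 ∧ (∀ v ∈ h.S18, v ∈ h.X ∧ v ≠ 0) ∧
    ∀ n : c.C, c.pr (n : G) ∈ normalizer (W : Set A) → ∀ v ∈ h.S18, (spForm h.hc).ρ n v ∈ h.S18 := by
  have hA : ∀ x ∈ h.fib h.rest 1, x ∈ h.A7 ∧ x ≠ 1 ∧ x ≠ c.z := fun x hx =>
    ⟨h.mem_A7_of_pr (h.rest_inv.sub hx.1) hx.2, hx.1.1.2,
      fun e => hx.1.2 (e ▸ self_mem_conjSet _ _)⟩
  have hQ : h.Inv (h.fib h.rest 1) := ⟨fun x hx => h.rest_inv.sub hx.1, fun g hg x hx =>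
    ⟨h.rest_inv.inv g hg x hx.1, by
      rw [h.hc.pr_conj hg.1 (h.V_le_H (h.rest_inv.sub hx.1)), hx.2, mul_one, mul_inv_cancel]⟩⟩
  refine ⟨?_, ?_, ?_⟩
  · have := (h.ncard_A7_inv hQ hA).2
    rw [(h.rest_A7 hF).1] at this
    show (vec c '' h.fib h.rest 1).ncard = 18
    omega
  · rintro _ ⟨a, ha, rfl⟩
    obtain ⟨haA, ha1, haz⟩ := hA a ha
    refine ⟨by rw [h.A7_eq_pre] at haA; exact haA.2, fun e => ?_⟩
    rcases (vec_eq_zero h.hc (mem_inf.1 haA).1).1 e with e' | e'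
    exacts [ha1 e', haz e']
  · rintro n hn _ ⟨a, ha, rfl⟩
    exact ⟨_, hQ.inv _ (h.NC_le_NH ⟨n.2, hn⟩) a ha, (spForm_ρ h.hc n (mem_inf.1 (hA a ha).1).1).symm⟩

/-- No three special points are collinear. -/
theorem S18_cross (h : Pkg c M W) (hF : HasFus c M) {u u' : Sp c} (hu : u ∈ h.S18) (hu' : u' ∈ h.S18)
    (hne : u' ∉ h.pt u) : u + u' ∉ h.S18 := by
  classical
  haveI := h.finiteA
  haveI := finite_sp h.hc
  haveI := Fintype.ofFinite A
  haveI := Fintype.ofFinite (Sp c)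
  set f := spForm h.hc with hf
  obtain ⟨h18, hSX, hSinv⟩ := h.S18_facts hF
  set S45 : Set (Sp c) := ((h.X : Set (Sp c)) \ {0}) \ h.S18 with hS45
  have hsub : h.S18 ⊆ (h.X : Set (Sp c)) \ {0} := fun v hv => ⟨(hSX v hv).1, (hSX v hv).2⟩
  have h45 : S45.ncard = 45 := by
    rw [hS45, Set.ncard_sdiff hsub (Set.toFinite _), h18,
      Set.ncard_sdiff_singleton_of_mem (by exact h.X.zero_mem), h.ncard_sub h.finrank_X]
    rfl
  have hXinv : ∀ n : c.C, c.pr (n : G) ∈ normalizer (W : Set A) → ∀ v ∈ h.X, f.ρ n v ∈ h.X := by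
    intro n hn
    exact f.inv_fixAll fun w hw => by
      simpa using (mem_normalizer_iff.1 (inv_mem (h.mem_normalizer_E5C hn)) w).1 hw
  have h45inv : ∀ n : c.C, c.pr (n : G) ∈ normalizer (W : Set A) → ∀ v ∈ S45, f.ρ n v ∈ S45 := by
    rintro n hn v ⟨⟨hv, hv0⟩, hv18⟩
    refine ⟨⟨hXinv n hn v hv, fun e => hv0 ?_⟩, fun e => hv18 ?_⟩
    · rw [Set.mem_singleton_iff] at e ⊢
      rw [← f.inv_cancel n v, e, map_zero]
    · have hi : c.pr ((n⁻¹ : c.C) : G) ∈ normalizer (W : Set A) := by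
        rw [InvMemClass.coe_inv, h.pr_inv_C n.2]; exact inv_mem hn
      have := hSinv n⁻¹ hi _ e
      rwa [← hf, f.inv_cancel] at this
  -- orbits
  have horb : ∀ (S : Set (Sp c)), (∀ v ∈ S, v ∈ h.X ∧ v ≠ 0) → (S.ncard = 18 ∨ S.ncard = 45) →
      (∀ n : c.C, c.pr (n : G) ∈ normalizer (W : Set A) → ∀ v ∈ S, f.ρ n v ∈ S) →
      ∀ a ∈ S, ∀ b ∈ S, h.deg a = h.deg b := by
    intro S hS hcard hinv a ha b hb
    set O : Set (Sp c) := {v | ∃ n : c.C, c.pr (n : G) ∈ normalizer (W : Set A) ∧ f.ρ n a = v} with hO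
    have hOS : O ⊆ S := by rintro v ⟨n, hn, rfl⟩; exact hinv n hn a ha
    have hO' : ∀ n : c.C, c.pr (n : G) ∈ normalizer (W : Set A) → ∀ v ∈ O, f.ρ n v ∈ O := by
      rintro n hn v ⟨m, hm, rfl⟩
      refine ⟨n * m, ?_, f.mul_apply n m a⟩
      rw [MulMemClass.coe_mul, h.pr_mul_C n.2 m.2]; exact mul_mem hn hm
    have hpos : 0 < O.ncard := (Set.ncard_pos (Set.toFinite _)).2
      ⟨a, 1, by rw [OneMemClass.coe_one, h.hc.pr_one]; exact one_mem _, f.one_apply a⟩
    have h1 := h.ncard_vec_inv O (fun v hv => hS v (hOS hv)) hO'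
    have h2 := h.ncard_vec_inv (S \ O) (fun v hv => hS v hv.1) (fun n hn v hv => ⟨hinv n hn v hv.1,
      fun e => hv.2 (by
        have hi : c.pr ((n⁻¹ : c.C) : G) ∈ normalizer (W : Set A) := by
          rw [InvMemClass.coe_inv, h.pr_inv_C n.2]; exact inv_mem hn
        have := hO' n⁻¹ hi _ e
        rwa [f.inv_cancel] at this)⟩)
    have h3 := Set.ncard_sdiff_add_ncard_of_subset hOS (Set.toFinite _)
    simp only [List.mem_cons, List.not_mem_nil, or_false] at h1 h2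
    have heq : O = S := Set.eq_of_subset_of_ncard_le hOS (by omega) (Set.toFinite _)
    rw [← heq] at hb
    obtain ⟨n, hn, rfl⟩ := hb
    exact (h.deg_conj hn a).symm
  -- double counting
  obtain ⟨v0, hv0⟩ := Set.nonempty_of_ncard_ne_zero (s := S45) (by omega)
  set I : Finset A := Finset.univ.filter fun α => α ∈ W ∧ α ≠ 1 with hI
  have hIc : I.card = 15 := by
    have e : I = (Finset.univ.filter fun α => α ∈ W).erase 1 := by
      ext α; simp [hI, and_comm]
    rw [e, Finset.card_erase_of_mem (by simp), ← Fintype.card_subtype, ← Nat.card_eq_fintype_card]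
    show Nat.card W - 1 = 15
    rw [h.hW.card]
  have hdeg : ∀ v, h.deg v = (I.filter fun α => v ∈ h.Ln α).card := by
    intro v
    rw [deg, Set.ncard_eq_toFinset_card', hI, Finset.filter_filter]
    congr 1
    ext α
    simp
  have hdc := Finset.sum_card_bipartiteAbove_eq_sum_card_bipartiteBelow
    (fun (v : Sp c) (α : A) => v ∈ h.Ln α) (s := ((h.X : Set (Sp c)) \ {0}).toFinset) (t := I)
  have hR : ∀ α ∈ I, (((h.X : Set (Sp c)) \ {0}).toFinset.bipartiteBelow
      (fun v α => v ∈ h.Ln α) α).card = 15 := by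
    intro α hα
    simp only [hI, Finset.mem_filter, Finset.mem_univ, true_and] at hα
    have e : ((h.X : Set (Sp c)) \ {0}).toFinset.bipartiteBelow (fun v α => v ∈ h.Ln α) α =
        ((h.Ln α : Set (Sp c)) \ {0}).toFinset := by
      ext v
      simp only [Finset.bipartiteBelow, Finset.mem_filter, Set.mem_toFinset, Set.mem_sdiff,
        SetLike.mem_coe]
      exact ⟨fun hv => ⟨hv.2, hv.1.2⟩, fun hv => ⟨⟨h.Ln_le hα.1 hv.1, hv.2⟩, hv.1⟩⟩
    rw [e, ← Set.ncard_eq_toFinset_card', Set.ncard_sdiff_singleton_of_mem (by exact Submodule.zero_mem _),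
      h.ncard_sub (h.finrank_Ln hα.1 hα.2)]
    rfl
  have hsplit : ((h.X : Set (Sp c)) \ {0}).toFinset = h.S18.toFinset ∪ S45.toFinset := by
    rw [← Set.toFinset_union, Set.toFinset_inj, hS45, Set.union_sdiff_cancel hsub]
  have hdisj : Disjoint h.S18.toFinset S45.toFinset :=
    Set.disjoint_toFinset.2 Set.disjoint_sdiff_right
  have hL : ∀ v : Sp c, (I.bipartiteAbove (fun v α => v ∈ h.Ln α) v).card = h.deg v := fun v =>
    (hdeg v).symm
  rw [Finset.sum_congr rfl hR, Finset.sum_congr rfl (fun v _ => hL v), hsplit,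
    Finset.sum_union hdisj,
    Finset.sum_congr rfl (g := fun _ => h.deg u) (fun v hv => horb h.S18 hSX (Or.inl h18) hSinv v
      (Set.mem_toFinset.1 hv) u hu),
    Finset.sum_congr rfl (g := fun _ => h.deg v0) (fun v hv => horb S45
      (fun w hw => ⟨hw.1.1, hw.1.2⟩) (Or.inr h45) h45inv v (Set.mem_toFinset.1 hv) v0 hv0),
    Finset.sum_const, Finset.sum_const, Finset.sum_const, ← Set.ncard_eq_toFinset_card',
    ← Set.ncard_eq_toFinset_card', h18, h45, hIc, smul_eq_mul, smul_eq_mul, smul_eq_mul] at hdc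
  obtain ⟨ha5, hcov⟩ := h.deg_le (hSX u hu).1 (hSX u hu).2
  obtain ⟨hb5, -⟩ := h.deg_le hv0.1.1 hv0.1.2
  rcases (by omega : h.deg u = 5 ∧ h.deg v0 = 3 ∨ h.deg u = 0 ∧ h.deg v0 = 5) with ⟨hu5, -⟩ | ⟨hu0, hv5⟩
  · -- two points of a line are all its special points
    intro hsum
    obtain ⟨α, hα, hα1, hua, hu'a⟩ := hcov hu5 u' (hSX u' hu').1
    -- each line has six special vectors
    have hsix : ∀ β ∈ I, ((h.Ln β : Set (Sp c)) ∩ h.S18).ncard = 6 := by
      have hconst : ∀ β ∈ I, ∀ γ ∈ I, ((h.Ln β : Set (Sp c)) ∩ h.S18).ncard ≤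
          ((h.Ln γ : Set (Sp c)) ∩ h.S18).ncard := by
        intro β hβ γ hγ
        simp only [hI, Finset.mem_filter, Finset.mem_univ, true_and] at hβ hγ
        obtain ⟨g, hg, e⟩ := h.hW.trans β hβ.1 γ hγ.1 hβ.2 hγ.2
        obtain ⟨n, hn, hng⟩ := h.hc.C_surj h.hd (mem_inf.1 hg).1
        have hnN : c.pr ((⟨n, hn⟩ : c.C) : G) ∈ normalizer (W : Set A) := by
          show c.pr n ∈ _; rw [hng]; exact (mem_inf.1 hg).2
        refine Set.ncard_le_ncard_of_injOn (f.ρ (⟨n, hn⟩ : c.C)) ?_ ?_ (Set.toFinite _)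
        · rintro v ⟨hv, hv'⟩
          refine ⟨?_, hSinv _ hnN v hv'⟩
          have := h.Ln_map hnN hβ.1 hv
          rwa [show c.pr ((⟨n, hn⟩ : c.C) : G) = g from hng, e] at this
        · intro a _ b _ e'
          have := congrArg (f.ρ (⟨n, hn⟩ : c.C)⁻¹) e'
          rwa [f.inv_cancel, f.inv_cancel] at this
      intro β hβ
      have hd2 := Finset.sum_card_bipartiteAbove_eq_sum_card_bipartiteBelow
        (fun (v : Sp c) (α : A) => v ∈ h.Ln α) (s := h.S18.toFinset) (t := I)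
      have hR2 : ∀ γ ∈ I, (h.S18.toFinset.bipartiteBelow (fun v α => v ∈ h.Ln α) γ).card =
          ((h.Ln β : Set (Sp c)) ∩ h.S18).ncard := by
        intro γ hγ
        rw [le_antisymm (hconst β hβ γ hγ) (hconst γ hγ β hβ), Set.ncard_eq_toFinset_card']
        congr 1
        ext v
        simp [Finset.bipartiteBelow, and_comm]
      rw [Finset.sum_congr rfl hR2, Finset.sum_congr rfl (fun v _ => hL v),
        Finset.sum_congr rfl (g := fun _ => h.deg u) (fun v hv => horb h.S18 hSX (Or.inl h18) hSinv v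
          (Set.mem_toFinset.1 hv) u hu),
        Finset.sum_const, Finset.sum_const, ← Set.ncard_eq_toFinset_card', h18, hIc, hu5,
        smul_eq_mul, smul_eq_mul] at hd2
      omega
    have h6 := hsix α (by simp [hI, hα, hα1])
    set P3 : Sp c → Finset (Sp c) := fun v => {v, f.ρ f.p v, f.ρ f.p (f.ρ f.p v)} with hP3
    have hp3 : ∀ v, v ∈ h.Ln α → v ∈ h.S18 → ∀ w ∈ P3 v, w ∈ (h.Ln α : Set (Sp c)) ∩ h.S18 := by
      intro v hv hv' w hw
      have hpr : c.pr ((f.p : c.C) : G) ∈ normalizer (W : Set A) := by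
        rw [h.hc.pr_P (spForm_p_mem h.hc).1]; exact one_mem _
      simp only [hP3, Finset.mem_insert, Finset.mem_singleton] at hw
      rcases hw with rfl | rfl | rfl
      · exact ⟨hv, hv'⟩
      · exact ⟨h.Ln_inv α _ hv, hSinv _ hpr _ hv'⟩
      · exact ⟨h.Ln_inv α _ (h.Ln_inv α _ hv), hSinv _ hpr _ (hSinv _ hpr _ hv')⟩
    have hc3 : ∀ v : Sp c, v ≠ 0 → (P3 v).card = 3 := by
      intro v hv
      have hne' : f.ρ f.p v ≠ v := fun e => hv (f.fpf _ e)
      have hne'' : f.ρ f.p (f.ρ f.p v) ≠ f.ρ f.p v := fun e => hv (by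
        have h0 := f.fpf _ e
        rw [← f.p_apply_three v, h0, map_zero, map_zero])
      have hne3 : f.ρ f.p (f.ρ f.p v) ≠ v := fun e => hne' (by
        conv_rhs => rw [← f.p_apply_three v, e])
      exact Finset.card_eq_three.2 ⟨_, _, _, hne'.symm, hne3.symm, hne''.symm, rfl⟩
    have hptmem : ∀ {v w}, w ∈ P3 v → w ∈ h.pt v := fun {v w} hw => by
      simp only [hP3, Finset.mem_insert, Finset.mem_singleton] at hw
      rw [h.mem_pt]
      rcases hw with e | e | e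
      exacts [Or.inr (Or.inl e), Or.inr (Or.inr (Or.inl e)), Or.inr (Or.inr (Or.inr e))]
    have hsame : ∀ {v w x}, x ∈ P3 v → x ∈ P3 w → w ∈ h.pt v := by
      intro v w x hx hx'
      have hxv := hptmem hx
      have hinv := h.pt_inv v
      simp only [hP3, Finset.mem_insert, Finset.mem_singleton] at hx'
      rcases hx' with rfl | rfl | rfl
      · exact hxv
      · have := hinv _ (hinv _ hxv)
        rwa [f.p_apply_three] at this
      · have := hinv _ hxv
        rwa [f.p_apply_three] at this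
    have hne2 : u + u' ∉ h.pt u := fun e => hne (by
      have := (h.pt u).add_mem (h.self_mem_pt u) e
      rwa [← add_assoc, add_self_sp, zero_add] at this)
    have hne3 : u + u' ∉ h.pt u' := fun e => hne (by
      have hu2 := (h.pt u').add_mem e (h.self_mem_pt u')
      rw [add_assoc, add_self_sp, add_zero] at hu2
      rw [h.mem_pt] at hu2 ⊢
      rcases hu2 with e' | e' | e' | e'
      · exact absurd e' (hSX u hu).2
      · exact Or.inr (Or.inl e'.symm)
      · exact Or.inr (Or.inr (Or.inr (by rw [e']; exact (f.p_apply_three u').symm)))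
      · exact Or.inr (Or.inr (Or.inl (by rw [e']; exact (f.p_apply_three u').symm))))
    have d1 : Disjoint (P3 u) (P3 u') := Finset.disjoint_left.2 fun x hx hx' => hne (hsame hx hx')
    have d2 : Disjoint (P3 u ∪ P3 u') (P3 (u + u')) := Finset.disjoint_left.2 fun x hx hx' => by
      rcases Finset.mem_union.1 hx with hx | hx
      exacts [hne2 (hsame hx hx'), hne3 (hsame hx hx')]
    have hbig : P3 u ∪ P3 u' ∪ P3 (u + u') ⊆ ((h.Ln α : Set (Sp c)) ∩ h.S18).toFinset := by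
      intro w hw
      rw [Set.mem_toFinset]
      simp only [Finset.mem_union] at hw
      rcases hw with (hw | hw) | hw
      exacts [hp3 u hua hu w hw, hp3 u' hu'a hu' w hw, hp3 _ ((h.Ln α).add_mem hua hu'a) hsum w hw]
    have h9 := Finset.card_le_card hbig
    rw [Finset.card_union_of_disjoint d2, Finset.card_union_of_disjoint d1, hc3 u (hSX u hu).2,
      hc3 u' (hSX u' hu').2, hc3 (u + u') (hSX _ hsum).2, ← Set.ncard_eq_toFinset_card', h6] at h9
    omega
  · -- no special vector on a line: the special vectors would form a subgroup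
    exfalso
    let U : Submodule (ZMod 2) (Sp c) :=
      { carrier := {v | v = 0 ∨ v ∈ h.S18}
        zero_mem' := Or.inl rfl
        add_mem' := by
          intro a b ha hb
          rcases ha with rfl | ha
          · rwa [zero_add]
          rcases hb with rfl | hb
          · rw [add_zero]; exact Or.inr ha
          by_contra hab
          simp only [Set.mem_ofPred_eq, not_or] at hab
          have hab45 : a + b ∈ S45 := ⟨⟨h.X.add_mem (hSX a ha).1 (hSX b hb).1, hab.1⟩, hab.2⟩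
          have hd5 : h.deg (a + b) = 5 := (horb S45 (fun w hw => ⟨hw.1.1, hw.1.2⟩) (Or.inr h45) h45inv
            _ hab45 v0 hv0).trans hv5
          obtain ⟨α, hα, hα1, -, hmem⟩ := (h.deg_le hab45.1.1 hab45.1.2).2 hd5 a (hSX a ha).1
          have hpos : 0 < h.deg a :=
            (Set.ncard_pos (Set.toFinite _)).2 ⟨α, ⟨hα, hα1⟩, hmem⟩
          rw [horb h.S18 hSX (Or.inl h18) hSinv a ha u hu, hu0] at hpos
          omega
        smul_mem' := by
          intro r a ha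
          have h01 : ∀ t : ZMod 2, t = 0 ∨ t = 1 := by decide
          rcases h01 r with rfl | rfl
          · exact Or.inl (zero_smul _ a)
          · rwa [one_smul] }
    have hUc : (U : Set (Sp c)) = insert 0 h.S18 := rfl
    have h19 := h.ncard_sub (U := U) rfl
    rw [hUc, Set.ncard_insert_of_notMem (fun e => (hSX 0 e).2 rfl) (Set.toFinite _), h18] at h19
    have hk : finrank (ZMod 2) U < 5 := by
      by_contra hk
      have := Nat.pow_le_pow_right (show 2 > 0 by norm_num) (not_lt.1 hk)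
      omega
    interval_cases hh' : finrank (ZMod 2) U <;> omega

end Pkg

end Cfsg.Agent.H98.JFour
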