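import Cfsg.Agent.Cores.MovedFour
import Mathlib.GroupTheory.Sylow
import Mathlib.GroupTheory.SpecificGroups.Cyclic

/-!
Arithmetic of the orbit of the involution in the elementary abelian subgroup of order `2 ^ 11` of a
group of Janko-four type: the orbit has odd size `n` and `n * 138240` divides `|GL 11 2|`.
-/

set_option autoImplicit false
set_option linter.style.haveILetI false

namespace Cfsg.Agent.H98.JFour

open Subgroup MulAction

/-- A quadratic function with values in `ZMod 2` on at least eight elements has a nontrivial zero. -/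
theorem exists_zero_of_quadratic {V : Type*} [CommGroup V] [Finite V] (hV : ∀ a : V, a * a = 1)
    (h8 : 8 ≤ Nat.card V) (f : V → ZMod 2) (β : V → V → ZMod 2)
    (hβ : ∀ a b c, β (a * b) c = β a c + β b c)
    (hf : ∀ a b, f (a * b) = f a + f b + β a b) : ∃ a : V, a ≠ 1 ∧ f a = 0 := by
  classical
  haveI := Fintype.ofFinite V
  rw [Nat.card_eq_fintype_card] at h8
  by_contra h
  push Not at h
  have h1 : ∀ a : V, a ≠ 1 → f a = 1 := fun a ha => by
    have h01 : ∀ x : ZMod 2, x ≠ 0 → x = 1 := by decide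
    exact h01 _ (h a ha)
  have hb : ∀ a b : V, a ≠ 1 → b ≠ 1 → a ≠ b → β a b = 1 := fun a b ha hb hab => by
    have hne : a * b ≠ 1 := fun e => hab (mul_right_cancel (b := b) (by rw [e, hV]))
    have := hf a b
    rw [h1 _ ha, h1 _ hb, h1 _ hne] at this
    revert this
    generalize β a b = x
    revert x
    decide
  obtain ⟨a, ha⟩ : ∃ a : V, a ≠ 1 := Fintype.exists_ne_of_one_lt_card (by omega) 1
  obtain ⟨b, hb1⟩ : ∃ b : V, b ∉ ({1, a} : Finset V) := by
    by_contra hc
    push Not at hc
    have := Finset.card_le_card (s := Finset.univ) (t := ({1, a} : Finset V)) fun x _ => hc x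
    have := this.trans Finset.card_le_two
    rw [Finset.card_univ] at this
    omega
  obtain ⟨c, hc1⟩ : ∃ c : V, c ∉ ({1, a, b, a * b} : Finset V) := by
    by_contra hc
    push Not at hc
    have := Finset.card_le_card (s := Finset.univ) (t := ({1, a, b, a * b} : Finset V)) fun x _ => hc x
    have := this.trans Finset.card_le_four
    rw [Finset.card_univ] at this
    omega
  simp only [Finset.mem_insert, Finset.mem_singleton, not_or] at hb1 hc1
  obtain ⟨hb0, hba⟩ := hb1
  obtain ⟨hc0, hca, hcb, hcab⟩ := hc1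
  have hab : a * b ≠ 1 := fun e => hba (mul_left_cancel (a := a) (by rw [e, hV]))
  have e := hβ a b c
  rw [hb a c ha hc0 (Ne.symm hca), hb b c hb0 hc0 (Ne.symm hcb),
    hb (a * b) c hab hc0 (Ne.symm hcab)] at e
  exact absurd e (by decide)

/-- The only possible sizes of the orbit of the involution. -/
theorem orbit_candidates {f t : ℕ} (hf : f ∈ [0, 36, 90, 126]) (ht : t ∈ [0, 240, 480, 1440, 1680, 1920])
    (hne : f + t ≠ 0)
    (h : (1 + f + t) * 138240 ∣ ∏ i ∈ Finset.range 11, (2 ^ 11 - 2 ^ i)) :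
    1 + f + t = 127 ∨ 1 + f + t = 1771 ∨ 1 + f + t = 2047 := by
  revert hne h
  simp only [List.mem_cons, List.not_mem_nil, or_false] at hf ht
  rcases hf with rfl | rfl | rfl | rfl <;> rcases ht with rfl | rfl | rfl | rfl | rfl | rfl <;>
    decide +kernel

variable {Γ : Type*} [Group Γ] [Finite Γ]

/-- Sylow counting: the normaliser of a subgroup of order `p` has order `c * k` with `k ∣ p - 1`. -/
theorem exists_normalizer_card {p : ℕ} [hp : Fact p.Prime] (P : Sylow p Γ)
    (hP : Nat.card (P : Subgroup Γ) = p) :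
    ∃ k, k ∣ p - 1 ∧
      Nat.card (centralizer ((P : Subgroup Γ) : Set Γ)) * k * Nat.card (Sylow p Γ) = Nat.card Γ := by
  set N := normalizer ((P : Subgroup Γ) : Set Γ) with hN
  set C := centralizer ((P : Subgroup Γ) : Set Γ) with hC
  haveI : IsCyclic (P : Subgroup Γ) := isCyclic_of_prime_card hP
  refine ⟨(P : Subgroup Γ).normalizerMonoidHom.ker.index, ?_, ?_⟩
  · have h2 : Nat.card (MulAut (P : Subgroup Γ)) = p - 1 := by
      rw [IsCyclic.card_mulAut, hP, Nat.totient_prime hp.out]
    rw [← h2, index_ker]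
    exact card_subgroup_dvd_card _
  · rw [normalizerMonoidHom_ker]
    have h3 : Nat.card (C.subgroupOf N) = Nat.card C :=
      Nat.card_congr (subgroupOfEquivOfLe (centralizer_le_normalizer _)).toEquiv
    rw [← h3, card_mul_index, P.card_eq_index_normalizer]
    exact card_mul_index N

theorem false_of_orbit_127 {α : Type*} [MulAction Γ α] [FaithfulSMul Γ α]
    (hα : Nat.card α = 127) (hΓ : Nat.card Γ = 127 * 138240) : False := by
  classical
  haveI : Fact (Nat.Prime 127) := ⟨by norm_num⟩
  haveI : Finite α := Nat.finite_of_card_ne_zero (by omega)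
  haveI := Fintype.ofFinite α
  let P : Sylow 127 Γ := default
  have hP : Nat.card (P : Subgroup Γ) = 127 := by
    rw [P.card_eq_multiplicity, hΓ]
    have : (127 * 138240).factorization 127 = 1 := by
      rw [Nat.factorization_mul (by norm_num) (by norm_num), Finsupp.add_apply,
        Nat.Prime.factorization_self (by norm_num),
        Nat.factorization_eq_zero_of_not_dvd (by norm_num)]
    rw [this, pow_one]
  obtain ⟨k, hk, hcard⟩ := exists_normalizer_card P hP
  -- every orbit of `P` has 127 points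
  obtain ⟨x, hx⟩ : ∃ x : α, ∃ u ∈ (P : Subgroup Γ), u • x ≠ x := by
    by_contra hcon
    push Not at hcon
    have h1 : (P : Subgroup Γ) = ⊥ :=
      eq_bot_iff.2 fun u hu => mem_bot.2 (eq_of_smul_eq_smul (α := α) fun a => by rw [hcon a u hu, one_smul])
    rw [h1, card_bot] at hP
    omega
  obtain ⟨u, hu, hux⟩ := hx
  have hst : stabilizer (P : Subgroup Γ) x = ⊥ := by
    haveI : Fact (Nat.card (P : Subgroup Γ)).Prime := ⟨by rw [hP]; norm_num⟩
    rcases (stabilizer (P : Subgroup Γ) x).eq_bot_or_eq_top_of_prime_card with h | h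
    · exact h
    · exfalso
      have h2 : (⟨u, hu⟩ : (P : Subgroup Γ)) ∈ stabilizer (P : Subgroup Γ) x := h ▸ mem_top _
      exact hux (by simpa using h2)
  have horb : orbit (P : Subgroup Γ) x = Set.univ := by
    refine Set.eq_of_subset_of_ncard_le (Set.subset_univ _) ?_ (Set.toFinite _)
    rw [Set.ncard_univ, hα, ← index_stabilizer, hst, index_bot, hP]
  have hC : Nat.card (centralizer ((P : Subgroup Γ) : Set Γ)) ≤ 127 := by
    refine le_of_le_of_eq ?_ hα
    refine Nat.card_le_card_of_injective (fun c => (c : Γ) • x) fun c d h => Subtype.ext ?_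
    refine eq_of_smul_eq_smul (α := α) fun a => ?_
    obtain ⟨v, rfl⟩ : a ∈ orbit (P : Subgroup Γ) x := horb ▸ Set.mem_univ a
    show (c : Γ) • ((v : Γ) • x) = (d : Γ) • ((v : Γ) • x)
    rw [← mul_smul, ← mul_smul, ← mem_centralizer_iff.1 c.2 _ v.2,
      ← mem_centralizer_iff.1 d.2 _ v.2, mul_smul, mul_smul]
    exact congrArg ((v : Γ) • ·) h
  have hCge : 127 ∣ Nat.card (centralizer ((P : Subgroup Γ) : Set Γ)) := by
    haveI : IsCyclic (P : Subgroup Γ) := isCyclic_of_prime_card hP
    exact (dvd_of_eq hP.symm).trans (card_dvd_of_le (le_centralizer _))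
  have hC' : Nat.card (centralizer ((P : Subgroup Γ) : Set Γ)) = 127 :=
    le_antisymm hC (Nat.le_of_dvd Nat.card_pos hCge)
  rw [hC', hΓ, mul_assoc] at hcard
  have hn : k * Nat.card (Sylow 127 Γ) = 138240 := Nat.eq_of_mul_eq_mul_left (by norm_num) hcard
  have hmod : Nat.card (Sylow 127 Γ) ≡ 1 [MOD 127] := card_sylow_modEq_one 127 Γ
  have hkmem : k ∈ Nat.divisors 126 := Nat.mem_divisors.2 ⟨by simpa using hk, by norm_num⟩
  have hkd : k ∣ 138240 := Dvd.intro _ hn
  have hq : Nat.card (Sylow 127 Γ) = 138240 / k := by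
    rw [← hn, Nat.mul_div_cancel_left _ (Nat.pos_of_dvd_of_pos hkd (by norm_num))]
  rw [hq] at hmod
  have key : ∀ k ∈ Nat.divisors 126, k ∣ 138240 → (138240 / k) % 127 ≠ 1 := by decide +kernel
  exact key k hkmem hkd hmod

theorem false_of_orbit_2047 {V : Type*} [CommGroup V] (hV : ∀ a : V, a * a = 1)
    (hcard : Nat.card V = 2 ^ 11) (φ : Γ →* MulAut V) (hφ : Function.Injective φ)
    (hΓ : Nat.card Γ = 2047 * 138240) : False := by
  classical
  haveI : Fact (Nat.Prime 89) := ⟨by norm_num⟩
  haveI : Fact (Nat.Prime 2) := ⟨Nat.prime_two⟩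
  haveI : Finite V := Nat.finite_of_card_ne_zero (by rw [hcard]; norm_num)
  letI : MulAction Γ V := MulAction.compHom V φ
  have hsmul : ∀ (g : Γ) (v : V), g • v = φ g v := fun _ _ => rfl
  let P : Sylow 89 Γ := default
  have hP : Nat.card (P : Subgroup Γ) = 89 := by
    rw [P.card_eq_multiplicity, hΓ]
    have : (2047 * 138240).factorization 89 = 1 := by
      rw [show (2047 * 138240 : ℕ) = 89 * (23 * 138240) by norm_num,
        Nat.factorization_mul (by norm_num) (by norm_num), Finsupp.add_apply,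
        Nat.Prime.factorization_self (by norm_num),
        Nat.factorization_eq_zero_of_not_dvd (by norm_num)]
    rw [this, pow_one]
  obtain ⟨k, hk, hcard'⟩ := exists_normalizer_card P hP
  -- a subgroup of `V` invariant under `P` on which `P` has no fixed points but `1`, or all of `V`
  have hdeg : ∀ d, d ≤ 11 → 2 ^ d % 89 = 1 → d = 0 ∨ d = 11 := by decide
  have hpow : ∀ U : Subgroup V, ∃ d, d ≤ 11 ∧ Nat.card U = 2 ^ d := fun U => by
    obtain ⟨d, hd, hd'⟩ := (Nat.dvd_prime_pow Nat.prime_two).1 (hcard ▸ card_subgroup_dvd_card U)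
    exact ⟨d, hd, hd'⟩
  let fix : Set Γ → Subgroup V := fun S =>
    { carrier := {v | ∀ g ∈ S, g • v = v}
      one_mem' := fun g _ => by rw [hsmul, map_one]
      mul_mem' := fun {a b} ha hb g hg => by
        have ea := ha g hg; have eb := hb g hg
        rw [hsmul] at ea eb
        rw [hsmul, map_mul, ea, eb]
      inv_mem' := fun {a} ha g hg => by
        have ea := ha g hg
        rw [hsmul] at ea
        rw [hsmul, map_inv, ea] }
  have hne : fix (P : Subgroup Γ) = ⊥ := by
    obtain ⟨d, hd, hd'⟩ := hpow (fix (P : Subgroup Γ))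
    have hfp : Nat.card (fixedPoints (P : Subgroup Γ) V) = Nat.card (fix (P : Subgroup Γ)) :=
      Nat.card_congr (Equiv.setCongr (by ext v; exact ⟨fun h g hg => h ⟨g, hg⟩, fun h g => h g g.2⟩))
    have hm := P.isPGroup'.card_modEq_card_fixedPoints V
    rw [hcard, hfp, hd'] at hm
    rcases hdeg d hd (by have := hm.symm; unfold Nat.ModEq at this; simpa using this) with rfl | rfl
    · exact eq_bot_of_card_eq _ (by rw [hd', pow_zero])
    · exfalso
      have htop : fix (P : Subgroup Γ) = ⊤ := eq_top_of_card_eq _ (hd'.trans hcard.symm)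
      have : (P : Subgroup Γ) = ⊥ := eq_bot_iff.2 fun u hu => mem_bot.2 (hφ (MulEquiv.ext fun v => by
        have : v ∈ fix (P : Subgroup Γ) := htop ▸ mem_top v
        rw [map_one, MulAut.one_apply]
        exact this u hu))
      rw [this, card_bot] at hP
      omega
  set C := centralizer ((P : Subgroup Γ) : Set Γ) with hC
  have hfree : ∀ c ∈ C, c ≠ 1 → ∀ v : V, c • v = v → v = 1 := fun c hc hc1 v hv => by
    obtain ⟨d, hd, hd'⟩ := hpow (fix {c})
    have hinv : ∀ g ∈ (P : Subgroup Γ), ∀ w ∈ fix {c}, g • w ∈ fix {c} := fun g hg w hw h hh => by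
      obtain rfl : h = c := hh
      rw [← mul_smul, ← mem_centralizer_iff.1 hc g hg, mul_smul, hw h rfl]
    letI : MulAction (P : Subgroup Γ) (fix {c}) :=
      { smul := fun g w => ⟨(g : Γ) • (w : V), hinv g g.2 w w.2⟩
        one_smul := fun w => Subtype.ext (one_smul Γ (w : V))
        mul_smul := fun g h w => Subtype.ext (mul_smul (g : Γ) (h : Γ) (w : V)) }
    have hone : Nat.card (fixedPoints (P : Subgroup Γ) (fix {c})) = 1 := by
      rw [Nat.card_eq_one_iff_unique]
      refine ⟨⟨fun a b => ?_⟩, ⟨⟨1, fun g => Subtype.ext ?_⟩⟩⟩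
      · have key : ∀ a : fixedPoints (P : Subgroup Γ) (fix {c}), ((a : fix {c}) : V) = 1 := fun a => by
          refine mem_bot.1 (hne ▸ ?_ : ((a : fix {c}) : V) ∈ (⊥ : Subgroup V))
          exact fun g hg => congrArg Subtype.val (a.2 ⟨g, hg⟩)
        exact Subtype.ext (Subtype.ext ((key a).trans (key b).symm))
      · show (g : Γ) • (1 : V) = 1
        rw [hsmul, map_one]
    have hm := P.isPGroup'.card_modEq_card_fixedPoints (fix {c})
    rw [hd', hone] at hm
    rcases hdeg d hd hm with rfl | rfl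
    · have : fix {c} = ⊥ := eq_bot_of_card_eq _ (by rw [hd', pow_zero])
      exact mem_bot.1 (this ▸ (fun h hh => by obtain rfl : h = c := hh; exact hv))
    · exfalso
      have htop : fix {c} = ⊤ := eq_top_of_card_eq _ (hd'.trans hcard.symm)
      refine hc1 (hφ (MulEquiv.ext fun w => ?_))
      have : w ∈ fix {c} := htop ▸ mem_top w
      rw [map_one, MulAut.one_apply]
      exact this c rfl
  have hCdvd : Nat.card C ∣ 2047 := by
    letI : MulAction C {v : V // v ≠ 1} :=
      { smul := fun c v => ⟨(c : Γ) • (v : V), fun h => v.2 (by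
          have := congrArg (fun w => (c : Γ)⁻¹ • w) h
          simpa [hsmul] using this)⟩
        one_smul := fun v => Subtype.ext (one_smul Γ (v : V))
        mul_smul := fun c d v => Subtype.ext (mul_smul (c : Γ) (d : Γ) (v : V)) }
    have hs : ∀ v : {v : V // v ≠ 1}, stabilizer C v = ⊥ := fun v => eq_bot_iff.2 fun c hc => by
      by_contra hc1
      exact v.2 (hfree c c.2 (fun h => hc1 (mem_bot.2 (Subtype.ext h))) v (congrArg Subtype.val hc))
    have h1 : Nat.card {v : V // v ≠ 1} = 2047 := by
      haveI := Fintype.ofFinite V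
      rw [Nat.card_eq_fintype_card, Fintype.card_subtype_compl, Fintype.card_subtype_eq,
        ← Nat.card_eq_fintype_card, hcard]
      norm_num
    rw [← h1, Nat.card_congr (selfEquivSigmaOrbits C {v : V // v ≠ 1})]
    haveI := Fintype.ofFinite (Quotient (orbitRel C {v : V // v ≠ 1}))
    rw [Nat.card_sigma]
    refine Finset.dvd_sum fun q _ => ?_
    rw [Nat.card_coe_set_eq, ← index_stabilizer, hs, index_bot]
  have hCge : 89 ∣ Nat.card C := by
    haveI : IsCyclic (P : Subgroup Γ) := isCyclic_of_prime_card hP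
    exact (dvd_of_eq hP.symm).trans (card_dvd_of_le (le_centralizer _))
  have hmod : Nat.card (Sylow 89 Γ) ≡ 1 [MOD 89] := card_sylow_modEq_one 89 Γ
  have hkmem : k ∈ Nat.divisors 88 := Nat.mem_divisors.2 ⟨by simpa using hk, by norm_num⟩
  have hcmem : Nat.card C ∈ Nat.divisors 2047 := Nat.mem_divisors.2 ⟨hCdvd, by norm_num⟩
  rw [hΓ] at hcard'
  have hkd : Nat.card C * k ∣ 2047 * 138240 := Dvd.intro _ hcard'
  have hq : Nat.card (Sylow 89 Γ) = 2047 * 138240 / (Nat.card C * k) := by
    rw [← hcard', Nat.mul_div_cancel_left _ (Nat.pos_of_dvd_of_pos hkd (by norm_num))]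
  rw [hq] at hmod
  have key : ∀ c ∈ Nat.divisors 2047, 89 ∣ c → ∀ k ∈ Nat.divisors 88, c * k ∣ 2047 * 138240 →
      (2047 * 138240 / (c * k)) % 89 ≠ 1 := by decide +kernel
  exact key _ hcmem hCge k hkmem hkd hmod

end Cfsg.Agent.H98.JFour
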