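import Cfsg.Agent.H98.JFour.CosetInv
import Cfsg.Agent.H98.JFour.Count

/-!
The orbits of `N(V)` on `V`: the conjugates of `z`, `1771` in number, and `276` further involutions.
-/

set_option autoImplicit false
set_option linter.style.haveILetI false

namespace Cfsg.Agent.H98.JFour

open Module H43.JFour Subgroup
open scoped Pointwise

universe u v

variable {G : Type u} [Group G] [Finite G] {A : Type v} [Group A]
variable {c : Ctx G A} {M W : Subgroup A}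

/-- The fusion input: some conjugate of `z` in `E`, other than `z`, whose centraliser in `H` covers
an elementary abelian subgroup of order `16` of `M`. -/
def HasFus (c : Ctx G A) (M : Subgroup A) : Prop :=
  ∃ e ∈ c.E, e ≠ c.z ∧ IsConj c.z e ∧ ∃ B : Subgroup A, B ≤ M ∧ Cfsg.IsElementaryAbelian 2 B ∧
    Nat.card B = 16 ∧ ∀ β ∈ B, ∃ g ∈ c.H, c.pr g = β ∧ g * e = e * g

namespace Pkg

theorem exists_conj_V (h : Pkg c M W) {U : Subgroup G} (hU : Cfsg.IsElementaryAbelian 2 U)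
    (hc : Nat.card U = 2 ^ 11) : ∃ g : G, U.map (MulAut.conj g).toMonoidHom = h.V := by
  haveI : Fact (Nat.Prime 2) := ⟨Nat.prime_two⟩
  obtain ⟨T, hT⟩ := (IsPGroup.of_card hc : IsPGroup 2 U).exists_le_sylow
  obtain ⟨T0, hT0, hVT, -⟩ := h.exists_sylow
  obtain ⟨g, rfl⟩ := MulAction.exists_smul_eq G T T0
  refine ⟨g, h.eq_V ?_ ?_ ?_⟩
  · rintro _ ⟨x, hx, rfl⟩
    refine hT0 ?_
    rw [Sylow.coe_subgroup_smul]
    exact Subgroup.smul_mem_pointwise_smul _ (MulAut.conj g) _ (hT hx)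
  · refine ⟨⟨⟨?_⟩⟩, ?_⟩
    · rintro ⟨_, a, ha, rfl⟩ ⟨_, b, hb, rfl⟩
      apply Subtype.ext
      show MulAut.conj g a * MulAut.conj g b = MulAut.conj g b * MulAut.conj g a
      rw [← map_mul, ← map_mul, elem_comm hU ha hb]
    · rintro _ ⟨a, ha, rfl⟩
      show (MulAut.conj g a) ^ 2 = 1
      rw [← map_pow, hU.2 a ha, map_one]
  · rw [Subgroup.card_map_of_injective (MulAut.conj g).injective, hc]

theorem normalizer_V (h : Pkg c M W) {g : G} :
    g ∈ normalizer (h.V : Set G) ↔ h.V.map (MulAut.conj g).toMonoidHom = h.V := by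
  constructor
  · intro hg
    refine eq_of_le_of_card_ge ?_ (Subgroup.card_map_of_injective (MulAut.conj g).injective).ge
    rintro _ ⟨x, hx, rfl⟩
    exact (mem_normalizer_iff.1 hg x).1 hx
  · intro hg
    refine mem_normalizer_iff.2 fun x => ⟨fun hx => hg ▸ ⟨x, hx, rfl⟩, fun hx => ?_⟩
    rw [← hg] at hx
    obtain ⟨y, hy, e⟩ := hx
    rwa [show x = y from (MulAut.conj g).injective e.symm]

/-- `N(V)` controls fusion in `V`. -/
theorem fusion (h : Pkg c M W) {v : G} (hv : v ∈ h.V) (hconj : IsConj c.z v) :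
    v ∈ conjSet (normalizer (h.V : Set G)) c.z := by
  haveI : Fact (Nat.Prime 2) := ⟨Nat.prime_two⟩
  obtain ⟨g, hg⟩ := isConj_iff.1 hconj
  set V' := h.V.map (MulAut.conj g⁻¹).toMonoidHom with hV'
  have hzV' : c.z ∈ V' := ⟨v, hv, by
    show g⁻¹ * v * g⁻¹⁻¹ = c.z
    rw [← hg]; group⟩
  have hV'e : Cfsg.IsElementaryAbelian 2 V' := by
    refine ⟨⟨⟨?_⟩⟩, ?_⟩
    · rintro ⟨_, a, ha, rfl⟩ ⟨_, b, hb, rfl⟩
      apply Subtype.ext
      show MulAut.conj g⁻¹ a * MulAut.conj g⁻¹ b = MulAut.conj g⁻¹ b * MulAut.conj g⁻¹ a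
      rw [← map_mul, ← map_mul, h.V_comm ha hb]
    · rintro _ ⟨a, ha, rfl⟩
      show (MulAut.conj g⁻¹ a) ^ 2 = 1
      rw [← map_pow, h.elem_V.2 a ha, map_one]
  have hV'c : Nat.card V' = 2 ^ 11 := by
    rw [hV', Subgroup.card_map_of_injective (MulAut.conj _).injective, h.card_V]
  have hV'H : V' ≤ c.H := fun x hx => c.mem_H.2 (elem_comm hV'e hzV' hx)
  -- inside `H` the two are conjugate
  obtain ⟨T0, hT0, -, -⟩ := h.exists_sylow
  have hT0H : (T0 : Subgroup G) ≤ c.H := fun x hx => (hT0 hx).1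
  obtain ⟨S, hS⟩ := ((IsPGroup.of_card hV'c : IsPGroup 2 V').of_equiv
    (subgroupOfEquivOfLe hV'H).symm).exists_le_sylow
  obtain ⟨k, hk⟩ := MulAction.exists_smul_eq c.H S (T0.subtype hT0H)
  have hmap : V'.map (MulAut.conj (k : G)).toMonoidHom = h.V := by
    refine h.eq_V ?_ ?_ ?_
    · rintro _ ⟨x, hx, rfl⟩
      refine hT0 ?_
      have h1 : (⟨x, hV'H hx⟩ : c.H) ∈ (S : Subgroup c.H) := hS hx
      have h2 : MulAut.conj k ⟨x, hV'H hx⟩ ∈ ((k • S : Sylow 2 c.H) : Subgroup c.H) := by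
        rw [Sylow.coe_subgroup_smul]
        exact Subgroup.smul_mem_pointwise_smul _ (MulAut.conj k) _ h1
      rw [hk, Sylow.coe_subtype, mem_subgroupOf] at h2
      exact h2
    · refine ⟨⟨⟨?_⟩⟩, ?_⟩
      · rintro ⟨_, a, ha, rfl⟩ ⟨_, b, hb, rfl⟩
        apply Subtype.ext
        show MulAut.conj (k : G) a * MulAut.conj (k : G) b = MulAut.conj (k : G) b * MulAut.conj (k : G) a
        rw [← map_mul, ← map_mul, elem_comm hV'e ha hb]
      · rintro _ ⟨a, ha, rfl⟩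
        show (MulAut.conj (k : G) a) ^ 2 = 1
        rw [← map_pow, hV'e.2 a ha, map_one]
    · rw [Subgroup.card_map_of_injective (MulAut.conj _).injective, hV'c]
  refine ⟨g * (k : G)⁻¹, h.normalizer_V.2 ?_, ?_⟩
  · calc h.V.map (MulAut.conj (g * (k : G)⁻¹)).toMonoidHom
        = (V'.map (MulAut.conj (k : G)).toMonoidHom).map (MulAut.conj (g * (k : G)⁻¹)).toMonoidHom := by
          rw [hmap]
      _ = h.V := by
          rw [hV', Subgroup.map_map, Subgroup.map_map]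
          ext x
          constructor
          · rintro ⟨y, hy, rfl⟩
            show g * (k : G)⁻¹ * ((k : G) * (g⁻¹ * y * g⁻¹⁻¹) * (k : G)⁻¹) * (g * (k : G)⁻¹)⁻¹ ∈ h.V
            rwa [show g * (k : G)⁻¹ * ((k : G) * (g⁻¹ * y * g⁻¹⁻¹) * (k : G)⁻¹) * (g * (k : G)⁻¹)⁻¹ = y by
              group]
          · intro hx
            refine ⟨x, hx, ?_⟩
            show g * (k : G)⁻¹ * ((k : G) * (g⁻¹ * x * g⁻¹⁻¹) * (k : G)⁻¹) * (g * (k : G)⁻¹)⁻¹ = x
            group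
  · have hkz := c.mem_H.1 (inv_mem k.2)
    calc g * (k : G)⁻¹ * c.z * (g * (k : G)⁻¹)⁻¹ = g * ((k : G)⁻¹ * c.z) * (k : G) * g⁻¹ := by group
      _ = v := by rw [← hkz, ← hg]; group

/-- A conjugate of `z` in `A₇` other than `z`. -/
theorem exists_z_conj (h : Pkg c M W) (hF : HasFus c M) :
    ∃ a ∈ h.A7, a ≠ c.z ∧ IsConj c.z a := by
  classical
  haveI := h.finiteA
  haveI : Fact (Nat.Prime 2) := ⟨Nat.prime_two⟩
  haveI := finite_sp h.hc
  obtain ⟨e, he, hez, hconj, B, hBM, hBe, hB16, hBfix⟩ := hF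
  -- move `B` into the normaliser of `W`
  set N := M ⊓ normalizer (W : Set A) with hN
  obtain ⟨S, hS⟩ := ((IsPGroup.of_card (n := 4) hB16 : IsPGroup 2 B).of_equiv
    (subgroupOfEquivOfLe hBM).symm).exists_le_sylow
  let S2 : Sylow 2 (N.subgroupOf M) := default
  have hcardS2 : Nat.card ((S2 : Subgroup (N.subgroupOf M)).map (N.subgroupOf M).subtype) = 2 ^ 7 := by
    rw [Subgroup.card_map_of_injective (N.subgroupOf M).subtype_injective, S2.card_eq_multiplicity,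
      Nat.card_congr (subgroupOfEquivOfLe (inf_le_left : N ≤ M)).toEquiv, h.card_norm_inner,
      show 5760 = 2 ^ 7 * 45 by norm_num, Nat.factorization_mul (by norm_num) (by norm_num),
      Nat.factorization_pow]
    simp [Nat.prime_two.factorization, Nat.factorization_eq_zero_of_not_dvd]
  have hfac : (Nat.card M).factorization 2 = 7 := by
    rw [h.hd.card_M, show 443520 = 2 ^ 7 * 3465 by norm_num, Nat.factorization_mul (by norm_num) (by norm_num),
      Nat.factorization_pow]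
    simp [Nat.prime_two.factorization, Nat.factorization_eq_zero_of_not_dvd]
  let T : Sylow 2 M := Sylow.ofCard ((S2 : Subgroup (N.subgroupOf M)).map (N.subgroupOf M).subtype)
    (by rw [hcardS2, hfac])
  obtain ⟨g, hg⟩ := MulAction.exists_smul_eq M S T
  set γ : A := (g : A)
  have hBN : B.map (MulAut.conj γ).toMonoidHom ≤ N := by
    rintro _ ⟨β, hβ, rfl⟩
    have h1 : (⟨β, hBM hβ⟩ : M) ∈ (S : Subgroup M) := hS hβ
    have h2 : MulAut.conj g ⟨β, hBM hβ⟩ ∈ ((g • S : Sylow 2 M) : Subgroup M) := by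
      rw [Sylow.coe_subgroup_smul]
      exact Subgroup.smul_mem_pointwise_smul _ (MulAut.conj g) _ h1
    rw [hg] at h2
    obtain ⟨y, -, e1⟩ := h2
    have h3 : (y : M) ∈ N.subgroupOf M := y.2
    rw [mem_subgroupOf] at h3
    have e2 : γ * β * γ⁻¹ = ((y : M) : A) := (congrArg Subtype.val e1).symm
    show γ * β * γ⁻¹ ∈ N
    rw [e2]; exact h3
  have hB'e : Cfsg.IsElementaryAbelian 2 (B.map (MulAut.conj γ).toMonoidHom) := by
    refine ⟨⟨⟨?_⟩⟩, ?_⟩
    · rintro ⟨_, a, ha, rfl⟩ ⟨_, b, hb, rfl⟩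
      apply Subtype.ext
      show MulAut.conj γ a * MulAut.conj γ b = MulAut.conj γ b * MulAut.conj γ a
      have := hBe.1
      rw [← map_mul, ← map_mul,
        show a * b = b * a from congrArg Subtype.val (mul_comm' (⟨a, ha⟩ : B) ⟨b, hb⟩)]
    · rintro _ ⟨a, ha, rfl⟩
      show (MulAut.conj γ a) ^ 2 = 1
      rw [← map_pow, hBe.2 a ha, map_one]
  have h4 := h.hW.meet _ (hBN.trans (le_of_eq (hN ▸ rfl))) hB'e
    (by rw [Subgroup.card_map_of_injective (MulAut.conj γ).injective, hB16])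
  set BW := B.map (MulAut.conj γ).toMonoidHom ⊓ W
  obtain ⟨α, hα, hα1⟩ : ∃ α ∈ BW, α ≠ 1 :=
    (Subgroup.bot_or_exists_ne_one _).resolve_left fun e => by rw [e, card_bot] at h4; omega
  obtain ⟨β, hβ, hβ'⟩ : ∃ β ∈ BW, β ∉ ({1, α} : Finset A) := by
    by_contra hcon
    push Not at hcon
    have h5 : Nat.card BW ≤ ({1, α} : Finset A).card := by
      rw [← Nat.card_eq_finsetCard]
      exact Nat.card_le_card_of_injective (fun x : BW => (⟨x, hcon x x.2⟩ : ({1, α} : Finset A)))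
        fun a b e => Subtype.ext (congrArg Subtype.val e :)
    have := h5.trans Finset.card_le_two
    omega
  simp only [Finset.mem_insert, Finset.mem_singleton, not_or] at hβ'
  obtain ⟨n, hn, hnγ⟩ := h.hc.C_surj h.hd g.2
  have hnH := (mem_inf.1 hn).1
  set e' := n * e * n⁻¹ with he'
  have he'E : e' ∈ c.E := h.hc.conjE hnH he
  have hconj' : IsConj c.z e' := hconj.trans (isConj_iff.2 ⟨n, rfl⟩)
  have he'1 : e' ≠ 1 := fun e1 => h.hc.z_ne (isConj_one_right.1 (e1 ▸ hconj').symm)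
  have he'z : e' ≠ c.z := fun e1 => hez (by
    rw [he', mul_inv_eq_iff_eq_mul, c.mem_H.1 hnH] at e1
    exact mul_left_cancel e1)
  set U := Submodule.span (ZMod 2) {vec c e'} with hU
  have hv0 : vec c e' ≠ 0 := fun e1 => by
    rcases (vec_eq_zero h.hc he'E).1 e1 with e2 | e2
    exacts [he'1 e2, he'z e2]
  have hU0 : U ≠ ⊥ := fun e1 => hv0 (by
    have : vec c e' ∈ U := Submodule.mem_span_singleton_self _
    rw [e1] at this; exact (Submodule.mem_bot _).1 this)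
  -- the lifts fix `e'`
  have hfix : ∀ δ ∈ BW, ∀ w (hw : w ∈ h.E5), c.pr w = δ →
      (spForm h.hc).ρ (h.lft hw) (vec c e') = vec c e' := by
    intro δ hδ w hw hwd
    obtain ⟨⟨b, hb, hbe⟩, -⟩ := mem_inf.1 hδ
    obtain ⟨f, hf, hfb, hfe⟩ := hBfix b hb
    set f' := n * f * n⁻¹ with hf'
    have hf'H : f' ∈ c.H := mul_mem (mul_mem hnH hf) (inv_mem hnH)
    have hpr : c.pr f' = δ := by
      rw [hf', h.hc.pr_conj hnH hf, hfb, hnγ, ← hbe]; rfl
    have hfe' : f' * e' * f'⁻¹ = e' := by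
      rw [hf', he']
      calc n * f * n⁻¹ * (n * e * n⁻¹) * (n * f * n⁻¹)⁻¹ = n * (f * e * f⁻¹) * n⁻¹ := by group
        _ = n * e * n⁻¹ := by rw [hfe, mul_inv_cancel_right]
    obtain ⟨m, hm, hact⟩ := h.exists_C_act hf'H (by rw [hpr]; exact h.hW.le (mem_inf.1 hδ).2)
    refine h.fix_of_pr hw (by rw [hm, hpr, hwd]) hU0 (fun u hu => ?_) _ (Submodule.mem_span_singleton_self _)
    obtain ⟨r, rfl⟩ := Submodule.mem_span_singleton.1 hu
    rw [map_smul, ← hact e' he'E, hfe']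
  obtain ⟨v, hv, hvpr⟩ := h.E5_surj (mem_inf.1 hα).2
  obtain ⟨w, hw, hwpr⟩ := h.E5_surj (mem_inf.1 hβ).2
  have hX : vec c e' ∈ h.X := by
    rw [← h.inf_fix hv hw (hvpr ▸ hα1) (hwpr ▸ hβ'.1) (hvpr ▸ hwpr ▸ Ne.symm hβ'.2)]
    exact ⟨(spForm h.hc).mem_fix.2 (hfix α hα v hv hvpr), (spForm h.hc).mem_fix.2 (hfix β hβ w hw hwpr)⟩
  exact ⟨e', by rw [h.A7_eq_pre]; exact ⟨he'E, hX⟩, he'z, hconj'⟩

/-- All fibres over `W - 1` of an invariant set have the same size. -/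
theorem ncard_fib_eq (h : Pkg c M W) {Q : Set G} (hQ : h.Inv Q) {α β : A} (hα : α ∈ W) (hβ : β ∈ W)
    (hα1 : α ≠ 1) (hβ1 : β ≠ 1) : (h.fib Q α).ncard = (h.fib Q β).ncard := by
  have key : ∀ {α β : A}, α ∈ W → β ∈ W → α ≠ 1 → β ≠ 1 → (h.fib Q α).ncard ≤ (h.fib Q β).ncard := by
    intro α β hα hβ hα1 hβ1
    obtain ⟨g, hg, e⟩ := h.hW.trans α hα β hβ hα1 hβ1
    obtain ⟨n, hn, rfl⟩ := h.hc.C_surj h.hd (mem_inf.1 hg).1
    have hnN : n ∈ h.NH := ⟨(mem_inf.1 hn).1, (mem_inf.1 hg).2⟩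
    refine Set.ncard_le_ncard_of_injOn (fun x => n * x * n⁻¹) ?_
      (fun a _ b _ e => mul_left_cancel (mul_right_cancel e)) (Set.toFinite _)
    rintro x ⟨hx, hxa⟩
    exact ⟨hQ.inv n hnN x hx, by rw [h.hc.pr_conj (mem_inf.1 hn).1 (h.V_le_H (hQ.sub hx)), hxa, e]⟩
  exact le_antisymm (key hα hβ hα1 hβ1) (key hβ hα hβ1 hα1)

/-- An invariant set is its part in `A₇` and fifteen equal fibres. -/
theorem ncard_split (h : Pkg c M W) {Q : Set G} (hQ : h.Inv Q) {α : A} (hα : α ∈ W) (hα1 : α ≠ 1) :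
    Q.ncard = (h.fib Q 1).ncard + 15 * (h.fib Q α).ncard := by
  classical
  haveI := h.finiteA
  haveI := Fintype.ofFinite G
  haveI := Fintype.ofFinite A
  set Wf : Finset A := Finset.univ.filter (fun β => β ∈ W) with hWf
  have hWc : Wf.card = 16 := by
    rw [hWf, ← h.hW.card, Nat.card_eq_fintype_card, Fintype.card_subtype]
  have h1W : (1 : A) ∈ Wf := by simp [hWf]
  have hfib : ∀ β, (Q.toFinset.filter (fun x => c.pr x = β)).card = (h.fib Q β).ncard := by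
    intro β
    rw [Set.ncard_eq_toFinset_card']
    congr 1
    ext x
    rw [Finset.mem_filter, Set.mem_toFinset, Set.mem_toFinset]
    rfl
  rw [Set.ncard_eq_toFinset_card', Finset.card_eq_sum_card_fiberwise (t := Wf) (f := c.pr)
    (fun x hx => by
      simp only [Finset.mem_coe, Set.mem_toFinset] at hx
      simp [hWf, h.pr_V_mem (hQ.sub hx)]),
    ← Finset.add_sum_erase _ _ h1W, hfib 1,
    Finset.sum_congr rfl (g := fun _ => (h.fib Q α).ncard) fun β hβ => ?_]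
  · rw [Finset.sum_const, Finset.card_erase_of_mem h1W, hWc, smul_eq_mul]
  · simp only [hWf, Finset.mem_erase, Finset.mem_filter, Finset.mem_univ, true_and] at hβ
    rw [hfib, h.ncard_fib_eq hQ hβ.2 hα hβ.1 hα1]

theorem exists_w0 (h : Pkg c M W) : ∃ w ∈ h.E5, c.pr w ≠ 1 := by
  obtain ⟨α, hα, hα1⟩ := (Subgroup.bot_or_exists_ne_one W).resolve_left fun e => by
    have := h.hW.card; rw [e, card_bot] at this; omega
  obtain ⟨w, hw, rfl⟩ := h.E5_surj hα
  exact ⟨w, hw, hα1⟩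

/-- The orbit of `z` under `N(V)`. -/
def zOrb (h : Pkg c M W) : Set G := conjSet (normalizer (h.V : Set G)) c.z

theorem zOrb_inv (h : Pkg c M W) : h.Inv h.zOrb where
  sub := by
    rintro _ ⟨g, hg, rfl⟩
    exact (mem_normalizer_iff.1 hg c.z).1 h.z_mem_V
  inv := by
    rintro g hg _ ⟨k, hk, rfl⟩
    have hg' : g ∈ normalizer (h.V : Set G) := (mem_inf.1 (h.NH_eq ▸ hg)).2
    exact ⟨g * k, mul_mem hg' hk, by group⟩

theorem zOrb_isConj (h : Pkg c M W) {v : G} (hv : v ∈ h.zOrb) : IsConj c.z v := by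
  obtain ⟨g, -, rfl⟩ := hv
  exact isConj_iff.2 ⟨g, rfl⟩

theorem one_notMem_zOrb (h : Pkg c M W) : (1 : G) ∉ h.zOrb := fun e =>
  h.hc.z_ne (isConj_one_right.1 (h.zOrb_isConj e).symm)

theorem zOrb_mul_card (h : Pkg c M W) :
    h.zOrb.ncard * Nat.card h.NH = Nat.card (normalizer (h.V : Set G)) := by
  have e : normalizer (h.V : Set G) ⊓ centralizer ({c.z} : Set G) = h.NH := by
    rw [h.NH_eq, inf_comm]; rfl
  rw [← e]
  exact conjSet_card _ _

theorem not_two_dvd_zOrb (h : Pkg c M W) : ¬ 2 ∣ h.zOrb.ncard := by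
  haveI : Fact (Nat.Prime 2) := ⟨Nat.prime_two⟩
  intro h2
  obtain ⟨T, hT, -, -⟩ := h.exists_sylow
  have hTN : Nat.card T ∣ Nat.card h.NH := card_dvd_of_le hT
  have hd : Nat.card (normalizer (h.V : Set G)) ∣ Nat.card G := card_subgroup_dvd_card _
  rw [← h.zOrb_mul_card, h.card_NH] at hd
  rw [h.card_NH, T.card_eq_multiplicity] at hTN
  have h22 : 2 ^ 22 ∣ Nat.card G := by
    refine dvd_trans ?_ hd
    exact dvd_trans (show 2 ^ 22 ∣ 2 * (3 * 2 ^ 13 * 11520) by norm_num) (Nat.mul_dvd_mul_right h2 _)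
  have hle : 22 ≤ (Nat.card G).factorization 2 :=
    (Nat.Prime.pow_dvd_iff_le_factorization Nat.prime_two Nat.card_pos.ne').1 h22
  have h3 := dvd_trans (pow_dvd_pow 2 hle) hTN
  norm_num at h3

/-- Conjugation on `V`. -/
def conjV (h : Pkg c M W) : ↥(normalizer (h.V : Set G)) →* MulAut h.V :=
  (h.V).normalizerMonoidHom

theorem conjV_apply (h : Pkg c M W) (g : ↥(normalizer (h.V : Set G))) (x : h.V) :
    (h.conjV g x : G) = (g : G) * x * (g : G)⁻¹ := rfl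

theorem card_range (h : Pkg c M W) :
    Nat.card h.conjV.range = h.zOrb.ncard * 138240 := by
  have hk : h.conjV.ker = h.V.subgroupOf (normalizer (h.V : Set G)) := by
    show h.V.normalizerMonoidHom.ker = _
    rw [normalizerMonoidHom_ker, h.cent_V]
  have h1 := Subgroup.card_eq_card_quotient_mul_card_subgroup h.conjV.ker
  rw [Nat.card_congr (QuotientGroup.quotientKerEquivRange h.conjV).toEquiv, hk,
    Nat.card_congr (subgroupOfEquivOfLe (le_normalizer : h.V ≤ normalizer (h.V : Set G))).toEquiv,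
    h.card_V, ← h.zOrb_mul_card, h.card_NH] at h1
  have : (h.zOrb.ncard * 138240) * 2 ^ 11 = Nat.card h.conjV.range * 2 ^ 11 := by
    rw [← h1]; ring
  exact (Nat.eq_of_mul_eq_mul_right (by norm_num) this).symm

theorem range_dvd (h : Pkg c M W) :
    h.zOrb.ncard * 138240 ∣ ∏ i ∈ Finset.range 11, (2 ^ 11 - 2 ^ i) := by
  rw [← h.card_range]
  refine (card_subgroup_dvd_card _).trans ?_
  haveI : Fact (Nat.Prime 2) := ⟨Nat.prime_two⟩
  have hV : ∀ x : h.V, x ^ 2 = 1 := fun x => Subtype.ext (h.elem_V.2 x x.2)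
  have hcomm : ∀ a b : h.V, a * b = b * a := fun a b => Subtype.ext (h.V_comm a.2 b.2)
  have hf : frattini h.V = ⊥ := S0013.frattini_eq_bot 2 hcomm hV
  have h2 := H77.card_mulAut_dvd (p := 2) (IsPGroup.of_card h.card_V : IsPGroup 2 h.V) (r := 11)
    (by rw [hf, index_bot, h.card_V])
  rwa [hf, card_bot, one_pow, one_mul] at h2

/-- The sizes of the parts of the orbit of `z`. -/
theorem zOrb_parts (h : Pkg c M W) {w : G} (hw : w ∈ h.E5) (h1 : c.pr w ≠ 1) :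
    ∃ f q r, f ∈ [0, 36, 90, 126] ∧ q ∈ [0, 16, 32] ∧ r ∈ [0, 96] ∧
      (h.fib h.zOrb 1 \ {c.z}).ncard = f ∧ (h.fib h.zOrb (c.pr w) ∩ h.coreSet hw).ncard = q ∧
      (h.fib h.zOrb (c.pr w) \ h.coreSet hw).ncard = r ∧ h.zOrb.ncard = 1 + f + 15 * (q + r) := by
  have hz : c.z ∈ h.fib h.zOrb 1 := ⟨self_mem_conjSet _ _, h.hc.pr_E h.hc.z_mem⟩
  have hQ1 : h.Inv (h.fib h.zOrb 1 \ {c.z}) := by
    refine ⟨fun x hx => h.zOrb_inv.sub hx.1.1, fun g hg x hx => ?_⟩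
    refine ⟨⟨h.zOrb_inv.inv g hg x hx.1.1, ?_⟩, fun e => hx.2 ?_⟩
    · rw [h.hc.pr_conj hg.1 (h.V_le_H (h.zOrb_inv.sub hx.1.1)), hx.1.2, mul_one, mul_inv_cancel]
    · rw [Set.mem_singleton_iff] at e ⊢
      rw [mul_inv_eq_iff_eq_mul, c.mem_H.1 hg.1] at e
      exact mul_left_cancel e
  have hA : ∀ x ∈ h.fib h.zOrb 1 \ {c.z}, x ∈ h.A7 ∧ x ≠ 1 ∧ x ≠ c.z := fun x hx =>
    ⟨h.mem_A7_of_pr (h.zOrb_inv.sub hx.1.1) hx.1.2, fun e => h.one_notMem_zOrb (e ▸ hx.1.1), hx.2⟩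
  refine ⟨_, _, _, (h.ncard_A7_inv hQ1 hA).1, (h.ncard_fib h.zOrb_inv hw h1).1,
    (h.ncard_fib h.zOrb_inv hw h1).2, rfl, rfl, rfl, ?_⟩
  rw [h.ncard_split h.zOrb_inv hw.2.1 h1,
    ← Set.ncard_inter_add_ncard_sdiff_eq_ncard (h.fib h.zOrb (c.pr w)) (h.coreSet hw),
    ← Set.ncard_sdiff_singleton_add_one hz (Set.toFinite _)]
  ring

theorem zOrb_cases (h : Pkg c M W) (hF : HasFus c M) :
    h.zOrb.ncard = 127 ∨ h.zOrb.ncard = 1771 ∨ h.zOrb.ncard = 2047 := by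
  obtain ⟨w, hw, h1⟩ := h.exists_w0
  obtain ⟨f, q, r, hf, hq, hr, ef, -, -, hn⟩ := h.zOrb_parts hw h1
  obtain ⟨a, ha, haz, hconj⟩ := h.exists_z_conj hF
  have hamem : a ∈ h.fib h.zOrb 1 \ {c.z} :=
    ⟨⟨h.fusion (h.A7_le_V ha) hconj, h.hc.pr_E (mem_inf.1 ha).1⟩, haz⟩
  have hfpos : f ≠ 0 := fun e => by
    rw [e, Set.ncard_eq_zero (Set.toFinite _)] at ef
    rw [ef] at hamem
    exact hamem
  have ht : 15 * (q + r) ∈ [0, 240, 480, 1440, 1680, 1920] := by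
    simp only [List.mem_cons, List.not_mem_nil, or_false] at hq hr ⊢
    omega
  rw [hn]
  refine orbit_candidates hf ht (by omega) ?_
  rw [← hn]
  exact h.range_dvd

theorem not_127 (h : Pkg c M W) : h.zOrb.ncard ≠ 127 := by
  intro hn
  obtain ⟨w, hw, h1⟩ := h.exists_w0
  obtain ⟨f, q, r, hf, hq, hr, ef, -, -, hsum⟩ := h.zOrb_parts hw h1
  rw [hn] at hsum
  simp only [List.mem_cons, List.not_mem_nil, or_false] at hf hq hr
  have hf126 : f = 126 ∧ q = 0 ∧ r = 0 := by omega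
  -- the orbit is `A₇ - 1`
  have hA : ∀ a ∈ h.A7, a ≠ 1 → a ∈ h.zOrb := by
    intro a ha ha1
    rcases eq_or_ne a c.z with rfl | haz
    · exact self_mem_conjSet _ _
    have hsub : h.fib h.zOrb 1 \ {c.z} ⊆ (h.A7 : Set G) \ {1, c.z} := fun x hx =>
      ⟨h.mem_A7_of_pr (h.zOrb_inv.sub hx.1.1) hx.1.2, by
        rintro (e | e)
        exacts [h.one_notMem_zOrb (e ▸ hx.1.1), hx.2 e]⟩
    have hc126 : ((h.A7 : Set G) \ {1, c.z}).ncard = 126 := by
      rw [Set.ncard_sdiff (by rintro x (rfl | rfl); exacts [one_mem _, h.z_mem_A7]) (Set.toFinite _),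
        Set.ncard_pair (Ne.symm h.hc.z_ne), ← Nat.card_coe_set_eq]
      show Nat.card h.A7 - 2 = 126
      rw [h.card_A7]; rfl
    have heq := Set.eq_of_subset_of_ncard_le hsub (by rw [hc126, ef]; omega) (Set.toFinite _)
    have hmem : a ∈ (h.A7 : Set G) \ {1, c.z} := ⟨ha, by simp [ha1, haz]⟩
    rw [← heq] at hmem
    exact hmem.1.1
  -- the action on the orbit is faithful
  let Γ := h.conjV.range
  have hsub : ∀ v ∈ h.zOrb, v ∈ h.V := h.zOrb_inv.sub
  letI : MulAction Γ {x : h.V // (x : G) ∈ h.zOrb} :=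
    { smul := fun γ x => ⟨(γ : MulAut h.V) x, by
        obtain ⟨g, hg⟩ := γ.2
        rw [← hg, h.conjV_apply]
        obtain ⟨k, hk, e⟩ := x.2
        exact ⟨(g : G) * k, mul_mem g.2 hk, by rw [← e]; group⟩⟩
      one_smul := fun x => Subtype.ext rfl
      mul_smul := fun γ δ x => Subtype.ext rfl }
  haveI : FaithfulSMul Γ {x : h.V // (x : G) ∈ h.zOrb} := by
    refine ⟨fun {γ δ} hγ => ?_⟩
    obtain ⟨g, hg⟩ := (γ⁻¹ * δ).2
    have hfixz : ∀ x : {x : h.V // (x : G) ∈ h.zOrb}, (γ⁻¹ * δ) • x = x := fun x => by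
      rw [mul_smul, ← hγ x, inv_smul_smul]
    have hgA : ∀ a ∈ h.A7, (g : G) * a * (g : G)⁻¹ = a := by
      intro a ha
      rcases eq_or_ne a 1 with rfl | ha1
      · group
      have h2 := congrArg (fun y : {x : h.V // (x : G) ∈ h.zOrb} => ((y : h.V) : G))
        (hfixz ⟨⟨a, h.A7_le_V ha⟩, hA a ha ha1⟩)
      have h3 : ((γ⁻¹ * δ : Γ) : MulAut h.V) ⟨a, h.A7_le_V ha⟩ = h.conjV g ⟨a, h.A7_le_V ha⟩ := by
        rw [hg]
      exact (congrArg Subtype.val h3).symm.trans h2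
    have hgH : (g : G) ∈ c.H := c.mem_H.2 (by
      conv_lhs => rw [← hgA c.z h.z_mem_A7]
      group)
    have hgV : (g : G) ∈ h.V := h.mem_V_of_centralizes (h.NH_eq ▸ mem_inf.2 ⟨hgH, g.2⟩)
      fun a ha => by rw [← mul_inv_eq_iff_eq_mul]; exact hgA a ha
    have hone : γ⁻¹ * δ = 1 := by
      refine Subtype.ext ?_
      rw [← hg]
      refine MulEquiv.ext fun x => Subtype.ext ?_
      rw [h.conjV_apply, h.V_comm hgV x.2, mul_inv_cancel_right]
      rfl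
    exact inv_mul_eq_one.1 hone
  refine false_of_orbit_127 (Γ := Γ) (α := {x : h.V // (x : G) ∈ h.zOrb}) ?_ ?_
  · rw [← hn, ← Nat.card_coe_set_eq]
    exact Nat.card_congr
      { toFun := fun x => ⟨x.1, x.2⟩
        invFun := fun x => ⟨⟨x, hsub x x.2⟩, x.2⟩
        left_inv := fun x => rfl
        right_inv := fun x => rfl }
  · rw [h.card_range, hn]

theorem not_2047 (h : Pkg c M W) : h.zOrb.ncard ≠ 2047 := by
  intro hn
  letI : CommGroup h.V := { h.V.toGroup with mul_comm := fun a b => Subtype.ext (h.V_comm a.2 b.2) }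
  exact false_of_orbit_2047 (V := h.V) (fun a => Subtype.ext (h.V_sq a.2)) h.card_V
    h.conjV.range.subtype h.conjV.range.subtype_injective (by rw [h.card_range, hn])

/-- The orbit of `z` has `1771` elements. -/
theorem zOrb_card (h : Pkg c M W) (hF : HasFus c M) : h.zOrb.ncard = 1771 := by
  rcases h.zOrb_cases hF with e | e | e
  exacts [absurd e h.not_127, e, absurd e h.not_2047]

/-- The rest of `V - 1`. -/
def rest (h : Pkg c M W) : Set G := ((h.V : Set G) \ {1}) \ h.zOrb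

theorem rest_inv (h : Pkg c M W) : h.Inv h.rest where
  sub := fun x hx => hx.1.1
  inv := by
    rintro g hg x ⟨⟨hx, hx1⟩, hxo⟩
    refine ⟨⟨h.NH_conj_V hg hx, fun e => hx1 ?_⟩, fun e => hxo ?_⟩
    · rw [Set.mem_singleton_iff, mul_inv_eq_one] at e
      exact mul_eq_left.1 e
    · have := h.zOrb_inv.inv g⁻¹ (inv_mem hg) _ e
      rwa [show g⁻¹ * (g * x * g⁻¹) * g⁻¹⁻¹ = x by group] at this

theorem rest_card (h : Pkg c M W) (hF : HasFus c M) : h.rest.ncard = 276 := by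
  have hsub : h.zOrb ⊆ (h.V : Set G) \ {1} := fun x hx =>
    ⟨h.zOrb_inv.sub hx, fun e => h.one_notMem_zOrb (Set.mem_singleton_iff.1 e ▸ hx)⟩
  rw [rest, Set.ncard_sdiff hsub (Set.toFinite _), h.zOrb_card hF,
    Set.ncard_sdiff_singleton_of_mem (one_mem h.V), ← Nat.card_coe_set_eq]
  show Nat.card h.V - 1 - 1771 = 276
  rw [h.card_V]; rfl

theorem zOrb_parts' (h : Pkg c M W) (hF : HasFus c M) {w : G} (hw : w ∈ h.E5) (h1 : c.pr w ≠ 1) :
    (h.fib h.zOrb 1 \ {c.z}).ncard = 90 ∧ (h.fib h.zOrb (c.pr w) ∩ h.coreSet hw).ncard = 16 ∧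
      (h.fib h.zOrb (c.pr w) \ h.coreSet hw).ncard = 96 := by
  obtain ⟨f, q, r, hf, hq, hr, ef, eq', er, hsum⟩ := h.zOrb_parts hw h1
  rw [h.zOrb_card hF] at hsum
  simp only [List.mem_cons, List.not_mem_nil, or_false] at hf hq hr
  omega

theorem outer_zOrb (h : Pkg c M W) (hF : HasFus c M) {w a : G} (hw : w ∈ h.E5) (h1 : c.pr w ≠ 1)
    (ha : a ∈ h.A7) (ha' : a ∉ h.Aw hw) : a * w ∈ h.zOrb := by
  have h96 := (h.zOrb_parts' hF hw h1).2.2
  obtain ⟨x, hx, hx'⟩ := Set.nonempty_of_ncard_ne_zero (s := h.fib h.zOrb (c.pr w) \ h.coreSet hw)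
    (by omega)
  obtain ⟨b, hb, rfl⟩ := h.mem_coset (h.zOrb_inv.sub hx.1) hw hx.2
  exact h.outer_all h.zOrb_inv hw h1 hb (fun e => hx' ⟨b, e, rfl⟩) ha ha' hx.1

/-- The core of each coset has one orbit of sixteen in the rest. -/
theorem core_rest (h : Pkg c M W) (hF : HasFus c M) {w a : G} (hw : w ∈ h.E5) (h1 : c.pr w ≠ 1)
    (ha : a ∈ h.Aw hw) (hx : a * w ∈ h.rest) :
    h.fib h.rest (c.pr w) = conjSet c.E (a * w) := by
  have h16 := (h.zOrb_parts' hF hw h1).2.1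
  have hsub : h.fib h.rest (c.pr w) ⊆ h.coreSet hw := by
    intro x hx'
    obtain ⟨b, hb, rfl⟩ := h.mem_coset (h.rest_inv.sub hx'.1) hw hx'.2
    by_contra hb'
    exact hx'.1.2 (h.outer_zOrb hF hw h1 hb (fun e => hb' ⟨b, e, rfl⟩))
  have horb : conjSet c.E (a * w) ⊆ h.fib h.rest (c.pr w) := by
    intro y hy
    obtain ⟨d, hd, rfl⟩ := h.conjSet_core_subset hw ha hy
    refine ⟨?_, h.pr_V (h.Aw_le hw hd) hw⟩
    obtain ⟨e, he, e'⟩ := hy
    exact e' ▸ h.rest_inv.inv e (h.E_le_NH he) _ hx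
  refine (Set.eq_of_subset_of_ncard_le horb ?_ (Set.toFinite _)).symm
  rw [h.conjSet_Aw_card hw h1 ha]
  have hdis : Disjoint (h.fib h.rest (c.pr w)) (h.fib h.zOrb (c.pr w) ∩ h.coreSet hw) :=
    Set.disjoint_left.2 fun x hx1 hx2 => hx1.1.2 hx2.1.1
  have h2 := Set.ncard_le_ncard (Set.union_subset hsub (Set.inter_subset_right (s := h.fib h.zOrb (c.pr w)))) (Set.toFinite _)
  rw [Set.ncard_union_eq hdis (Set.toFinite _) (Set.toFinite _), h16, h.ncard_coreSet hw h1] at h2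
  omega

/-- Exactly one of `x` and `z x` over the core is conjugate to `z`. -/
theorem core_split (h : Pkg c M W) (hF : HasFus c M) {w a : G} (hw : w ∈ h.E5) (h1 : c.pr w ≠ 1)
    (ha : a ∈ h.Aw hw) : a * w ∈ h.zOrb ↔ c.z * (a * w) ∉ h.zOrb := by
  set x := a * w with hx
  have hzx : c.z * x = (c.z * a) * w := by rw [hx, mul_assoc]
  have hza : c.z * a ∈ h.Aw hw := mul_mem (z_mem_pre h.hc _) ha
  have hnot := h.z_mul_notMem_orbit hw h1 ha
  have hrest : ∀ {b}, b ∈ h.Aw hw → b * w ∉ h.zOrb → b * w ∈ h.rest := fun {b} hb hb' =>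
    ⟨⟨mul_mem (h.A7_le_V (h.Aw_le hw hb)) (h.E5_le_V hw), fun e => h1 (by
      rw [← h.pr_V (h.Aw_le hw hb) hw, Set.mem_singleton_iff.1 e, h.hc.pr_one])⟩, hb'⟩
  constructor
  · intro hx1 hzx1
    have h2 := h.ncard_fib h.zOrb_inv hw h1
    have h16 := (h.zOrb_parts' hF hw h1).2.1
    have horb : ∀ {b}, b ∈ h.Aw hw → b * w ∈ h.zOrb →
        conjSet c.E (b * w) ⊆ h.fib h.zOrb (c.pr w) ∩ h.coreSet hw := by
      intro b hb hb' y hy
      have hy' := h.conjSet_core_subset hw hb hy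
      obtain ⟨e, he, rfl⟩ := hy
      obtain ⟨d, hd, hde⟩ := hy'
      exact ⟨⟨h.zOrb_inv.inv e (h.E_le_NH he) _ hb', hde ▸ h.pr_V (h.Aw_le hw hd) hw⟩, d, hd, hde⟩
    have e1 := Set.eq_of_subset_of_ncard_le (horb ha hx1)
      (by rw [h.conjSet_Aw_card hw h1 ha, h16]) (Set.toFinite _)
    have e2 : c.z * x ∈ h.fib h.zOrb (c.pr w) ∩ h.coreSet hw :=
      horb hza (hzx ▸ hzx1) (hzx ▸ self_mem_conjSet c.E _)
    rw [← e1] at e2
    exact hnot e2
  · intro hzx1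
    by_contra hx1
    have e1 := h.core_rest hF hw h1 ha (hrest ha hx1)
    have e2 : c.z * x ∈ h.fib h.rest (c.pr w) := by
      rw [hzx] at hzx1 ⊢
      exact ⟨hrest hza hzx1, h.pr_V (h.Aw_le hw hza) hw⟩
    rw [e1] at e2
    exact hnot e2

/-- The part of the rest in `A₇` has `36` elements and forms one orbit of `N_H(V)`. -/
theorem rest_A7 (h : Pkg c M W) (hF : HasFus c M) :
    (h.fib h.rest 1).ncard = 36 ∧
      ∀ {x}, x ∈ h.fib h.rest 1 → h.fib h.rest 1 = conjSet h.NH x := by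
  obtain ⟨w, hw, h1⟩ := h.exists_w0
  have h90 := (h.zOrb_parts' hF hw h1).1
  have hA : ∀ x ∈ h.fib h.rest 1, x ∈ h.A7 ∧ x ≠ 1 ∧ x ≠ c.z := fun x hx =>
    ⟨h.mem_A7_of_pr (h.rest_inv.sub hx.1) hx.2, hx.1.1.2,
      fun e => hx.1.2 (e ▸ self_mem_conjSet _ _)⟩
  have hc36 : (h.fib h.rest 1).ncard = 36 := by
    have hu : h.fib h.rest 1 = ((h.A7 : Set G) \ {1, c.z}) \ (h.fib h.zOrb 1 \ {c.z}) := by
      ext x
      constructor
      · intro hx
        exact ⟨⟨(hA x hx).1, by rintro (e | e); exacts [(hA x hx).2.1 e, (hA x hx).2.2 e]⟩,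
          fun e => hx.1.2 e.1.1⟩
      · rintro ⟨⟨hx, hx'⟩, hx''⟩
        simp only [Set.mem_insert_iff, Set.mem_singleton_iff, not_or] at hx'
        have hpr : c.pr x = 1 := h.hc.pr_E (mem_inf.1 hx).1
        exact ⟨⟨⟨h.A7_le_V hx, hx'.1⟩, fun e => hx'' ⟨⟨e, hpr⟩, hx'.2⟩⟩, hpr⟩
    have hsub : h.fib h.zOrb 1 \ {c.z} ⊆ (h.A7 : Set G) \ {1, c.z} := fun x hx =>
      ⟨h.mem_A7_of_pr (h.zOrb_inv.sub hx.1.1) hx.1.2, by
        rintro (e | e)
        exacts [h.one_notMem_zOrb (e ▸ hx.1.1), hx.2 e]⟩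
    rw [hu, Set.ncard_sdiff hsub (Set.toFinite _), h90,
      Set.ncard_sdiff (by rintro x (rfl | rfl); exacts [one_mem _, h.z_mem_A7]) (Set.toFinite _),
      Set.ncard_pair (Ne.symm h.hc.z_ne), ← Nat.card_coe_set_eq]
    show Nat.card h.A7 - 2 - 90 = 36
    rw [h.card_A7]; rfl
  refine ⟨hc36, fun {x} hx => ?_⟩
  have hsub : conjSet h.NH x ⊆ h.fib h.rest 1 := by
    rintro _ ⟨g, hg, rfl⟩
    exact ⟨h.rest_inv.inv g hg x hx.1, by
      rw [h.hc.pr_conj hg.1 (h.V_le_H (h.rest_inv.sub hx.1)), hx.2, mul_one, mul_inv_cancel]⟩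
  have hQ : h.Inv (conjSet h.NH x) := by
    refine ⟨fun y hy => h.rest_inv.sub (hsub hy).1, ?_⟩
    rintro g hg _ ⟨k, hk, rfl⟩
    exact ⟨g * k, mul_mem hg hk, by group⟩
  have h2 := (h.ncard_A7_inv hQ fun y hy => hA y (hsub hy)).1
  have h3 := Set.ncard_le_ncard hsub (Set.toFinite _)
  have h4 : 0 < (conjSet h.NH x).ncard :=
    (Set.ncard_pos (Set.toFinite _)).2 ⟨x, self_mem_conjSet _ _⟩
  simp only [List.mem_cons, List.not_mem_nil, or_false] at h2
  exact (Set.eq_of_subset_of_ncard_le hsub (by omega) (Set.toFinite _)).symm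

/-- `N(V)` is transitive on the rest. -/
theorem rest_orbit (h : Pkg c M W) (hF : HasFus c M) {t : G} (ht : t ∈ h.fib h.rest 1) :
    conjSet (normalizer (h.V : Set G)) t = h.rest := by
  classical
  haveI := finite_sp h.hc
  obtain ⟨h36, htrans⟩ := h.rest_A7 hF
  set N := normalizer (h.V : Set G) with hN
  have hNH : h.NH ≤ N := fun g hg => (mem_inf.1 (h.NH_eq ▸ hg)).2
  have hrestN : ∀ g ∈ N, ∀ x ∈ h.rest, g * x * g⁻¹ ∈ h.rest := by
    rintro g hg x ⟨⟨hx, hx1⟩, hxo⟩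
    refine ⟨⟨(mem_normalizer_iff.1 hg x).1 hx, fun e => hx1 ?_⟩, fun e => hxo ?_⟩
    · rw [Set.mem_singleton_iff, mul_inv_eq_one] at e
      exact mul_eq_left.1 e
    · obtain ⟨k, hk, e'⟩ := e
      exact ⟨g⁻¹ * k, mul_mem (inv_mem hg) hk, by
        calc g⁻¹ * k * c.z * (g⁻¹ * k)⁻¹ = g⁻¹ * (k * c.z * k⁻¹) * g := by group
          _ = x := by rw [e']; group⟩
  set O := conjSet N t with hO
  have hOsub : O ⊆ h.rest := by rintro _ ⟨g, hg, rfl⟩; exact hrestN g hg t ht.1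
  have hOinv : ∀ g ∈ N, ∀ x ∈ O, g * x * g⁻¹ ∈ O := by
    rintro g hg _ ⟨k, hk, rfl⟩
    exact ⟨g * k, mul_mem hg hk, by group⟩
  have h36sub : h.fib h.rest 1 ⊆ O := by
    rw [htrans ht]; rintro _ ⟨g, hg, rfl⟩; exact ⟨g, hNH hg, rfl⟩
  -- the thirty-six do not form an orbit
  obtain ⟨x0, hx0, hx0'⟩ : ∃ x ∈ O, c.pr x ≠ 1 := by
    by_contra hall
    push Not at hall
    set K := Subgroup.closure O
    have hKA : K ≤ h.A7 := (closure_le _).2 fun x hx =>
      h.mem_A7_of_pr (h.rest_inv.sub (hOsub hx)) (hall x hx)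
    have hKN : ∀ g ∈ N, ∀ x ∈ K, g * x * g⁻¹ ∈ K := by
      intro g hg x hx
      induction hx using closure_induction with
      | mem y hy => exact subset_closure (hOinv g hg y hy)
      | one => rw [mul_one, mul_inv_cancel]; exact one_mem _
      | mul a b _ _ ha hb =>
        rw [show g * (a * b) * g⁻¹ = g * a * g⁻¹ * (g * b * g⁻¹) by group]; exact mul_mem ha hb
      | inv a _ ha => rw [show g * a⁻¹ * g⁻¹ = (g * a * g⁻¹)⁻¹ by group]; exact inv_mem ha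
    -- `z` and a half
    obtain ⟨htA, ht1, htz⟩ : t ∈ h.A7 ∧ t ≠ 1 ∧ t ≠ c.z :=
      ⟨h.mem_A7_of_pr (h.rest_inv.sub ht.1) ht.2, ht.1.1.2, fun e => ht.1.2 (e ▸ self_mem_conjSet _ _)⟩
    obtain ⟨e, he, hte⟩ := h.exists_flip (mem_inf.1 htA).1 ht1 htz
    have hzK : c.z ∈ K := by
      have h1 : t ∈ K := subset_closure (self_mem_conjSet _ _)
      have h2 : c.z * t ∈ K := hte ▸ hKN e (hNH (h.E_le_NH he)) t h1
      simpa using mul_mem h2 (inv_mem h1)
    set S := vec c '' ((K : Set G) \ {1, c.z}) with hS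
    have hK36 : h.fib h.rest 1 ⊆ (K : Set G) \ {1, c.z} := fun x hx =>
      ⟨subset_closure (h36sub hx), by
        rintro (e' | e')
        exacts [hx.1.1.2 e', hx.1.2 (e' ▸ self_mem_conjSet _ _)]⟩
    have hKinv : h.Inv ((K : Set G) \ {1, c.z}) := by
      refine ⟨fun x hx => h.A7_le_V (hKA hx.1), fun g hg x hx => ⟨hKN g (hNH hg) x hx.1, fun e' => hx.2 ?_⟩⟩
      rcases e' with e' | e'
      · left; rw [mul_inv_eq_one] at e'; exact mul_eq_left.1 e'
      · right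
        rw [Set.mem_singleton_iff, mul_inv_eq_iff_eq_mul, c.mem_H.1 hg.1] at e'
        exact mul_left_cancel e'
    have hKc := (h.ncard_A7_inv hKinv fun x hx => ⟨hKA hx.1, fun e => hx.2 (Or.inl e),
      fun e => hx.2 (Or.inr e)⟩).1
    have hge := Set.ncard_le_ncard hK36 (Set.toFinite _)
    have hKcard : ((K : Set G) \ {1, c.z}).ncard = Nat.card K - 2 := by
      rw [Set.ncard_sdiff (by rintro x (rfl | rfl); exacts [one_mem _, hzK]) (Set.toFinite _),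
        Set.ncard_pair (Ne.symm h.hc.z_ne), ← Nat.card_coe_set_eq]
      rfl
    obtain ⟨k, hk7, hk⟩ : ∃ k ≤ 7, Nat.card K = 2 ^ k :=
      (Nat.dvd_prime_pow Nat.prime_two).1 (h.card_A7 ▸ card_dvd_of_le hKA)
    rw [h36] at hge
    rw [hKcard, hk] at hKc hge
    have hk' : k = 7 := by
      simp only [List.mem_cons, List.not_mem_nil, or_false] at hKc
      interval_cases k <;> omega
    have hKeq : K = h.A7 := eq_of_le_of_card_ge hKA (by rw [h.card_A7, hk, hk'])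
    -- then the orbit of `z` would lie in `A₇`
    obtain ⟨w, hw, h1⟩ := h.exists_w0
    obtain ⟨x, hx, hx'⟩ := Set.nonempty_of_ncard_ne_zero
      (s := h.fib h.zOrb (c.pr w) \ h.coreSet hw) (by rw [(h.zOrb_parts' hF hw h1).2.2]; norm_num)
    obtain ⟨g, hg, e'⟩ := hx.1
    have hxA : x ∈ h.A7 := by
      rw [← hKeq, ← e']
      exact hKN g hg _ (hKeq ▸ h.z_mem_A7)
    exact h1 (by rw [← hx.2]; exact h.hc.pr_E (mem_inf.1 hxA).1)
  refine Set.Subset.antisymm hOsub fun x hx => ?_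
  by_cases hx1 : c.pr x = 1
  · exact h36sub ⟨hx, hx1⟩
  -- move `x0` over `x`
  obtain ⟨γ, hγ, hγe⟩ := h.hW.trans _ (h.pr_V_mem (h.rest_inv.sub (hOsub hx0))) _
    (h.pr_V_mem (h.rest_inv.sub hx)) hx0' hx1
  obtain ⟨n, hn, rfl⟩ := h.hc.C_surj h.hd (mem_inf.1 hγ).1
  have hnN : n ∈ N := hNH ⟨(mem_inf.1 hn).1, (mem_inf.1 hγ).2⟩
  set y := n * x0 * n⁻¹ with hy
  have hyO : y ∈ O := hOinv n hnN x0 hx0
  have hypr : c.pr y = c.pr x := by
    rw [hy, h.hc.pr_conj (mem_inf.1 hn).1 (h.V_le_H (h.rest_inv.sub (hOsub hx0)))]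
    exact hγe
  obtain ⟨w, hw, hwx⟩ := h.E5_surj (h.pr_V_mem (h.rest_inv.sub hx))
  have hw1 : c.pr w ≠ 1 := hwx ▸ hx1
  have hcore : ∀ {u}, u ∈ h.rest → c.pr u = c.pr w → ∃ a ∈ h.Aw hw, u = a * w := by
    intro u hu hpu
    obtain ⟨a, ha, rfl⟩ := h.mem_coset (h.rest_inv.sub hu) hw hpu
    exact ⟨a, by_contra fun e => hu.2 (h.outer_zOrb hF hw hw1 ha e), rfl⟩
  obtain ⟨a, ha, hya⟩ := hcore (hOsub hyO) (hypr.trans hwx.symm)
  have hfib := h.core_rest hF hw hw1 ha (hya ▸ hOsub hyO)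
  have hxm : x ∈ h.fib h.rest (c.pr w) := ⟨hx, hwx.symm⟩
  rw [hfib, ← hya] at hxm
  obtain ⟨e, he, rfl⟩ := hxm
  exact hOinv e (hNH (h.E_le_NH he)) y hyO

/-- The two orbits of the normaliser of `V`. -/
theorem orbits (h : Pkg c M W) (hF : HasFus c M) :
    ∃ t ∈ h.A7, t ≠ 1 ∧ t ∈ h.rest ∧ ¬ IsConj c.z t ∧
      (conjSet (normalizer (h.V : Set G)) c.z).ncard = 1771 ∧
      (conjSet (normalizer (h.V : Set G)) t).ncard = 276 := by
  obtain ⟨t, ht⟩ := Set.nonempty_of_ncard_ne_zero (s := h.fib h.rest 1)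
    (by rw [(h.rest_A7 hF).1]; norm_num)
  refine ⟨t, h.mem_A7_of_pr (h.rest_inv.sub ht.1) ht.2, ht.1.1.2, ht.1, fun hconj => ?_,
    h.zOrb_card hF, ?_⟩
  · exact ht.1.2 (h.fusion (h.rest_inv.sub ht.1) hconj)
  · rw [h.rest_orbit hF ht, h.rest_card hF]

theorem card_normalizer (h : Pkg c M W) (hF : HasFus c M) :
    Nat.card (normalizer (h.V : Set G)) = 1771 * (3 * 2 ^ 13 * 11520) := by
  rw [← h.zOrb_mul_card, h.zOrb_card hF, h.card_NH]

/-- A nontrivial element of `E₅` is not conjugate to its product by `z`. -/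
theorem E5_fus (h : Pkg c M W) (hF : HasFus c M) {w : G} (hw : w ∈ h.E5) (h1 : c.pr w ≠ 1) :
    ¬ IsConj w (w * c.z) := by
  intro hc'
  have hz : w * c.z = c.z * w := (c.mem_H.1 (mem_inf.1 hw.1).1).symm
  have hsplit := h.core_split hF hw h1 (one_mem (h.Aw hw))
  rw [one_mul] at hsplit
  have hwV := h.E5_le_V hw
  have hzwV : c.z * w ∈ h.V := mul_mem h.z_mem_V hwV
  rw [hz] at hc'
  by_cases hw' : w ∈ h.zOrb
  · exact hsplit.1 hw' (h.fusion hzwV ((h.zOrb_isConj hw').trans hc'))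
  · refine hw' (h.fusion hwV ((h.zOrb_isConj ?_).trans hc'.symm))
    by_contra hzw
    exact hw' (hsplit.2 hzw)

end Pkg

end Cfsg.Agent.H98.JFour
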