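import Cfsg.Agent.H98.JFour.Lines
import Cfsg.Agent.H38.JFour.Blocks

/-!
The data `H38.JFour.Blocks` for the action of `N(V)` on `V`.
-/

set_option autoImplicit false
set_option linter.style.haveILetI false

namespace Cfsg.Agent.H98.JFour

open Module H43.JFour Subgroup

universe u v

variable {G : Type u} [Group G] [Finite G] {A : Type v} [Group A]
variable {c : Ctx G A} {M W : Subgroup A}

namespace Pkg

/-- `V` as a commutative group. -/
@[reducible] def commV (h : Pkg c M W) : CommGroup h.V :=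
  { h.V.toGroup with mul_comm := fun a b => Subtype.ext (h.V_comm a.2 b.2) }

theorem notMem_rest_z (h : Pkg c M W) : c.z ∉ h.rest := fun e => e.2 (self_mem_conjSet _ _)

/-- Pairs `{v, z v}` inside the rest lie in `A₇`. -/
theorem pair_pr (h : Pkg c M W) (hF : HasFus c M) {v : G} (hv : v ∈ h.rest) (hzv : v * c.z ∈ h.rest) :
    c.pr v = 1 := by
  by_contra h1
  obtain ⟨w, hw, hwv⟩ := h.E5_surj (h.pr_V_mem (h.rest_inv.sub hv))
  obtain ⟨a, ha, rfl⟩ := h.mem_coset (h.rest_inv.sub hv) hw hwv.symm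
  have hw1 : c.pr w ≠ 1 := hwv ▸ h1
  have haw : a ∈ h.Aw hw := by_contra fun e => hv.2 (h.outer_zOrb hF hw hw1 ha e)
  refine hv.2 ((h.core_split hF hw hw1 haw).2 ?_)
  rw [h.V_comm h.z_mem_V (h.rest_inv.sub hv)]
  exact hzv.2

/-- The six points. -/
theorem exists_six (h : Pkg c M W) (hF : HasFus c M) : ∃ u : Fin 6 → Sp c, (∀ i, u i ∈ h.S18) ∧
    (∀ i j, i ≠ j → u j ∉ h.pt (u i)) ∧ ∀ v ∈ h.S18, ∃ i, v ∈ h.pt (u i) := by
  classical
  haveI := finite_sp h.hc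
  haveI := Fintype.ofFinite (Sp c)
  set f := spForm h.hc with hf
  obtain ⟨h18, hSX, hSinv⟩ := h.S18_facts hF
  have hpr : c.pr ((f.p : c.C) : G) ∈ normalizer (W : Set A) := by
    rw [h.hc.pr_P (spForm_p_mem h.hc).1]; exact one_mem _
  set T : Finset (Submodule (ZMod 2) (Sp c)) := h.S18.toFinset.image h.pt with hT
  have hpt : ∀ {a b}, a ∈ h.S18 → b ∈ h.S18 → (h.pt b = h.pt a ↔ b ∈ h.pt a) := by
    intro a b ha hb
    refine ⟨fun e => e ▸ h.self_mem_pt b, fun e => ?_⟩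
    exact Submodule.eq_of_le_of_finrank_eq (Submodule.span_le.2 (by
      rintro x (rfl | rfl)
      exacts [e, h.pt_inv a _ e])) (by rw [h.finrank_pt (hSX a ha).2, h.finrank_pt (hSX b hb).2])
  have hfib : ∀ U ∈ T, (h.S18.toFinset.filter fun b => h.pt b = U).card = 3 := by
    intro U hU
    obtain ⟨a, ha, rfl⟩ := Finset.mem_image.1 hU
    rw [Set.mem_toFinset] at ha
    have ha0 := (hSX a ha).2
    have hne : f.ρ f.p a ≠ a := fun e => ha0 (f.fpf _ e)
    have hne' : f.ρ f.p (f.ρ f.p a) ≠ f.ρ f.p a := fun e => ha0 (by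
      have h0 := f.fpf _ e
      rw [← f.p_apply_three a, h0, map_zero, map_zero])
    have hne3 : f.ρ f.p (f.ρ f.p a) ≠ a := fun e => hne (by
      conv_rhs => rw [← f.p_apply_three a, e])
    rw [Finset.card_eq_three]
    refine ⟨a, f.ρ f.p a, f.ρ f.p (f.ρ f.p a), hne.symm, hne3.symm, hne'.symm, ?_⟩
    ext b
    simp only [Finset.mem_filter, Set.mem_toFinset, Finset.mem_insert, Finset.mem_singleton]
    constructor
    · rintro ⟨hb, e⟩
      rcases (h.mem_pt).1 ((hpt ha hb).1 e) with e' | e'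
      exacts [absurd e' (hSX b hb).2, e']
    · intro hb
      have hb' : b ∈ h.S18 := by
        rcases hb with rfl | rfl | rfl
        exacts [ha, hSinv _ hpr _ ha, hSinv _ hpr _ (hSinv _ hpr _ ha)]
      exact ⟨hb', (hpt ha hb').2 (h.mem_pt.2 (Or.inr hb))⟩
  have hT6 : T.card = 6 := by
    have e := Finset.card_eq_sum_card_image h.pt h.S18.toFinset
    rw [← hT, Finset.sum_congr rfl hfib, Finset.sum_const, smul_eq_mul, ← Set.ncard_eq_toFinset_card',
      h18] at e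
    omega
  let e6 : Fin 6 ≃ T := (Fintype.equivFinOfCardEq (by rw [Fintype.card_coe, hT6])).symm
  have hch : ∀ i, ∃ a, a ∈ h.S18 ∧ h.pt a = (e6 i : Submodule (ZMod 2) (Sp c)) := fun i => by
    obtain ⟨a, ha, e⟩ := Finset.mem_image.1 (e6 i).2
    exact ⟨a, Set.mem_toFinset.1 ha, e⟩
  choose u hu hu' using hch
  refine ⟨u, hu, fun i j hij e => hij (e6.injective (Subtype.ext ?_)), fun v hv => ?_⟩
  · rw [← hu' i, ← hu' j, (hpt (hu i) (hu j)).2 e]
  · obtain ⟨i, hi⟩ := e6.surjective ⟨h.pt v, Finset.mem_image.2 ⟨v, Set.mem_toFinset.2 hv, rfl⟩⟩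
    refine ⟨i, ?_⟩
    rw [hu' i, hi]
    exact h.self_mem_pt v

/-- The blocks of the action of `N(V)` on `V`. -/
theorem blocks (h : Pkg c M W) (hF : HasFus c M) :
    letI := h.commV
    ∃ D : H38.JFour.Blocks h.conjV.range,
      D.N = {x : h.V | (x : G) ∈ h.rest} ∧ (D.z : G) = c.z := by
  letI := h.commV
  classical
  obtain ⟨h18, hSX, hSinv⟩ := h.S18_facts hF
  obtain ⟨u, hu, hsep, hcov⟩ := h.exists_six hF
  have hpt7 : ∀ i, pre c (h.pt (u i)) ≤ h.A7 := fun i a ha => by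
    rw [h.A7_eq_pre]
    exact ⟨ha.1, (Submodule.span_le.2 (by
      rintro x (rfl | rfl)
      exacts [(hSX _ (hu i)).1, (spForm h.hc).inv_p_fixAll _ _ (hSX _ (hu i)).1])) ha.2⟩
  have hpr : c.pr (((spForm h.hc).p : c.C) : G) ∈ normalizer (W : Set A) := by
    rw [h.hc.pr_P (spForm_p_mem h.hc).1]; exact one_mem _
  have hin : ∀ i a, a ∈ pre c (h.pt (u i)) → a ≠ 1 → a ≠ c.z → a ∈ h.fib h.rest 1 := by
    intro i a ha ha1 haz
    rw [h.mem_S18 (hpt7 i ha)]
    have hm := (h.mem_pt).1 ha.2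
    rcases hm with e | e | e | e
    · rcases (vec_eq_zero h.hc ha.1).1 e with e' | e'
      exacts [absurd e' ha1, absurd e' haz]
    · rw [e]; exact hu i
    · rw [e]; exact hSinv _ hpr _ (hu i)
    · rw [e]; exact hSinv _ hpr _ (hSinv _ hpr _ (hu i))
  have hA : ∀ x ∈ h.fib h.rest 1, x ∈ h.A7 := fun x hx => h.mem_A7_of_pr (h.rest_inv.sub hx.1) hx.2
  have hN : ∀ g ∈ normalizer (h.V : Set G), ∀ x ∈ h.zOrb, g * x * g⁻¹ ∈ h.zOrb := by
    rintro g hg _ ⟨k, hk, rfl⟩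
    exact ⟨g * k, mul_mem hg hk, by group⟩
  have hRN : ∀ g ∈ normalizer (h.V : Set G), ∀ x ∈ h.rest, g * x * g⁻¹ ∈ h.rest := by
    rintro g hg x ⟨⟨hx, hx1⟩, hxo⟩
    refine ⟨⟨(mem_normalizer_iff.1 hg x).1 hx, fun e => hx1 ?_⟩, fun e => hxo ?_⟩
    · rw [Set.mem_singleton_iff, mul_inv_eq_one] at e
      exact mul_eq_left.1 e
    · have := hN g⁻¹ (inv_mem hg) _ e
      rwa [show g⁻¹ * (g * x * g⁻¹) * g⁻¹⁻¹ = x by group] at this
  obtain ⟨t, ht⟩ := Set.nonempty_of_ncard_ne_zero (s := h.fib h.rest 1)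
    (by rw [(h.rest_A7 hF).1]; norm_num)
  refine ⟨{
    N := {x : h.V | (x : G) ∈ h.rest}
    z := ⟨c.z, h.z_mem_V⟩
    P := fun i => (pre c (h.pt (u i))).subgroupOf h.V
    sq := fun v => Subtype.ext (h.V_sq v.2)
    card_V := h.card_V
    card_N := ?_
    one_N := fun e => e.1.2 rfl
    z_ne := fun e => h.hc.z_ne (congrArg Subtype.val e)
    z_N := h.notMem_rest_z
    inv := ?_
    card_dvd := ⟨9, by rw [h.card_range, h.zOrb_card hF]⟩
    trans_N := ?_
    trans_Z := ?_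
    card_P := ?_
    z_P := fun i => z_mem_pre h.hc _
    P_inter := ?_
    pairs := ?_
    cross := ?_ }, rfl, rfl⟩
  · rw [← h.rest_card hF, ← Set.ncard_image_of_injective _ Subtype.val_injective]
    congr 1
    ext x
    exact ⟨fun ⟨y, hy, e⟩ => e ▸ hy, fun hx => ⟨⟨x, h.rest_inv.sub hx⟩, hx, rfl⟩⟩
  · rintro _ ⟨g, rfl⟩ v hv
    exact hRN _ g.2 _ hv
  · intro s hs s' hs'
    have hs'' : (s : G) ∈ h.rest := hs
    have hs''' : (s' : G) ∈ h.rest := hs'
    rw [← h.rest_orbit hF ht] at hs'' hs'''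
    obtain ⟨k, hk, e⟩ := hs''
    obtain ⟨k', hk', e'⟩ := hs'''
    refine ⟨_, ⟨⟨k' * k⁻¹, mul_mem hk' (inv_mem hk)⟩, rfl⟩, Subtype.ext ?_⟩
    rw [h.conjV_apply]
    show k' * k⁻¹ * s * (k' * k⁻¹)⁻¹ = s'
    rw [← e, ← e']; group
  · intro v hv1 hvN
    have hvz : (v : G) ∈ h.zOrb := by_contra fun e => hvN ⟨⟨v.2, fun e' => hv1 (Subtype.ext e')⟩, e⟩
    obtain ⟨k, hk, e⟩ := hvz
    refine ⟨_, ⟨⟨k⁻¹, inv_mem hk⟩, rfl⟩, Subtype.ext ?_⟩
    rw [h.conjV_apply]
    show k⁻¹ * v * k⁻¹⁻¹ = c.z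
    rw [← e]; group
  · intro i
    rw [Nat.card_congr (subgroupOfEquivOfLe ((hpt7 i).trans h.A7_le_V)).toEquiv, card_pre h.hc,
      h.finrank_pt (hSX _ (hu i)).2]
    rfl
  · intro i j hij v hvi hvj
    rw [mem_subgroupOf] at hvi hvj
    by_contra hne
    simp only [not_or] at hne
    have hv1 : (v : G) ≠ 1 := fun e => hne.1 (Subtype.ext e)
    have hvz : (v : G) ≠ c.z := fun e => hne.2 (Subtype.ext e)
    have hv0 : vec c (v : G) ≠ 0 := fun e => by
      rcases (vec_eq_zero h.hc hvi.1).1 e with e' | e'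
      exacts [hv1 e', hvz e']
    haveI := finite_sp h.hc
    have key : ∀ k, vec c (v : G) ∈ h.pt (u k) → h.pt (vec c (v : G)) = h.pt (u k) := fun k hk =>
      Submodule.eq_of_le_of_finrank_eq (Submodule.span_le.2 (by
        rintro x (rfl | rfl)
        exacts [hk, h.pt_inv _ _ hk])) (by rw [h.finrank_pt hv0, h.finrank_pt (hSX _ (hu k)).2])
    have e := (key i hvi.2).symm.trans (key j hvj.2)
    exact hsep i j hij (e ▸ h.self_mem_pt (u j))
  · intro v hv1 hvz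
    have hv1' : (v : G) ≠ 1 := fun e => hv1 (Subtype.ext e)
    have hvz' : (v : G) ≠ c.z := fun e => hvz (Subtype.ext e)
    constructor
    · rintro ⟨hv, hzv⟩
      have hfib : (v : G) ∈ h.fib h.rest 1 := ⟨hv, h.pair_pr hF hv hzv⟩
      obtain ⟨i, hi⟩ := hcov _ ((h.mem_S18 (hA _ hfib)).1 hfib)
      exact ⟨i, ⟨(mem_inf.1 (hA _ hfib)).1, hi⟩⟩
    · rintro ⟨i, hi⟩
      rw [mem_subgroupOf] at hi
      refine ⟨(hin i _ hi hv1' hvz').1, (hin i _ (mul_mem hi (z_mem_pre h.hc _)) ?_ ?_).1⟩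
      · intro e
        exact hvz' (by rw [← inv_eq_of_mul_eq_one_left h.hc.z_sq]; exact eq_inv_of_mul_eq_one_left e)
      · intro e
        exact hv1' (mul_eq_right.1 e)
  · intro i j hij s hsi t' htj hs ht' hst
    rw [mem_subgroupOf] at hsi htj
    have hs1 : (s : G) ∈ h.fib h.rest 1 := ⟨hs, h.hc.pr_E hsi.1⟩
    have ht1 : (t' : G) ∈ h.fib h.rest 1 := ⟨ht', h.hc.pr_E htj.1⟩
    have hsS := (h.mem_S18 (hpt7 i hsi)).1 hs1
    have htS := (h.mem_S18 (hpt7 j htj)).1 ht1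
    haveI := finite_sp h.hc
    refine h.S18_cross hF hsS htS (fun e => hsep i j hij ?_) ?_
    · have e1 : h.pt (vec c (s : G)) ≤ h.pt (u i) := Submodule.span_le.2 (by
        rintro x (rfl | rfl)
        exacts [hsi.2, h.pt_inv _ _ hsi.2])
      have e2 : h.pt (vec c (t' : G)) = h.pt (u j) := Submodule.eq_of_le_of_finrank_eq
        (Submodule.span_le.2 (by
          rintro x (rfl | rfl)
          exacts [htj.2, h.pt_inv _ _ htj.2]))
        (by rw [h.finrank_pt (hSX _ htS).2, h.finrank_pt (hSX _ (hu j)).2])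
      have e3 : h.pt (vec c (t' : G)) ≤ h.pt (u i) := Submodule.span_le.2 (by
        rintro x (rfl | rfl)
        exacts [e1 e, h.pt_inv _ _ (e1 e)])
      exact e3 (e2.symm ▸ h.self_mem_pt (u j))
    · rw [← vec_mul c hsi.1 htj.1]
      refine (h.mem_S18 (mul_mem (hpt7 i hsi) (hpt7 j htj))).1 ⟨hst, ?_⟩
      exact h.hc.pr_E (mul_mem hsi.1 htj.1)

end Pkg

end Cfsg.Agent.H98.JFour
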