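import Cfsg.Agent.H98.JFour.CentT
import Cfsg.Agent.H38.JFour.TAlg

/-!
The properties `TCfg` of `z`, `V` and an involution `t` of `V` outside the class of `z`.
-/

set_option autoImplicit false

namespace Cfsg.Agent.H98.JFour

open Subgroup H43.JFour

universe u v

variable {G : Type u} [Group G] [Finite G] {A : Type v} [Group A]
variable {c : Ctx G A} {M W : Subgroup A}

namespace Pkg

theorem conj_rest (h : Pkg c M W) {n t : G} (hn : n ∈ normalizer (h.V : Set G)) (htV : t ∈ h.V)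
    (ht1 : t ≠ 1) (htz : ¬ IsConj c.z t) : n⁻¹ * t * n ∈ h.rest := by
  refine ⟨⟨?_, fun e => ht1 ?_⟩, fun e => htz ((h.zOrb_isConj e).trans (isConj_iff.2 ⟨n, by group⟩))⟩
  · have h1 := (mem_normalizer_iff.1 (inv_mem hn) t).1 htV
    rwa [inv_inv] at h1
  · rw [Set.mem_singleton_iff] at e
    calc t = n * (n⁻¹ * t * n) * n⁻¹ := by group
      _ = 1 := by rw [e, mul_one, mul_inv_cancel]

theorem two_cent_le (h : Pkg c M W) (hF : HasFus c M) (hti : HexTI W) {t a : G} (htV : t ∈ h.V)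
    (ht1 : t ≠ 1) (htz : ¬ IsConj c.z t) (ha : a ∈ h.V) (haz : IsConj c.z a) :
    centralizer ({a} : Set G) ⊓ centralizer ({t} : Set G) ≤ normalizer (h.V : Set G) := by
  obtain ⟨n, hn, rfl⟩ := h.fusion ha haz
  intro g hg
  obtain ⟨h1, h2⟩ := mem_inf.1 hg
  rw [mem_centralizer_singleton_iff] at h1 h2
  have hm : n⁻¹ * g * n ∈ c.H ⊓ centralizer ({n⁻¹ * t * n} : Set G) := by
    refine mem_inf.2 ⟨c.mem_H.2 ?_, mem_centralizer_singleton_iff.2 ?_⟩
    · calc c.z * (n⁻¹ * g * n) = n⁻¹ * (n * c.z * n⁻¹ * g) * n := by group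
        _ = n⁻¹ * g * n * c.z := by rw [← h1]; group
    · calc n⁻¹ * g * n * (n⁻¹ * t * n) = n⁻¹ * (g * t) * n := by group
        _ = n⁻¹ * t * n * (n⁻¹ * g * n) := by rw [h2]; group
  have hNH := h.cent_rest_le hF hti (h.conj_rest hn htV ht1 htz) hm
  rw [show g = n * (n⁻¹ * g * n) * n⁻¹ by group]
  exact mul_mem (mul_mem hn (mem_inf.1 (h.NH_eq ▸ hNH)).2) (inv_mem hn)

theorem spread_z (h : Pkg c M W) (hti : HexTI W) {R : Subgroup G} (hR : R ≤ c.H)
    (hsq : ∀ p ∈ R, p * p ∈ c.E) (hcom : ∀ p ∈ R, ∀ q ∈ R, p * q * p⁻¹ * q⁻¹ ∈ c.E)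
    (hbig : 2 ^ 11 ≤ Nat.card ↥(R ⊓ normalizer (h.V : Set G)))
    (hsmall : Nat.card ↥(R ⊓ c.E) ≤ 2 ^ 7) : R ≤ normalizer (h.V : Set G) := by
  haveI := h.finiteA
  haveI := h.hd.normal
  set f : R →* A := h.hc.prHom.comp (Subgroup.inclusion hR) with hfdef
  have hf : ∀ r : R, f r = c.pr r := fun r => rfl
  set B0 := ((R ⊓ normalizer (h.V : Set G)).subgroupOf R).map f with hB0def
  have hB0N : B0 ≤ normalizer (W : Set A) := by
    rintro _ ⟨r, hr, rfl⟩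
    have hm : (r : G) ∈ h.NH := by
      rw [h.NH_eq]
      exact mem_inf.2 ⟨hR r.2, (mem_inf.1 (show (r : G) ∈ R ⊓ normalizer (h.V : Set G) from hr)).2⟩
    exact hm.2
  have hBe : Cfsg.IsElementaryAbelian 2 f.range := by
    refine ⟨⟨⟨?_⟩⟩, ?_⟩
    · rintro ⟨_, a, rfl⟩ ⟨_, b, rfl⟩
      apply Subtype.ext
      show f a * f b = f b * f a
      rw [← mul_inv_eq_one, mul_inv_rev, ← map_inv, ← map_inv, ← map_mul, ← map_mul, ← map_mul, hf]
      refine h.hc.pr_E ?_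
      have e : ((a * b * (a⁻¹ * b⁻¹) : R) : G) = (a : G) * b * (a : G)⁻¹ * (b : G)⁻¹ := by
        simp [mul_assoc]
      rw [e]
      exact hcom _ a.2 _ b.2
    · rintro _ ⟨a, rfl⟩
      rw [← map_pow, hf, pow_two]
      exact h.hc.pr_E (hsq _ a.2)
  have hker : f.ker ≤ (R ⊓ c.E).subgroupOf R := by
    intro r hr
    rw [mem_subgroupOf]
    refine mem_inf.2 ⟨r.2, h.hc.mem_E_of_pow ((h.hc.pr_ker _ (hR r.2)).1 (MonoidHom.mem_ker.1 hr))
      (k := 3) ?_⟩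
    have h1 := hsq _ r.2
    have h2 : (r : G) * r * (r * r) * ((r : G) * r * (r * r)) = 1 := by
      rcases h.hc.sq_mem h1 with e | e <;> rw [e]
      exacts [one_mul _, h.hc.z_sq]
    rw [← h2]
    simp [pow_succ, mul_assoc]
  have hcardB0 : 16 ≤ Nat.card B0 := by
    set R0 := (R ⊓ normalizer (h.V : Set G)).subgroupOf R
    let f0 : R0 →* A := f.comp R0.subtype
    have h1 := Subgroup.card_eq_card_quotient_mul_card_subgroup f0.ker
    have hr : f0.range = B0 := by rw [MonoidHom.range_comp, Subgroup.range_subtype]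
    rw [Nat.card_congr (QuotientGroup.quotientKerEquivRange f0).toEquiv, hr,
      Nat.card_congr (subgroupOfEquivOfLe (inf_le_left : R ⊓ normalizer (h.V : Set G) ≤ R)).toEquiv] at h1
    have h2 : Nat.card f0.ker ≤ 2 ^ 7 := by
      refine le_trans ?_ hsmall
      refine Nat.card_le_card_of_injective
        (fun r => ⟨(((r : R0) : R) : G), mem_subgroupOf.1 (hker r.2)⟩) fun a b e => ?_
      exact Subtype.ext (Subtype.ext (Subtype.ext (congrArg Subtype.val e :)))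
    have h3 : 2 ^ 11 ≤ Nat.card B0 * 2 ^ 7 :=
      hbig.trans (h1.le.trans (Nat.mul_le_mul_left _ h2))
    omega
  set D := B0 ⊓ M
  have hB0r : B0 ≤ f.range := by rintro _ ⟨r, -, rfl⟩; exact ⟨r, rfl⟩
  have hD8 : 8 ≤ Nat.card D := by
    have h1 := card_mul_index (M.subgroupOf B0)
    have h2 : (M.subgroupOf B0).index ≤ 2 :=
      Nat.le_of_dvd (by norm_num) (h.hd.index ▸ relIndex_dvd_index_of_normal M B0)
    have e : Nat.card (M.subgroupOf B0) = Nat.card D := by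
      rw [← inf_subgroupOf_left]
      exact Nat.card_congr (subgroupOfEquivOfLe inf_le_left).toEquiv
    rw [e] at h1
    nlinarith
  obtain ⟨α, hα, hα1⟩ : ∃ α ∈ D ⊓ W, α ≠ 1 :=
    (Subgroup.bot_or_exists_ne_one _).resolve_left fun e => by
      have : Nat.card D ≤ 4 := small_elem h.hW (le_inf inf_le_right (inf_le_left.trans hB0N))
        (elem_le_of hBe (inf_le_left.trans hB0r)) e
      omega
  intro r hr
  have hαr : α ∈ f.range := hB0r (mem_inf.1 (mem_inf.1 hα).1).1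
  have hc' : f ⟨r, hr⟩ * α * (f ⟨r, hr⟩)⁻¹ = α := by
    rw [show f ⟨r, hr⟩ * α = α * f ⟨r, hr⟩ from congrArg Subtype.val
      (hBe.1.is_comm.comm ⟨f ⟨r, hr⟩, _, rfl⟩ ⟨α, hαr⟩), mul_inv_cancel_right]
  have hn := hti _ α (mem_inf.1 hα).2 hα1 (hc'.symm ▸ (mem_inf.1 hα).2)
  have : r ∈ h.NH := ⟨hR hr, hn⟩
  exact (mem_inf.1 (h.NH_eq ▸ this)).2

theorem spread_conj (h : Pkg c M W) (hE : IsCore c) (hti : HexTI W) {x g : G} (hx : IsConj c.z x)
    (hgx : g⁻¹ * x * g ∈ h.V) {R : Subgroup G} (hR : R ≤ centralizer ({x} : Set G))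
    (hsq : ∀ p ∈ R, p * p ∈ Cfsg.twoCoreOfCentralizer x)
    (hcom : ∀ p ∈ R, ∀ q ∈ R, p * q * p⁻¹ * q⁻¹ ∈ Cfsg.twoCoreOfCentralizer x)
    (hbig : 2 ^ 11 ≤ Nat.card ↥(R ⊓ (normalizer (h.V : Set G)).map (MulAut.conj g).toMonoidHom))
    (hsmall : Nat.card ↥(R ⊓ Cfsg.twoCoreOfCentralizer x) ≤ 2 ^ 7) :
    R ≤ (normalizer (h.V : Set G)).map (MulAut.conj g).toMonoidHom := by
  obtain ⟨n, hn, e⟩ := h.fusion hgx (hx.trans (isConj_iff.2 ⟨g⁻¹, by group⟩))
  set N := normalizer (h.V : Set G)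
  set k := g * n with hk
  have hxk : x = k * c.z * k⁻¹ := by
    rw [hk, show g * n * c.z * (g * n)⁻¹ = g * (n * c.z * n⁻¹) * g⁻¹ by group, e]; group
  set R' := R.map (MulAut.conj k⁻¹).toMonoidHom with hR'
  have hmem : ∀ {y}, y ∈ R' ↔ k * y * k⁻¹ ∈ R := fun {y} => by
    rw [hR', Ctx.mem_conj_map, inv_inv]
  have hcore : ∀ {y}, y ∈ c.E ↔ k * y * k⁻¹ ∈ Cfsg.twoCoreOfCentralizer x := fun {y} => by
    rw [hxk, twoCore_conj, ← hE, Ctx.mem_conj_map]
    simp [mul_assoc]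
  have hN : ∀ {y}, y ∈ N ↔ k * y * k⁻¹ ∈ N.map (MulAut.conj g).toMonoidHom := fun {y} => by
    rw [Ctx.mem_conj_map, show g⁻¹ * (k * y * k⁻¹) * g = n * y * n⁻¹ by rw [hk]; group,
      mul_mem_cancel_right (inv_mem hn), mul_mem_cancel_left hn]
  have hinj : ∀ (P Q : Subgroup G), (∀ y, y ∈ P ↔ k * y * k⁻¹ ∈ Q) → Nat.card P = Nat.card Q := by
    intro P Q hPQ
    exact Nat.card_congr ((MulAut.conj k).toEquiv.subtypeEquiv hPQ)
  have h1 : R' ≤ N := by
    refine h.spread_z hti ?_ (fun p hp => ?_) (fun p hp q hq => ?_) ?_ ?_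
    · intro y hy
      refine c.mem_H.2 ?_
      have h2 := mem_centralizer_singleton_iff.1 (hR (hmem.1 hy))
      rw [hxk] at h2
      calc c.z * y = k⁻¹ * (k * c.z * k⁻¹ * (k * y * k⁻¹)) * k := by group
        _ = y * c.z := by rw [← h2]; group
    · rw [hcore, show k * (p * p) * k⁻¹ = k * p * k⁻¹ * (k * p * k⁻¹) by group]
      exact hsq _ (hmem.1 hp)
    · rw [hcore, show k * (p * q * p⁻¹ * q⁻¹) * k⁻¹ =
        k * p * k⁻¹ * (k * q * k⁻¹) * (k * p * k⁻¹)⁻¹ * (k * q * k⁻¹)⁻¹ by group]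
      exact hcom _ (hmem.1 hp) _ (hmem.1 hq)
    · rw [hinj (R' ⊓ N) (R ⊓ N.map (MulAut.conj g).toMonoidHom) fun y => by
        rw [mem_inf, mem_inf, hmem, hN]]
      exact hbig
    · rw [hinj (R' ⊓ c.E) (R ⊓ Cfsg.twoCoreOfCentralizer x) fun y => by
        rw [mem_inf, mem_inf, hmem, hcore]]
      exact hsmall
  intro r hr
  have h2 : k⁻¹ * r * k ∈ R' := hmem.2 (by rwa [show k * (k⁻¹ * r * k) * k⁻¹ = r by group])
  have h3 := hN.1 (h1 h2)
  rwa [show k * (k⁻¹ * r * k) * k⁻¹ = r by group] at h3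

theorem intra_core (h : Pkg c M W) (hF : HasFus c M) (hE : IsCore c) {t a : G} (htV : t ∈ h.V)
    (ht1 : t ≠ 1) (htz : ¬ IsConj c.z t) (ha : a ∈ h.V) (haz : IsConj c.z a)
    (hat : ¬ IsConj c.z (a * t)) : t ∈ Cfsg.twoCoreOfCentralizer a := by
  obtain ⟨n, hn, rfl⟩ := h.fusion ha haz
  have hrest := h.conj_rest hn htV ht1 htz
  set u := n⁻¹ * t * n with hu
  have huz : ¬ IsConj c.z (c.z * u) := fun e => hat (e.trans (isConj_iff.2 ⟨n, by rw [hu]; group⟩))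
  have hpr : c.pr u = 1 := by
    by_contra h1
    obtain ⟨w, hw, hwu⟩ := h.E5_surj (h.pr_V_mem (h.rest_inv.sub hrest))
    have hw1 : c.pr w ≠ 1 := hwu ▸ h1
    obtain ⟨b, hb, hub⟩ := h.mem_coset (h.rest_inv.sub hrest) hw hwu.symm
    rw [hub] at hrest huz
    by_cases hbA : b ∈ h.Aw hw
    · refine huz (h.zOrb_isConj (by_contra fun e => hrest.2 ?_))
      exact (h.core_split hF hw hw1 hbA).2 e
    · exact hrest.2 (h.outer_zOrb hF hw hw1 hb hbA)
  have huE : u ∈ c.E := (mem_inf.1 (h.mem_A7_of_pr (h.rest_inv.sub hrest) hpr)).1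
  rw [twoCore_conj, ← hE, Ctx.mem_conj_map]
  exact huE

/-- The properties collected in `TCfg`. -/
theorem tcfg (h : Pkg c M W) (hF : HasFus c M) (hE : IsCore c) (hti : HexTI W) {t : G} (htV : t ∈ h.V)
    (ht1 : t ≠ 1) (htz : ¬ IsConj c.z t) : H38.JFour.TCfg c.z h.V t where
  V_elem := h.elem_V
  t_V := htV
  t_sq := h.V_sq htV
  t_not := htz
  z_ne := h.hc.z_ne
  weak _ hg := h.weak_closed hg
  two_cent _ ha hza := h.two_cent_le hF hti htV ht1 htz ha hza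
  equiv := twoCore_conj
  E_le := twoCore_le_centralizer
  E_norm := twoCore_norm
  E_comm _ hx _ hp _ hq := core_comm h.hc hE hx hp hq
  E_sq _ hx _ hp := core_sq h.hc hE hx hp
  E_cent _ hx _ hp _ hq h1 hpx hle := core_cent h.hc hE hx hp hq h1 hpx hle
  E_index _ hx _ hp h1 hpx := core_index h.hc hE hx hp h1 hpx
  symm _ _ hx hy hm := core_symm h.hc hE h.hd hx hy hm
  spread _ _ hx hgx _ hR hsq hcom hbig hsmall := h.spread_conj hE hti hx hgx hR hsq hcom hbig hsmall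
  E_meet _ _ hx hy hne hm := core_meet h.hc hE h.hd hx hy hne hm
  intra _ ha hza hat := h.intra_core hF hE htV ht1 htz ha hza hat

end Pkg

end Cfsg.Agent.H98.JFour
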