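import Cfsg.Agent.H98.JFour.Orbits

/-!
The orbits on an arbitrary elementary abelian subgroup of order `2 ^ 11`, given the centraliser of
the involutions outside the class of `z`.
-/

set_option autoImplicit false

namespace Cfsg.Agent.H98.JFour

open Subgroup H43.JFour

universe u v

variable {G : Type u} [Group G] [Finite G] {A : Type v} [Group A]
variable {c : Ctx G A} {M W : Subgroup A}

theorem conjSet_conj (S T : Subgroup G) (g x : G)
    (hST : ∀ n, n ∈ T ↔ g * n * g⁻¹ ∈ S) :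
    {v : G | ∃ n ∈ T, n * (g⁻¹ * x * g) * n⁻¹ = v} = (fun y => g⁻¹ * y * g) '' conjSet S x := by
  ext v
  constructor
  · rintro ⟨n, hn, rfl⟩
    exact ⟨g * n * g⁻¹ * x * (g * n * g⁻¹)⁻¹, ⟨_, (hST n).1 hn, rfl⟩, by group⟩
  · rintro ⟨_, ⟨m, hm, rfl⟩, rfl⟩
    exact ⟨g⁻¹ * m * g, (hST _).2 (by rwa [show g * (g⁻¹ * m * g) * g⁻¹ = m by group]), by group⟩

namespace Pkg

theorem two_eleven_orbits (h : Pkg c M W) (hF : HasFus c M)
    (hcent : ∀ t ∈ h.V, t ≠ 1 → ¬ IsConj c.z t →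
      centralizer ({t} : Set G) ≤ normalizer (h.V : Set G))
    {V : Subgroup G} (hV : Cfsg.IsElementaryAbelian 2 V) (hcard : Nat.card ↥V = 2 ^ 11) :
    ∃ z' t : G, z' ∈ V ∧ t ∈ V ∧ t ≠ 1 ∧ IsConj c.z z' ∧ ¬ IsConj c.z t ∧
      Set.ncard {v : G | ∃ n ∈ normalizer (V : Set G), n * z' * n⁻¹ = v} = 1771 ∧
      Set.ncard {v : G | ∃ n ∈ normalizer (V : Set G), n * t * n⁻¹ = v} = 276 ∧
      centralizer ({t} : Set G) ≤ normalizer (V : Set G) := by
  obtain ⟨g, hg⟩ := h.exists_conj_V hV hcard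
  obtain ⟨t, htA, ht1, -, htz, hz1771, ht276⟩ := h.orbits hF
  have hmemV : ∀ y, y ∈ V ↔ g * y * g⁻¹ ∈ h.V := fun y => by
    rw [← hg, Ctx.mem_conj_map]; simp [mul_assoc]
  have hN : ∀ n, n ∈ normalizer (V : Set G) ↔ g * n * g⁻¹ ∈ normalizer (h.V : Set G) := by
    intro n
    rw [mem_normalizer_iff, mem_normalizer_iff]
    constructor
    · intro h1 y
      have h2 := h1 (g⁻¹ * y * g)
      rw [hmemV, hmemV] at h2
      simpa [mul_assoc] using h2
    · intro h1 y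
      have h2 := h1 (g * y * g⁻¹)
      rw [hmemV, hmemV]
      simpa [mul_assoc] using h2
  have hinj : Function.Injective fun y : G => g⁻¹ * y * g :=
    fun a b e => mul_left_cancel (mul_right_cancel e)
  refine ⟨g⁻¹ * c.z * g, g⁻¹ * t * g, ?_, ?_, fun e => ht1 ?_, isConj_iff.2 ⟨g⁻¹, by group⟩,
    fun e => htz (e.trans (isConj_iff.2 ⟨g, by group⟩)), ?_, ?_, ?_⟩
  · rw [hmemV, show g * (g⁻¹ * c.z * g) * g⁻¹ = c.z by group]; exact h.z_mem_V
  · rw [hmemV, show g * (g⁻¹ * t * g) * g⁻¹ = t by group]; exact h.A7_le_V htA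
  · calc t = g * (g⁻¹ * t * g) * g⁻¹ := by group
      _ = 1 := by rw [e, mul_one, mul_inv_cancel]
  · rw [conjSet_conj _ _ g c.z hN, Set.ncard_image_of_injective _ hinj, hz1771]
  · rw [conjSet_conj _ _ g t hN, Set.ncard_image_of_injective _ hinj, ht276]
  · intro x hx
    rw [mem_centralizer_singleton_iff] at hx
    rw [hN]
    refine hcent t (h.A7_le_V htA) ht1 htz (mem_centralizer_singleton_iff.2 ?_)
    calc g * x * g⁻¹ * t = g * (x * (g⁻¹ * t * g)) * g⁻¹ := by group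
      _ = t * (g * x * g⁻¹) := by rw [hx]; group

end Pkg

end Cfsg.Agent.H98.JFour
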