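import Cfsg.Agent.H98.JFour.NonzShape
import Cfsg.Agent.H98.JFour.OrbitsConj
import Cfsg.Agent.H98.JFour.TCfgInst

/-!
Reduction of the statements on the second class of involutions to the facts read off from the model of the
normaliser of `V`.
-/

set_option autoImplicit false

namespace Cfsg.Agent.H98.JFour

open Subgroup H43.JFour

universe u v

variable {G : Type u} [Group G] [Finite G] {A : Type v} [Group A]
variable {c : Ctx G A} {M W : Subgroup A}

theorem Pkg.cent_le_of_model (h : Pkg c M W) (hF : HasFus c M) (hE : IsCore c) (hti : HexTI W)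
    (hmodel : ∀ t ∈ h.V, t ≠ 1 → ¬ IsConj c.z t →
      ∃ Fix Swap : G → Prop, H38.JFour.TModel c.z h.V t Fix Swap) :
    ∀ t ∈ h.V, t ≠ 1 → ¬ IsConj c.z t → centralizer ({t} : Set G) ≤ normalizer (h.V : Set G) := by
  intro t htV ht1 htz
  obtain ⟨Fix, Swap, hm⟩ := hmodel t htV ht1 htz
  exact (h.tcfg hF hE hti htV ht1 htz).cent_le hm

/-- Both statements, given the model facts. -/
theorem second_class [IsSimpleGroup G] (hG : ¬ IsMulCommutative G) {z : G} (hJ : Cfsg.IsOfJankoFourTypeAt z)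
    (hmodel : ∀ (c : Ctx G (MulAut ↥Cfsg.Spor.M22)) (W : Subgroup (MulAut ↥Cfsg.Spor.M22))
      (h : Pkg c H38.JFour.innM22 W), HasFus c H38.JFour.innM22 → IsCore c → HexTI W →
      ∀ t ∈ h.V, t ≠ 1 → ¬ IsConj c.z t → ∃ Fix Swap : G → Prop, H38.JFour.TModel c.z h.V t Fix Swap) :
    (∀ V : Subgroup G, Cfsg.IsElementaryAbelian 2 V → Nat.card ↥V = 2 ^ 11 →
      ∃ z' t : G, z' ∈ V ∧ t ∈ V ∧ t ≠ 1 ∧ IsConj z z' ∧ ¬ IsConj z t ∧
        Set.ncard {v : G | ∃ n ∈ normalizer (V : Set G), n * z' * n⁻¹ = v} = 1771 ∧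
        Set.ncard {v : G | ∃ n ∈ normalizer (V : Set G), n * t * n⁻¹ = v} = 276 ∧
        centralizer ({t} : Set G) ≤ normalizer (V : Set G)) ∧
    (∀ t : G, orderOf t = 2 → ¬ IsConj z t →
      ∃ V K : Subgroup G, V ≤ centralizer ({t} : Set G) ∧ K ≤ centralizer ({t} : Set G) ∧
        centralizer ({t} : Set G) ≤ normalizer (V : Set G) ∧ Cfsg.IsElementaryAbelian 2 V ∧
        Nat.card ↥V = 2 ^ 11 ∧ K ⊓ V = ⊥ ∧ K ⊔ V = centralizer ({t} : Set G) ∧
        Nonempty (↥K ≃* MulAut ↥Cfsg.Spor.M22)) := by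
  obtain ⟨c, W, W', a, b, u, rfl, hE, hti, h, h', hS, hF⟩ := exists_full_setup hG hJ
  have hcent := h.cent_le_of_model hF hE hti (hmodel c W h hF hE hti)
  exact ⟨fun V hV hcard => h.two_eleven_orbits hF hcent hV hcard,
    fun t ht hnc => h.nonz_shape h' hS hF hti H98.JFour.outerInR_autM22 hG hcent ht hnc⟩

end Cfsg.Agent.H98.JFour
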