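import Cfsg.Agent.H43.J4.Data

/-!
Facts about a hexad subgroup `W = 2 ^ 4` of `M22` inside `A = Aut M22`, used in the local analysis of groups of
Janko-four type together with `H43.JFour.AutData`.
-/

set_option autoImplicit false

namespace Cfsg.Agent.H98.JFour

variable {A : Type*} [Group A]

/-- `W` is a hexad subgroup `2 ^ 4` of `M`, with normaliser `2 ^ 4 : S6` in `A`. -/
structure HexData (A : Type*) [Group A] (M W : Subgroup A) : Prop where
  le : W ≤ M
  elem : IsElementaryAbelian 2 W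
  card : Nat.card W = 16
  cent : Subgroup.centralizer (W : Set A) = W
  card_norm : Nat.card (Subgroup.normalizer (W : Set A)) = 11520
  trans : ∀ a ∈ W, ∀ b ∈ W, a ≠ 1 → b ≠ 1 →
    ∃ g ∈ M ⊓ Subgroup.normalizer (W : Set A), g * a * g⁻¹ = b
  line : ∀ L : Subgroup A, L ≤ W → Nat.card L = 4 →
    ∃ g ∈ M ⊓ Subgroup.normalizer (W : Set A), Nat.card ↥(L ⊓ L.map (MulAut.conj g).toMonoidHom) = 2
  elem_le : ∀ B : Subgroup A, B ≤ M → IsElementaryAbelian 2 B → Nat.card B ≤ 16
  meet : ∀ B : Subgroup A, B ≤ M ⊓ Subgroup.normalizer (W : Set A) → IsElementaryAbelian 2 B →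
    Nat.card B = 16 → 4 ≤ Nat.card ↥(B ⊓ W)

end Cfsg.Agent.H98.JFour
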