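import Cfsg.Agent.H98.JFour.VEleven
import Cfsg.Agent.H43.J4.RankMain

/-!
The standing hypotheses follow from a context, the facts on `A` and a hexad group.
-/

set_option autoImplicit false

namespace Cfsg.Agent.H98.JFour

open Module H43.JFour Subgroup

universe u v

variable {G : Type u} [Group G] [Finite G] {A : Type v} [Group A] {c : Ctx G A} {M W : Subgroup A}

/-- The preimage of the fixed space of an element of `C` is `fixMod`. -/
theorem pre_fix (hc : c.Ok) (n : c.C) : pre c ((spForm hc).fix n) = hc.fixMod (n : G) := by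
  ext a
  refine and_congr_right fun ha => ?_
  rw [(spForm hc).mem_fix, spForm_ρ hc n ha, vec_eq_iff hc (hc.conjE (mem_inf.1 n.2).1 ha) ha]
  exact Iff.rfl

/-- The standing hypotheses. -/
theorem Pkg.of_data (hc : c.Ok) (hd : AutData A M) (hW : HexData A M W) : Pkg c M W where
  hc := hc
  hd := hd
  hW := hW
  rank8 n h2 ho := by
    have hH := (mem_inf.1 n.2).1
    have hM : c.pr (n : G) ∈ M := (hc.mem_C_iff hd (c.C_le_Nh n.2)).1 n.2
    have h1 : c.pr (n : G) ≠ 1 := fun e => by rw [e, orderOf_one] at ho; omega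
    have h := (hc.card_fix_inner hd hH hM h1 h2).1
    rw [← pre_fix hc n, card_pre hc, show 2 ^ 9 = 2 * 2 ^ 8 from rfl] at h
    exact Nat.pow_right_injective le_rfl (Nat.eq_of_mul_eq_mul_left (by norm_num) h)

end Cfsg.Agent.H98.JFour
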