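import Cfsg.Agent.H85.JFour.AutM22.Main

/-!
Every involution outside the inner automorphisms lies in a conjugate of the elementary abelian
subgroup of order 32.
-/

set_option autoImplicit false

namespace Cfsg.Agent.H98.JFour

open Cfsg Cfsg.Agent.H43.JFour Cfsg.Agent.H85.AutM22 Cfsg.Agent.Golay Cfsg.Agent.H94.M24

universe u

/-- Every outer involution is conjugate into each elementary abelian subgroup of order 32. -/
def OuterInR {A : Type u} [Group A] (M : Subgroup A) : Prop :=
  ∀ a : A, a ∉ M → orderOf a = 2 → ∀ R : Subgroup A, IsR R → ∃ g : A, g * a * g⁻¹ ∈ R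

set_option maxHeartbeats 1000000 in
theorem outer_hit :
    ((invList.filter fun t => !isInner t).all fun t =>
      duadReps.any fun c => rList.any fun r => carries c r t) = true := by
  decide +kernel

theorem outerInR_pairGrp : OuterInR innerGrp := by
  intro a ha ho R hR
  obtain ⟨g, hg⟩ := exists_conj_le (IsPGroup.of_card (n := 1) (G := ↥(Subgroup.zpowers a))
    (by rw [Nat.card_zpowers, ho, pow_one]))
  have hm : g * a * g⁻¹ ∈ sylS := hg ⟨a, Subgroup.mem_zpowers a, rfl⟩
  obtain ⟨t, ht, he⟩ := mem_sylS.1 hm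
  have hG := good_sList ht
  have ho' : orderOf (el t) = 2 := by rw [he]; exact (MulEquiv.orderOf_eq (MulAut.conj g) a).trans ho
  have hne : t ≠ idTblVal := fun e => by rw [e, el_id, orderOf_one] at ho'; norm_num at ho'
  have ht2 : tblMul t t = idTblVal := by
    refine (hG.mul hG).el_eq_one.1 ?_
    rw [hG.el_mul hG, ← pow_two, ← ho', pow_orderOf_eq_one]
  have hout : el t ∉ innerGrp := fun h => ha (by
    rw [he] at h
    have := innerGrp_normal.conj_mem _ h g⁻¹
    rwa [show g⁻¹ * (g * a * g⁻¹) * g⁻¹⁻¹ = a by group] at this)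
  have hit := outer_hit
  simp only [List.all_eq_true, List.any_eq_true, List.mem_filter] at hit
  obtain ⟨c, hc, r, hr, hcar⟩ := hit t ⟨(invList_facts.2 t ht ht2).resolve_left hne, by
    rw [Bool.not_eq_true', Bool.eq_false_iff]; exact fun e => hout (hG.isInner_iff'.1 e)⟩
  have hcG := good_duadReps hc
  have e := (hcG.carries_iff (good_rList hr) hG).1 hcar
  obtain ⟨k, hk⟩ := exists_conj_R isR_baseR hR
  refine ⟨k * ((el c)⁻¹ * g), ?_⟩
  rw [← hk]
  refine ⟨el r, mem_baseR.2 ⟨r, hr, rfl⟩, ?_⟩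
  show k * el r * k⁻¹ = _
  calc k * el r * k⁻¹ = k * ((el c)⁻¹ * (el c * el r * (el c)⁻¹) * el c) * k⁻¹ := by group
    _ = k * ((el c)⁻¹ * (g * a * g⁻¹) * el c) * k⁻¹ := by rw [e, he]
    _ = _ := by group

theorem outerInR_map {A B : Type*} [Group A] [Group B] (e : A ≃* B) {M : Subgroup A} (h : OuterInR M) :
    OuterInR (M.map e.toMonoidHom) := by
  intro b hb ho R hR
  obtain ⟨a, rfl⟩ := e.surjective b
  obtain ⟨R', rfl⟩ := exists_map_e e R
  obtain ⟨g, hg⟩ := h a (fun h' => hb ((mem_map_e e).2 h')) (by rwa [MulEquiv.orderOf_eq] at ho) R'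
    ⟨(elem_map_e e 2 R').1 hR.1, by rw [← card_map_e e]; exact hR.2⟩
  exact ⟨e g, by rw [← map_inv, ← map_mul, ← map_mul]; exact (mem_map_e e).2 hg⟩

theorem outerInR_autM22 :
    OuterInR (MulAut.conj : ↥Cfsg.Spor.M22 →* MulAut ↥Cfsg.Spor.M22).range :=
  map_innerGrp ▸ outerInR_map autEquiv outerInR_pairGrp

end Cfsg.Agent.H98.JFour
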