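import Cfsg.Agent.H98.JFour.FixPoint
import Cfsg.Agent.H98.JFour.OuterR
import Cfsg.Agent.H43.J4.Orbit

/-!
Every involution is conjugate into `V`.
-/

set_option autoImplicit false
set_option linter.style.haveILetI false

namespace Cfsg.Agent.H98.JFour

open Subgroup H43.JFour
open scoped Pointwise commutatorElement

universe u v

variable {G : Type u} [Group G] [Finite G] {A : Type v} [Group A]
variable {c : Ctx G A} {M W : Subgroup A}

namespace Pkg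

/-- An involution of `E` is conjugate into `V`. -/
theorem reach_E (h : Pkg c M W) (hF : HasFus c M) (hti : HexTI W) {x : G} (hx : x ∈ c.E)
    (h2 : x * x = 1) (h1 : x ≠ 1) : h.Reach x := by
  classical
  rcases eq_or_ne x c.z with rfl | hxz
  · exact reach_of_mem h.z_mem_V
  obtain ⟨e, he, hez, hcj, -⟩ := id hF
  obtain ⟨g, rfl⟩ := isConj_iff.1 hcj
  have π : Ctx.Duo c (c.conj g) := ⟨h.hc, h.hc.conj g, he, hez⟩
  obtain ⟨xt, pt, ht⟩ := h.hc.exists_trip h.hd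
  have horb : (Ctx.Duo.Orb c (c.conj g)).ncard = 1386 := by
    rw [π.ncard_orb h.hd, (π.main h.hd ht).1, h.hd.R_index _ ((π.symm h.hd).isR h.hd)]
  obtain ⟨t, ht'⟩ := Set.nonempty_of_ncard_ne_zero (s := h.fib h.rest 1)
    (by rw [(h.rest_A7 hF).1]; norm_num)
  have htA : t ∈ h.A7 := h.mem_A7_of_pr (h.rest_inv.sub ht'.1) ht'.2
  have htz : ¬ IsConj c.z t := fun e => ht'.1.2 (h.fusion (h.A7_le_V htA) e)
  have hOt : (conjSet c.H t).ncard = 2772 := by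
    have h1 := conjSet_card c.H t
    have e : c.H ⊓ centralizer ({t} : Set G) = h.NH ⊓ centralizer ({t} : Set G) :=
      le_antisymm (le_inf (h.cent_rest_le hF hti ht'.1) inf_le_right)
        (inf_le_inf (fun n hn => hn.1) le_rfl)
    rw [e, h.card_cent_NH hF ht', h.hc.card_H, h.hd.card] at h1
    omega
  have hOtsub : conjSet c.H t ⊆ c.Sing := by
    rintro _ ⟨n, hn, rfl⟩
    refine ⟨h.hc.conjE hn (mem_inf.1 htA).1, ?_, fun e => ht'.1.1.2 ?_, fun e => htz ?_⟩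
    · rw [show n * t * n⁻¹ * (n * t * n⁻¹) = n * (t * t) * n⁻¹ by group, h.A7_sq htA]; group
    · rw [mul_inv_eq_one] at e; exact mul_eq_left.1 e
    · rw [← e]; exact isConj_iff.2 ⟨n⁻¹, by group⟩
  have hdisj : Disjoint (Ctx.Duo.Orb c (c.conj g)) (conjSet c.H t) := by
    rw [Set.disjoint_left]
    rintro _ ⟨m, hm, rfl⟩ ⟨n, hn, e⟩
    refine htz ?_
    have h1 : IsConj (g * c.z * g⁻¹) t := isConj_iff.2 ⟨n⁻¹ * m, by
      have e' : n * t * n⁻¹ = m * (g * c.z * g⁻¹) * m⁻¹ := e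
      calc n⁻¹ * m * (g * c.z * g⁻¹) * (n⁻¹ * m)⁻¹ = n⁻¹ * (m * (g * c.z * g⁻¹) * m⁻¹) * n := by group
        _ = t := by rw [← e']; group⟩
    exact (isConj_iff.2 ⟨g, rfl⟩ : IsConj c.z (g * c.z * g⁻¹)).trans h1
  have heq : Ctx.Duo.Orb c (c.conj g) ∪ conjSet c.H t = c.Sing := by
    refine Set.eq_of_subset_of_ncard_le (Set.union_subset π.orb_sing hOtsub) ?_ (Set.toFinite _)
    rw [Set.ncard_union_eq hdisj (Set.toFinite _) (Set.toFinite _), horb, hOt, h.hc.ncard_sing]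
  have hxs : x ∈ c.Sing := ⟨hx, h2, h1, hxz⟩
  rw [← heq] at hxs
  rcases hxs with ⟨m, hm, rfl⟩ | ⟨n, hn, rfl⟩
  · exact ⟨c.z, h.z_mem_V, isConj_iff.2 ⟨g⁻¹ * m⁻¹, by
      show g⁻¹ * m⁻¹ * (m * (g * c.z * g⁻¹) * m⁻¹) * (g⁻¹ * m⁻¹)⁻¹ = c.z
      group⟩⟩
  · exact ⟨t, h.A7_le_V htA, isConj_iff.2 ⟨n⁻¹, by group⟩⟩

/-- An element of order three of `C` centralising `w`, outside `P`, in the normaliser of `W`. -/
theorem exists_three (h : Pkg c M W) (hti : HexTI W) {w : G} (hw : w ∈ h.E5) (h1 : c.pr w ≠ 1) :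
    ∃ s ∈ c.C, s ^ 3 = 1 ∧ s * w = w * s ∧ c.pr s ≠ 1 ∧ c.pr s ∈ normalizer (W : Set A) := by
  haveI := h.finiteA
  haveI := h.hd.normal
  haveI : Fact (Nat.Prime 3) := ⟨Nat.prime_three⟩
  haveI : Fact (Nat.Prime 2) := ⟨Nat.prime_two⟩
  obtain ⟨x, y, a, b, hxM, -, haM, -, hxo, -, hao, -, -, -, -, hxa, -, -, -⟩ := h.hd.three_four
  have hwo : orderOf (c.pr w) = 2 := orderOf_eq_prime (by rw [pow_two]; exact h.sq_W hw.2.1) h1
  obtain ⟨g, hg, eg⟩ := h.hd.invol a haM _ (h.hW.le hw.2.1) hao hwo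
  set β := g * x * g⁻¹ with hβ
  have hβM : β ∈ M := ‹M.Normal›.conj_mem x hxM g
  have hβo : orderOf β = 3 := (MulEquiv.orderOf_eq (MulAut.conj g) x).trans hxo
  have hβw : β * c.pr w * β⁻¹ = c.pr w := by
    rw [← eg, hβ]
    calc g * x * g⁻¹ * (g * a * g⁻¹) * (g * x * g⁻¹)⁻¹ = g * (x * a * x⁻¹) * g⁻¹ := by group
      _ = g * a * g⁻¹ := by rw [hxa.eq, mul_inv_cancel_right]
  have hβN : β ∈ normalizer (W : Set A) := hti β _ hw.2.1 h1 (by rw [hβw]; exact hw.2.1)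
  obtain ⟨n, hn, hnβ⟩ := h.hc.C_surj h.hd hβM
  have hprpow : ∀ k : ℕ, c.pr (n ^ k) = β ^ k := by
    intro k
    induction k with
    | zero => rw [pow_zero, pow_zero, h.hc.pr_one]
    | succ m ih => rw [pow_succ, pow_succ, h.pr_mul_C (pow_mem hn m) hn, ih, hnβ]
  have hβ3 : β ^ 3 = 1 := by rw [← hβo]; exact pow_orderOf_eq_one β
  set s := n ^ 4 with hs
  have hsC : s ∈ c.C := pow_mem hn 4
  have hsβ : c.pr s = β := by rw [hs, hprpow, pow_succ, hβ3, one_mul]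
  have h18 : n ^ 18 = 1 := by
    obtain ⟨p, hp, e⟩ := h.ker_mem (pow_mem hn 3) (by rw [hprpow, hβ3])
    have h3 : p ^ 3 = 1 := orderOf_dvd_iff_pow_eq_one.1 (h.hc.cardP ▸ orderOf_dvd_natCard c.P hp)
    rw [show 18 = 3 * (3 * 2) from rfl, pow_mul]
    rcases e with e | e <;> rw [e]
    · rw [pow_mul, h3, one_pow]
    · rw [(show Commute c.z p from c.mem_H.1 (h.hc.P_le hp)).mul_pow, pow_mul p, h3, one_pow, mul_one,
        mul_comm 3 2, pow_mul, pow_two, h.hc.z_sq, one_pow]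
  have hs9 : s ^ (3 ^ 2) = 1 := by
    rw [hs, ← pow_mul, show 4 * 3 ^ 2 = 18 * 2 from rfl, pow_mul, h18, one_pow]
  have hp3 : IsPGroup 3 (Subgroup.zpowers (⟨s, hsC⟩ : c.C)) := fun u => ⟨2, by
    obtain ⟨k, hk⟩ := mem_zpowers_iff.1 u.2
    refine Subtype.ext (Subtype.ext ?_)
    show (((u : c.C) : G)) ^ 3 ^ 2 = 1
    rw [← hk, SubgroupClass.coe_zpow, ← zpow_natCast, ← zpow_mul, mul_comm, zpow_mul, zpow_natCast,
      hs9, one_zpow]⟩
  obtain ⟨S, hS⟩ := hp3.exists_le_sylow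
  have hs3 : s ^ 3 = 1 := h.hc.R_exp h.hd (h.hc.rThree_of_sylow h.hd S)
    ⟨_, hS (mem_zpowers _), rfl⟩
  refine ⟨s, hsC, hs3, ?_, ?_, hsβ ▸ hβN⟩
  · have hsN : c.pr s ∈ normalizer (W : Set A) := hsβ ▸ hβN
    have hw' := h.E5_conj (c.C_le_Nh hsC) hsN hw
    have hpr : c.pr (s * w * s⁻¹ * w⁻¹) = 1 := by
      rw [h.pr_mul_C hw'.1 (inv_mem hw.1), h.hc.pr_conj (mem_inf.1 hsC).1 (mem_inf.1 hw.1).1, hsβ, hβw,
        h.pr_inv_C hw.1, mul_inv_cancel]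
    rcases h.E5_ker (mul_mem hw' (inv_mem hw)) hpr with e | e
    · rw [mul_inv_eq_one, mul_inv_eq_iff_eq_mul] at e
      exact e
    · exfalso
      rw [mul_inv_eq_iff_eq_mul] at e
      have hz : ∀ u : G, s * (c.z * u) * s⁻¹ = c.z * (s * u * s⁻¹) := fun u => by
        rw [← mul_assoc s, ← c.mem_H.1 (mem_inf.1 hsC).1]; group
      have h3 : s ^ 3 * w * (s ^ 3)⁻¹ = c.z * w := by
        calc s ^ 3 * w * (s ^ 3)⁻¹ = s * (s * (s * w * s⁻¹) * s⁻¹) * s⁻¹ := by rw [pow_three']; group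
          _ = c.z * w := by rw [e, hz, e, ← mul_assoc c.z c.z, h.hc.z_sq, one_mul, e]
      rw [hs3, one_mul, inv_one, mul_one] at h3
      exact h.hc.z_ne (mul_eq_right.1 h3.symm)
  · rw [hsβ]; intro e; rw [e, orderOf_one] at hβo; norm_num at hβo

/-- The commutator space of an element of `E₅` lies in `A₇`. -/
theorem imMod_le_A7 (h : Pkg c M W) {w : G} (hw : w ∈ h.E5) :
    h.hc.imMod w (mem_inf.1 hw.1).1 ≤ h.A7 := by
  rintro k ⟨v, hv, e⟩
  have h1 : v * (w * v⁻¹ * w⁻¹) ∈ h.A7 := by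
    rw [← h.V_inf_E]
    refine mem_inf.2 ⟨?_, mul_mem hv (h.hc.conjE (mem_inf.1 hw.1).1 (inv_mem hv))⟩
    rw [show v * (w * v⁻¹ * w⁻¹) = v * w * v⁻¹ * w⁻¹ by group]
    exact mul_mem (h.E_conj_V hv (h.E5_le_V hw)) (inv_mem (h.E5_le_V hw))
  rcases e with e | e <;> rw [e]
  exacts [h1, mul_mem h.z_mem_A7 h1]

theorem imMod_conj (h : Pkg c M W) {w s : G} (hw : w ∈ c.H) (hs : s ∈ c.H) (hsw : s * w = w * s)
    {k : G} (hk : k ∈ h.hc.imMod w hw) : s * k * s⁻¹ ∈ h.hc.imMod w hw := by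
  obtain ⟨v, hv, e⟩ := hk
  refine ⟨s * v * s⁻¹, h.hc.conjE hs hv, ?_⟩
  have hws : w * s⁻¹ = s⁻¹ * w := ((show Commute s w from hsw).inv_left).symm.eq
  have h1 : s * v * s⁻¹ * (w * (s * v * s⁻¹)⁻¹ * w⁻¹) = s * (v * (w * v⁻¹ * w⁻¹)) * s⁻¹ := by
    calc s * v * s⁻¹ * (w * (s * v * s⁻¹)⁻¹ * w⁻¹) = s * v * s⁻¹ * ((w * s) * v⁻¹ * (w * s)⁻¹) := by group
      _ = _ := by rw [← hsw]; group
  rw [h1]
  exact h.hc.eqz_conj hs e

/-- `P` acts without fixed points on `A₇` over the commutator space. -/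
theorem coset_P (h : Pkg c M W) {w p a : G} (hw : w ∈ h.E5) (hw1 : c.pr w ≠ 1) (hp : p ∈ c.P) (hp1 : p ≠ 1) (ha : a ∈ h.A7)
    (hka : p * a * p⁻¹ * a⁻¹ ∈ h.hc.imMod w (mem_inf.1 hw.1).1) :
    a ∈ h.hc.imMod w (mem_inf.1 hw.1).1 := by
  haveI : Fact (Nat.Prime 3) := ⟨Nat.prime_three⟩
  set K := h.hc.imMod w (mem_inf.1 hw.1).1
  have hpw : p * w = w * p := h.hc.P_central hp hw.1
  have hpH := h.hc.P_le hp
  set Ω : Set G := {y | y * a⁻¹ ∈ K}
  have hinv : ∀ y ∈ Ω, p * y * p⁻¹ ∈ Ω := by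
    intro y hy
    show p * y * p⁻¹ * a⁻¹ ∈ K
    rw [show p * y * p⁻¹ * a⁻¹ = p * (y * a⁻¹) * p⁻¹ * (p * a * p⁻¹ * a⁻¹) by group]
    exact mul_mem (h.imMod_conj _ hpH hpw hy) hka
  set T := Subgroup.zpowers p
  have hmem : ∀ t ∈ T, ∀ y ∈ Ω, t * y * t⁻¹ ∈ Ω := by
    intro t ht y hy
    obtain ⟨k, rfl⟩ := mem_powers_iff_mem_zpowers.2 ht
    induction k with
    | zero => simpa using hy
    | succ n ih =>
      have := hinv _ (ih (pow_mem (mem_zpowers p) n))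
      show p ^ (n + 1) * y * (p ^ (n + 1))⁻¹ ∈ Ω
      rw [pow_succ', show p * p ^ n * y * (p * p ^ n)⁻¹ = p * (p ^ n * y * (p ^ n)⁻¹) * p⁻¹ by group]
      exact this
  letI : MulAction T Ω :=
    { smul := fun t y => ⟨(t : G) * y * (t : G)⁻¹, hmem t t.2 y y.2⟩
      one_smul := fun y => Subtype.ext (show ((1 : T) : G) * y * ((1 : T) : G)⁻¹ = y by simp)
      mul_smul := fun a b y => Subtype.ext (show ((a * b : T) : G) * y * ((a * b : T) : G)⁻¹ =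
        (a : G) * ((b : G) * y * (b : G)⁻¹) * (a : G)⁻¹ by simp [mul_assoc]) }
  have hT : IsPGroup 3 T := IsPGroup.of_card (n := 1) (by
    rw [Nat.card_zpowers, pow_one]
    exact orderOf_eq_prime (by rw [pow_three']; exact h.hc.P_pow hp) hp1)
  have hcard : Nat.card Ω = Nat.card K :=
    Nat.card_congr { toFun := fun y => ⟨(y : G) * a⁻¹, y.2⟩
                     invFun := fun k => ⟨(k : G) * a, by show (k : G) * a * a⁻¹ ∈ K; rw [mul_inv_cancel_right]; exact k.2⟩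
                     left_inv := fun y => Subtype.ext (by simp)
                     right_inv := fun k => Subtype.ext (by simp) }
  have h32 : Nat.card K = 2 ^ 5 :=
    (h.hc.card_fix_inner h.hd (mem_inf.1 hw.1).1 (h.hW.le hw.2.1) hw1
      (Or.inl (h.E5_sq hw))).2
  haveI : Finite Ω := Finite.of_injective _ Subtype.val_injective
  obtain ⟨⟨y, hy⟩, hfix⟩ := hT.nonempty_fixed_point_of_prime_not_dvd_card Ω
    (by rw [hcard, h32]; norm_num)
  have e : p * y * p⁻¹ = y := congrArg Subtype.val (hfix ⟨p, mem_zpowers p⟩)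
  have hyE : y ∈ c.E := by
    rw [show y = y * a⁻¹ * a by group]
    exact mul_mem (h.hc.imMod_le (mem_inf.1 hw.1).1 hy) (mem_inf.1 ha).1
  have hyK : y ∈ K :=
    (zpowers_le.2 (h.hc.z_mem_imMod (mem_inf.1 hw.1).1)) (h.hc.fpf hp hp1 hyE (Or.inl e))
  have := mul_mem (inv_mem hy) hyK
  simpa using this

end Pkg

end Cfsg.Agent.H98.JFour
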