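import Cfsg.Agent.H85.JFour.AutM22.Hex

/-!
Only the normaliser of the hexad subgroup carries a nontrivial element of it into it.
-/

set_option autoImplicit false

namespace Cfsg.Agent.H98.JFour

open Cfsg Cfsg.Agent.H85.AutM22 Cfsg.Agent.Golay Cfsg.Agent.H94.M24
open scoped Pointwise

universe u

/-- Only the normaliser carries a nontrivial element of `W` into `W`. -/
def HexTI {A : Type u} [Group A] (W : Subgroup A) : Prop :=
  ∀ g : A, ∀ a ∈ W, a ≠ 1 → g * a * g⁻¹ ∈ W → g ∈ Subgroup.normalizer (W : Set A)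

theorem hex_move :
    (wList.all fun t => (t == idTblVal) ||
      (List.range 24).all fun i => octMask.testBit i || app t i != i) = true := by decide +kernel

theorem hexW_fix {a : ↥pairGrp} (ha : a ∈ hexW) (h1 : a ≠ 1) (p : GolayPt) :
    (a : Equiv.Perm GolayPt) p = p ↔ p ∈ octSet := by
  obtain ⟨t, ht, rfl⟩ := mem_hexW.1 ha
  have hG := good_wList ht
  have e1 := oct_fix.1
  have e2 := hex_move
  simp only [List.all_eq_true, List.mem_range, Bool.or_eq_true, Bool.not_eq_true', beq_iff_eq,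
    bne_iff_ne] at e1 e2
  rw [octSet, mem_ptSet, hG.app_eq]
  constructor
  · intro hp
    refine ((e2 t ht).resolve_left (fun e => h1 (hG.el_eq_one.2 e)) _ (idx_lt p)).resolve_right
      fun hne => hne ?_
    have e := congrArg idx hp
    rwa [idx_pt _ ((validT_bijective hG.valid).2 _ (idx_lt _))] at e
  · intro hp
    rw [(e1 t ht _ (idx_lt p)).resolve_left (by rw [hp]; simp), pt_idx]

theorem hexTI_pairGrp : HexTI hexW := by
  intro g a ha ha1 hb
  have hb1 : g * a * g⁻¹ ≠ 1 := fun e => ha1 (conj_eq_one_iff.1 e)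
  have hn : normH = stabO :=
    Subgroup.eq_of_le_of_card_ge normH_le_stabO (card_stabO_le.trans card_normH.ge)
  show g ∈ normH
  rw [hn, stabO, MulAction.mem_stabilizer_iff]
  refine smul_eq_of_image (fun p hp => ?_) le_rfl
  refine (hexW_fix hb hb1 _).1 ?_
  simp only [Subgroup.coe_mul, Subgroup.coe_inv, Equiv.Perm.mul_apply, Equiv.Perm.coe_inv,
    Equiv.symm_apply_apply]
  exact congrArg _ ((hexW_fix ha ha1 p).2 hp)

theorem hexTI_map {A B : Type*} [Group A] [Group B] (e : A ≃* B) {W : Subgroup A} (h : HexTI W) :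
    HexTI (W.map e.toMonoidHom) := by
  rintro g _ ⟨a, ha, rfl⟩ h1 hg
  obtain ⟨g', rfl⟩ := e.surjective g
  rw [norm_map_e, mem_map_e]
  refine h g' a ha (fun h' => h1 (by rw [h', map_one])) ?_
  rw [← mem_map_e e, map_mul, map_mul, map_inv]
  exact hg

/-- A hexad subgroup of `Aut M22` with both sets of facts. -/
theorem exists_hex :
    ∃ W : Subgroup (MulAut ↥Cfsg.Spor.M22), HexData (MulAut ↥Cfsg.Spor.M22)
      (MulAut.conj : ↥Cfsg.Spor.M22 →* MulAut ↥Cfsg.Spor.M22).range W ∧ HexTI W :=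
  ⟨_, map_innerGrp ▸ hexData_map autEquiv hexData_pairGrp, hexTI_map autEquiv hexTI_pairGrp⟩

end Cfsg.Agent.H98.JFour
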