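import Cfsg.Prelude.Def_JankoFourType
import Cfsg.Agent.H43.J4.Bridge

/-!
The largest normal 2-subgroup of the centraliser of an element, and its transport to contexts.
-/

set_option autoImplicit false

namespace Cfsg.Agent.H98.JFour

open Subgroup H43.JFour

universe u v

variable {G : Type u} [Group G]

theorem twoCore_le_centralizer (x : G) :
    Cfsg.twoCoreOfCentralizer x ≤ centralizer ({x} : Set G) := map_subtype_le _

theorem twoCore_norm (x : G) :
    centralizer ({x} : Set G) ≤ normalizer (Cfsg.twoCoreOfCentralizer x : Set G) := by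
  intro h hh
  have key : ∀ g ∈ centralizer ({x} : Set G), ∀ y ∈ Cfsg.twoCoreOfCentralizer x,
      g * y * g⁻¹ ∈ Cfsg.twoCoreOfCentralizer x := by
    rintro g hg _ ⟨y, hy, rfl⟩
    exact ⟨⟨g, hg⟩ * y * ⟨g, hg⟩⁻¹, (inferInstance : (Cfsg.pCore 2 _).Normal).conj_mem y hy _, rfl⟩
  exact mem_normalizer_iff.2 fun y => ⟨key h hh y,
    fun hy => by simpa [mul_assoc] using key h⁻¹ (inv_mem hh) _ hy⟩

theorem twoCore_conj [Finite G] (g x : G) :
    Cfsg.twoCoreOfCentralizer (g * x * g⁻¹) =
      (Cfsg.twoCoreOfCentralizer x).map (MulAut.conj g).toMonoidHom := by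
  have hC : (centralizer ({x} : Set G)).map (MulAut.conj g).toMonoidHom =
      centralizer ({g * x * g⁻¹} : Set G) := by
    rw [Ctx.map_centralizer_conj, Set.image_singleton]
  let e : ↥(centralizer ({x} : Set G)) ≃* ↥(centralizer ({g * x * g⁻¹} : Set G)) :=
    ((MulAut.conj g).subgroupMap _).trans (MulEquiv.subgroupCongr hC)
  have h := Cfsg.Agent.Cores.pCore_map_mulEquiv (p := 2) e
  show (Cfsg.pCore 2 _).map _ = ((Cfsg.pCore 2 _).map _).map _
  rw [← h, Subgroup.map_map, Subgroup.map_map]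
  rfl

variable {A : Type v} [Group A]

/-- The context lives on the largest normal 2-subgroup of the centraliser of its involution. -/
def IsCore (c : Ctx G A) : Prop := c.E = Cfsg.twoCoreOfCentralizer c.z

theorem IsCore.conj [Finite G] {c : Ctx G A} (hE : IsCore c) (g : G) : IsCore (c.conj g) := by
  show c.E.map _ = Cfsg.twoCoreOfCentralizer (g * c.z * g⁻¹)
  rw [twoCore_conj, ← hE]

/-- The context at a conjugate of the involution. -/
theorem exists_ctx_at [Finite G] {c : Ctx G A} (hc : c.Ok) (hE : IsCore c) {x : G} (hx : IsConj c.z x) :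
    ∃ d : Ctx G A, d.Ok ∧ d.z = x ∧ d.E = Cfsg.twoCoreOfCentralizer x := by
  obtain ⟨g, rfl⟩ := isConj_iff.1 hx
  exact ⟨c.conj g, hc.conj g, rfl, hE.conj g⟩

end Cfsg.Agent.H98.JFour
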