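import Cfsg.Agent.H98.JFour.Orbits
import Cfsg.Agent.H98.JFour.TwoCore
import Cfsg.Agent.H98.JFour.HexTI
import Cfsg.Agent.H98.JFour.PkgBridge
import Cfsg.Agent.H43.J4.Bridge
import Cfsg.Agent.H85.JFour.AutM22.Main
import Cfsg.Agent.H85.JFour.AutM22.Hex

/-!
From the type hypothesis to the standing hypotheses over `A = Aut M22`.
-/

set_option autoImplicit false

namespace Cfsg.Agent.H98.JFour

open H43.JFour

universe u

/-- The inner automorphisms. -/
abbrev innM22 : Subgroup (MulAut ↥Cfsg.Spor.M22) :=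
  (MulAut.conj : ↥Cfsg.Spor.M22 →* MulAut ↥Cfsg.Spor.M22).range

theorem exists_pkg {G : Type u} [Group G] [Finite G] {z : G} (hJ : Cfsg.IsOfJankoFourTypeAt z) :
    ∃ (c : Ctx G (MulAut ↥Cfsg.Spor.M22)) (W : Subgroup (MulAut ↥Cfsg.Spor.M22)),
      c.z = z ∧ Pkg c innM22 W := by
  obtain ⟨P, hP⟩ := hJ
  obtain ⟨c, hz, -, -, hc⟩ := exists_ctx hP
  obtain ⟨W, hW⟩ := H85.AutM22.hexData
  exact ⟨c, W, hz, Pkg.of_data hc H85.AutM22.autData hW⟩

/-- As `exists_pkg`, with the context on the largest normal 2-subgroup of the centraliser. -/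
theorem exists_pkg_core {G : Type u} [Group G] [Finite G] {z : G} (hJ : Cfsg.IsOfJankoFourTypeAt z) :
    ∃ (c : Ctx G (MulAut ↥Cfsg.Spor.M22)) (W : Subgroup (MulAut ↥Cfsg.Spor.M22)),
      c.z = z ∧ IsCore c ∧ Pkg c innM22 W := by
  obtain ⟨P, hP⟩ := hJ
  obtain ⟨c, hz, -, hE, hc⟩ := exists_ctx hP
  obtain ⟨W, hW⟩ := H85.AutM22.hexData
  exact ⟨c, W, hz, (by unfold IsCore; rw [hz]; exact hE), Pkg.of_data hc H85.AutM22.autData hW⟩

/-- As `exists_pkg_core`, with the trivial intersection property of the hexad subgroup. -/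
theorem exists_pkg_ti {G : Type u} [Group G] [Finite G] {z : G} (hJ : Cfsg.IsOfJankoFourTypeAt z) :
    ∃ (c : Ctx G (MulAut ↥Cfsg.Spor.M22)) (W : Subgroup (MulAut ↥Cfsg.Spor.M22)),
      c.z = z ∧ IsCore c ∧ HexTI W ∧ Pkg c innM22 W := by
  obtain ⟨P, hP⟩ := hJ
  obtain ⟨c, hz, -, hE, hc⟩ := exists_ctx hP
  obtain ⟨W, hW, hti⟩ := exists_hex
  exact ⟨c, W, hz, (by unfold IsCore; rw [hz]; exact hE), hti, Pkg.of_data hc H85.AutM22.autData hW⟩

end Cfsg.Agent.H98.JFour
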