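import Cfsg.Agent.H98.JFour.TwoCore
import Cfsg.Agent.H98.JFour.Orbits
import Cfsg.Agent.H43.J4.Duo

/-!
Facts on the largest normal 2-subgroups of the centralisers of the conjugates of `z`, and the weak
closure of `V` in its normaliser.
-/

set_option autoImplicit false

namespace Cfsg.Agent.H98.JFour

open Subgroup H43.JFour

universe u v

variable {G : Type u} [Group G] [Finite G] {A : Type v} [Group A] {M W : Subgroup A}

section

variable {c : Ctx G A}

/-- The four group or cyclic group `{1, z, p, z p}`. -/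
def quadSub (hc : c.Ok) {p : G} (hp : p ∈ c.E) : Subgroup G where
  carrier := {a | a = 1 ∨ a = c.z ∨ a = p ∨ a = c.z * p}
  one_mem' := Or.inl rfl
  mul_mem' := by
    have hzp := hc.z_comm hp
    have hpz : ∀ a, p * (c.z * a) = c.z * (p * a) := fun a => by rw [← mul_assoc, ← hzp, mul_assoc]
    have hzz : ∀ a, c.z * (c.z * a) = a := fun a => by rw [← mul_assoc, hc.z_sq, one_mul]
    rintro a b (rfl | rfl | rfl | rfl) (rfl | rfl | rfl | rfl) <;>
      simp only [Set.mem_setOf_eq, one_mul, mul_one, mul_assoc, hpz, hzz, hc.z_sq, ← hzp, true_or, or_true] <;>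
      rcases hc.sq_mem hp with e | e <;> simp [e, hc.z_sq]
  inv_mem' := by
    rintro a (rfl | rfl | rfl | rfl)
    · exact Or.inl inv_one
    · exact Or.inr (Or.inl hc.z_inv)
    · rcases hc.sq_mem hp with e | e
      · exact Or.inr (Or.inr (Or.inl (inv_eq_of_mul_eq_one_left e)))
      · refine Or.inr (Or.inr (Or.inr (inv_eq_of_mul_eq_one_left ?_)))
        rw [mul_assoc, e, hc.z_sq]
    · rcases hc.sq_mem hp with e | e
      · refine Or.inr (Or.inr (Or.inr (inv_eq_of_mul_eq_one_left ?_)))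
        calc c.z * p * (c.z * p) = c.z * (p * c.z) * p := by group
          _ = c.z * c.z * (p * p) := by rw [← hc.z_comm hp]; group
          _ = 1 := by rw [e, hc.z_sq, one_mul]
      · refine Or.inr (Or.inr (Or.inl (inv_eq_of_mul_eq_one_left ?_)))
        calc p * (c.z * p) = p * c.z * p := by group
          _ = c.z * (p * p) := by rw [← hc.z_comm hp]; group
          _ = 1 := by rw [e, hc.z_sq]

theorem card_quadSub (hc : c.Ok) {p : G} (hp : p ∈ c.E) (h1 : p ≠ 1) (hz : p ≠ c.z) :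
    Nat.card (quadSub hc hp) = 4 := by
  classical
  have h3 : c.z * p ≠ 1 := fun e => hz (by
    rw [← hc.z_inv]; exact eq_inv_of_mul_eq_one_right e)
  have h4 : c.z * p ≠ c.z := fun e => h1 (mul_eq_left.1 e)
  have h5 : c.z * p ≠ p := fun e => hc.z_ne (mul_eq_right.1 e)
  have e : (quadSub hc hp : Set G) = (({1, c.z, p, c.z * p} : Finset G) : Set G) := by
    ext a; simp [quadSub]
  have hcard : (({1, c.z, p, c.z * p} : Finset G)).card = 4 := by
    rw [Finset.card_insert_of_notMem, Finset.card_insert_of_notMem, Finset.card_insert_of_notMem,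
      Finset.card_singleton]
    · simpa using Ne.symm h5
    · simpa using And.intro (Ne.symm hz) (Ne.symm h4)
    · simpa using ⟨Ne.symm hc.z_ne, Ne.symm h1, Ne.symm h3⟩
  rw [← hcard, ← Set.ncard_coe_finset, ← e]
  rfl

theorem cent_quadSub (hc : c.Ok) {p : G} (hp : p ∈ c.E) :
    c.E ⊓ centralizer (quadSub hc hp : Set G) = c.E ⊓ centralizer ({p} : Set G) := by
  refine le_antisymm (inf_le_inf le_rfl (centralizer_le (Set.singleton_subset_iff.2
    (show p ∈ quadSub hc hp from Or.inr (Or.inr (Or.inl rfl)))))) fun a ha => ?_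
  obtain ⟨haE, hap⟩ := mem_inf.1 ha
  have hpa := mem_centralizer_iff.1 hap p rfl
  refine mem_inf.2 ⟨haE, mem_centralizer_iff.2 ?_⟩
  rintro b (rfl | rfl | rfl | rfl)
  · simp
  · exact hc.z_comm haE
  · exact hpa
  · calc c.z * p * a = c.z * (a * p) := by rw [mul_assoc, hpa]
      _ = a * (c.z * p) := by rw [← mul_assoc, hc.z_comm haE, mul_assoc]

theorem card_cent_elem (hc : c.Ok) {p : G} (hp : p ∈ c.E) (h1 : p ≠ 1) (hz : p ≠ c.z) :
    Nat.card ↥(c.E ⊓ centralizer ({p} : Set G)) = 2 ^ 12 := by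
  have h := hc.card_cent (quadSub hc hp) (by
    rintro a (rfl | rfl | rfl | rfl)
    exacts [one_mem _, hc.z_mem, hp, mul_mem hc.z_mem hp]) (Or.inr (Or.inl rfl))
  rw [cent_quadSub, card_quadSub hc hp h1 hz] at h
  omega

theorem eq_of_cent_le (hc : c.Ok) {p q : G} (hp : p ∈ c.E) (hq : q ∈ c.E) (h1 : p ≠ 1) (hz : p ≠ c.z)
    (h : c.E ⊓ centralizer ({p} : Set G) ≤ centralizer ({q} : Set G)) :
    q = 1 ∨ q = c.z ∨ q = p ∨ q = c.z * p := by
  set Y := c.E ⊓ centralizer ({p} : Set G) with hY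
  have hzY : c.z ∈ Y := mem_inf.2 ⟨hc.z_mem, mem_centralizer_iff.2 fun a ha => by
    rw [Set.mem_singleton_iff.1 ha]; exact (hc.z_comm hp).symm⟩
  have hcd := hc.card_cent Y inf_le_left hzY
  rw [card_cent_elem hc hp h1 hz] at hcd
  have hle : quadSub hc hp ≤ c.E ⊓ centralizer (Y : Set G) := by
    rw [hY, ← cent_quadSub hc hp]
    intro a ha
    refine mem_inf.2 ⟨?_, mem_centralizer_iff.2 fun b hb => ?_⟩
    · rcases ha with rfl | rfl | rfl | rfl
      exacts [one_mem _, hc.z_mem, hp, mul_mem hc.z_mem hp]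
    · exact (mem_centralizer_iff.1 (mem_inf.1 hb).2 a ha).symm
  have heq := Subgroup.eq_of_le_of_card_ge hle (by rw [card_quadSub hc hp h1 hz]; omega)
  have hqm : q ∈ c.E ⊓ centralizer (Y : Set G) := mem_inf.2 ⟨hq, mem_centralizer_iff.2 fun b hb =>
    (mem_centralizer_iff.1 (h hb) q rfl).symm⟩
  rw [← heq] at hqm
  exact hqm

variable (hc : c.Ok) (hE : IsCore c)
include hc hE

theorem core_comm {x : G} (hx : IsConj c.z x) {p q : G} (hp : p ∈ Cfsg.twoCoreOfCentralizer x)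
    (hq : q ∈ Cfsg.twoCoreOfCentralizer x) : p * q * p⁻¹ * q⁻¹ = 1 ∨ p * q * p⁻¹ * q⁻¹ = x := by
  obtain ⟨d, hd, rfl, hdE⟩ := exists_ctx_at hc hE hx
  exact hd.comm_mem (hdE ▸ hp) (hdE ▸ hq)

theorem core_sq {x : G} (hx : IsConj c.z x) {p : G} (hp : p ∈ Cfsg.twoCoreOfCentralizer x) :
    p * p = 1 ∨ p * p = x := by
  obtain ⟨d, hd, rfl, hdE⟩ := exists_ctx_at hc hE hx
  exact hd.sq_mem (hdE ▸ hp)

theorem core_cent {x : G} (hx : IsConj c.z x) {p q : G} (hp : p ∈ Cfsg.twoCoreOfCentralizer x)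
    (hq : q ∈ Cfsg.twoCoreOfCentralizer x) (h1 : p ≠ 1) (hpx : p ≠ x)
    (h : Cfsg.twoCoreOfCentralizer x ⊓ centralizer ({p} : Set G) ≤ centralizer ({q} : Set G)) :
    q = 1 ∨ q = x ∨ q = p ∨ q = x * p := by
  obtain ⟨d, hd, rfl, hdE⟩ := exists_ctx_at hc hE hx
  exact eq_of_cent_le hd (hdE ▸ hp) (hdE ▸ hq) h1 hpx (hdE ▸ h)

theorem core_index {x : G} (hx : IsConj c.z x) {p : G} (hp : p ∈ Cfsg.twoCoreOfCentralizer x)
    (h1 : p ≠ 1) (hpx : p ≠ x) :
    Nat.card ↥(Cfsg.twoCoreOfCentralizer x ⊓ centralizer ({p} : Set G)) = 2 ^ 12 := by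
  obtain ⟨d, hd, rfl, hdE⟩ := exists_ctx_at hc hE hx
  rw [← hdE]
  exact card_cent_elem hd (hdE ▸ hp) h1 hpx

theorem core_symm (hd : AutData A M) {x y : G} (hx : IsConj c.z x) (hy : IsConj c.z y)
    (h : y ∈ Cfsg.twoCoreOfCentralizer x) : x ∈ Cfsg.twoCoreOfCentralizer y := by
  rcases eq_or_ne y x with rfl | hne
  · exact h
  obtain ⟨d, hdOk, rfl, hdE⟩ := exists_ctx_at hc hE hx
  obtain ⟨e, heOk, rfl, heE⟩ := exists_ctx_at hc hE hy
  rw [← heE]
  exact (⟨hdOk, heOk, hdE ▸ h, hne⟩ : Ctx.Duo d e).z_mem hd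

theorem core_meet (hd : AutData A M) {x y : G} (hx : IsConj c.z x) (hy : IsConj c.z y) (hne : x ≠ y)
    (h : y ∈ Cfsg.twoCoreOfCentralizer x) :
    Nat.card ↥(Cfsg.twoCoreOfCentralizer x ⊓ Cfsg.twoCoreOfCentralizer y) ≤ 2 ^ 7 := by
  obtain ⟨d, hdOk, rfl, hdE⟩ := exists_ctx_at hc hE hx
  obtain ⟨e, heOk, rfl, heE⟩ := exists_ctx_at hc hE hy
  rw [← hdE, ← heE]
  exact ((⟨hdOk, heOk, hdE ▸ h, hne.symm⟩ : Ctx.Duo d e).card_inf hd).le

end

namespace Pkg

variable {c : Ctx G A}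

/-- `V` is the only elementary abelian subgroup of its order in its normaliser. -/
theorem eq_V_of_le_normalizer (h : Pkg c M W) {U : Subgroup G} (hU : U ≤ normalizer (h.V : Set G))
    (hUe : Cfsg.IsElementaryAbelian 2 U) (hUc : Nat.card U = 2 ^ 11) : U = h.V := by
  haveI : Fact (Nat.Prime 2) := ⟨Nat.prime_two⟩
  obtain ⟨T, hT, -, -⟩ := h.exists_sylow
  have hTN : (T : Subgroup G) ≤ normalizer (h.V : Set G) :=
    fun x hx => (mem_inf.1 (h.NH_eq ▸ hT hx)).2
  obtain ⟨S, hS⟩ := ((IsPGroup.of_card hUc : IsPGroup 2 U).of_equiv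
    (subgroupOfEquivOfLe hU).symm).exists_le_sylow
  obtain ⟨k, hk⟩ := MulAction.exists_smul_eq (normalizer (h.V : Set G)) S (T.subtype hTN)
  have hmap : U.map (MulAut.conj (k : G)).toMonoidHom = h.V := by
    refine h.eq_V ?_ ?_ ?_
    · rintro _ ⟨x, hx, rfl⟩
      refine hT ?_
      have h1 : (⟨x, hU hx⟩ : ↥(normalizer (h.V : Set G))) ∈ (S : Subgroup _) := hS hx
      have h2 : MulAut.conj k ⟨x, hU hx⟩ ∈ ((k • S : Sylow 2 _) : Subgroup ↥(normalizer (h.V : Set G))) := by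
        rw [Sylow.coe_subgroup_smul]
        exact Subgroup.smul_mem_pointwise_smul _ (MulAut.conj k) _ h1
      rw [hk, Sylow.coe_subtype, mem_subgroupOf] at h2
      exact h2
    · refine ⟨⟨⟨?_⟩⟩, ?_⟩
      · rintro ⟨_, a, ha, rfl⟩ ⟨_, b, hb, rfl⟩
        apply Subtype.ext
        show MulAut.conj (k : G) a * MulAut.conj (k : G) b = MulAut.conj (k : G) b * MulAut.conj (k : G) a
        rw [← map_mul, ← map_mul, elem_comm hUe ha hb]
      · rintro _ ⟨a, ha, rfl⟩
        show (MulAut.conj (k : G) a) ^ 2 = 1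
        rw [← map_pow, hUe.2 a ha, map_one]
    · rw [Subgroup.card_map_of_injective (MulAut.conj _).injective, hUc]
  have hV := h.normalizer_V.1 k.2
  exact Subgroup.map_injective (f := (MulAut.conj (k : G)).toMonoidHom) (MulAut.conj (k : G)).injective
    (hmap.trans hV.symm)

theorem weak_closed (h : Pkg c M W) {g : G}
    (hg : ∀ v ∈ h.V, g * v * g⁻¹ ∈ normalizer (h.V : Set G)) : g ∈ normalizer (h.V : Set G) := by
  refine h.normalizer_V.2 (h.eq_V_of_le_normalizer ?_ ?_ ?_)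
  · rintro _ ⟨v, hv, rfl⟩; exact hg v hv
  · refine ⟨⟨⟨?_⟩⟩, ?_⟩
    · rintro ⟨_, a, ha, rfl⟩ ⟨_, b, hb, rfl⟩
      apply Subtype.ext
      show MulAut.conj g a * MulAut.conj g b = MulAut.conj g b * MulAut.conj g a
      rw [← map_mul, ← map_mul, h.V_comm ha hb]
    · rintro _ ⟨a, ha, rfl⟩
      show (MulAut.conj g a) ^ 2 = 1
      rw [← map_pow, h.elem_V.2 a ha, map_one]
  · rw [Subgroup.card_map_of_injective (MulAut.conj g).injective, h.card_V]

end Pkg

end Cfsg.Agent.H98.JFour
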