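import Cfsg.Agent.H98.JFour.VEleven

/-!
Subsets of `V` invariant under `N_H(V)`: their possible sizes on `A₇` and on each coset of `A₇`.
-/

set_option autoImplicit false
set_option linter.style.haveILetI false

namespace Cfsg.Agent.H98.JFour

open Module H43.JFour Subgroup

universe u v

variable {G : Type u} [Group G] [Finite G] {A : Type v} [Group A]
variable {c : Ctx G A} {M W : Subgroup A}

/-- The conjugates of `x` by the elements of `S`. -/
def conjSet (S : Subgroup G) (x : G) : Set G := {y | ∃ g ∈ S, g * x * g⁻¹ = y}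

omit [Finite G] in
theorem conjSet_card (S : Subgroup G) (x : G) :
    (conjSet S x).ncard * Nat.card ↥(S ⊓ centralizer ({x} : Set G)) = Nat.card S := by
  letI : MulAction S G :=
    { smul := fun g y => (g : G) * y * (g : G)⁻¹
      one_smul := fun y => show (1 : G) * y * (1 : G)⁻¹ = y by group
      mul_smul := fun g k y => show ((g : G) * k) * y * ((g : G) * k)⁻¹ =
        (g : G) * ((k : G) * y * (k : G)⁻¹) * (g : G)⁻¹ by group }
  have ho : MulAction.orbit S x = conjSet S x := by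
    ext y
    constructor
    · rintro ⟨g, rfl⟩; exact ⟨g, g.2, rfl⟩
    · rintro ⟨g, hg, rfl⟩; exact ⟨⟨g, hg⟩, rfl⟩
  have hs : MulAction.stabilizer S x = (S ⊓ centralizer ({x} : Set G)).subgroupOf S := by
    ext g
    rw [MulAction.mem_stabilizer_iff, mem_subgroupOf, mem_inf, mem_centralizer_iff]
    show (g : G) * x * (g : G)⁻¹ = x ↔ _
    rw [mul_inv_eq_iff_eq_mul]
    exact ⟨fun h => ⟨g.2, fun y hy => by rw [Set.mem_singleton_iff.1 hy]; exact h.symm⟩,
      fun h => (h.2 x rfl).symm⟩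
  rw [← ho, ← MulAction.index_stabilizer, hs,
    ← Nat.card_congr (subgroupOfEquivOfLe (inf_le_left : S ⊓ centralizer ({x} : Set G) ≤ S)).toEquiv]
  exact index_mul_card _

omit [Finite G] in
theorem self_mem_conjSet (S : Subgroup G) (x : G) : x ∈ conjSet S x :=
  ⟨1, one_mem _, by group⟩

namespace Pkg

/-- The subsets considered. -/
structure Inv (h : Pkg c M W) (Q : Set G) : Prop where
  sub : Q ⊆ (h.V : Set G)
  inv : ∀ g ∈ h.NH, ∀ x ∈ Q, g * x * g⁻¹ ∈ Q

theorem mem_A7_of_pr (h : Pkg c M W) {x : G} (hx : x ∈ h.V) (h1 : c.pr x = 1) : x ∈ h.A7 := by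
  obtain ⟨a, ha, w, hw, rfl⟩ := hx
  rw [h.pr_V ha hw] at h1
  rcases h.E5_ker hw h1 with rfl | rfl
  · rwa [mul_one]
  · exact mul_mem ha h.z_mem_A7

theorem pr_V_mem (h : Pkg c M W) {x : G} (hx : x ∈ h.V) : c.pr x ∈ W := by
  obtain ⟨a, ha, w, hw, rfl⟩ := hx
  rw [h.pr_V ha hw]; exact hw.2.1

theorem A7_conj_NH (h : Pkg c M W) {g a : G} (hg : g ∈ h.NH) (ha : a ∈ h.A7) :
    g * a * g⁻¹ ∈ h.A7 := by
  rw [← h.V_inf_E]
  exact mem_inf.2 ⟨h.NH_conj_V hg (h.A7_le_V ha), h.hc.conjE hg.1 (mem_inf.1 ha).1⟩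

theorem P_le_NH (h : Pkg c M W) : c.P ≤ h.NH :=
  fun p hp => ⟨h.hc.P_le hp, by rw [h.hc.pr_P hp]; exact one_mem _⟩

theorem NC_le_NH (h : Pkg c M W) : h.NC ≤ h.NH := fun n hn => ⟨(mem_inf.1 hn.1).1, hn.2⟩

/-- A nontrivial element of `A₇` other than `z` is fused with its product by `z`. -/
theorem exists_flip (h : Pkg c M W) {a : G} (ha : a ∈ c.E) (h1 : a ≠ 1) (hz : a ≠ c.z) :
    ∃ e ∈ c.E, e * a * e⁻¹ = c.z * a := by
  by_contra hne
  push Not at hne
  rcases h.hc.mem_of_center ha fun e he => by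
    rcases h.hc.swap he ha with e1 | e1
    · exact e1.symm
    · exact absurd (by rw [e1, mul_assoc c.z, mul_inv_cancel_right]) (hne e he) with e | e
  exacts [h1 e, hz e]

/-- The invariant sets of nonzero vectors of the half have `0`, `18`, `45` or `63` elements. -/
theorem ncard_vec_inv (h : Pkg c M W) (S : Set (Sp c)) (hS : ∀ v ∈ S, v ∈ h.X ∧ v ≠ 0)
    (hinv : ∀ n : c.C, c.pr (n : G) ∈ normalizer (W : Set A) → ∀ v ∈ S, (spForm h.hc).ρ n v ∈ S) :
    S.ncard ∈ [0, 18, 45, 63] := by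
  classical
  haveI := finite_sp h.hc
  haveI := Fintype.ofFinite (Sp c)
  set f := spForm h.hc with hf
  obtain ⟨R, x, y, hR, hR3, hx, hy, hp, hh⟩ := h.exists_half'
  -- `9` divides the size
  haveI : Fact (Nat.Prime 3) := ⟨Nat.prime_three⟩
  letI : MulAction R S :=
    { smul := fun r v => ⟨f.ρ (r : c.C) (v : Sp c), hinv _ (hR r r.2) v v.2⟩
      one_smul := fun v => Subtype.ext (f.one_apply _)
      mul_smul := fun r s v => Subtype.ext (f.mul_apply _ _ _) }
  haveI : Finite S := Finite.of_injective (fun v : S => (v : Sp c)) Subtype.val_injective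
  haveI := Fintype.ofFinite (Quotient (MulAction.orbitRel R S))
  have h9 : 9 ∣ S.ncard := by
    rw [← Nat.card_coe_set_eq, Nat.card_congr (MulAction.selfEquivSigmaOrbits R S), Nat.card_sigma]
    refine Finset.dvd_sum fun q _ => ?_
    obtain ⟨k, hk⟩ := hR3.card_orbit q.out
    rw [hk]
    refine dvd_trans (by norm_num : 9 ∣ 3 ^ 2) (pow_dvd_pow 3 ?_)
    by_contra hlt
    push Not at hlt
    set u := q.out
    have hu0 : (u : Sp c) ≠ 0 := (hS u u.2).2
    have hpu : f.ρ f.p (u : Sp c) ≠ u := fun e => hu0 (f.fpf _ e)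
    have hppu : f.ρ f.p (f.ρ f.p (u : Sp c)) ≠ u := fun e => hpu (by
      conv_rhs => rw [← f.p_apply_three (u : Sp c), e])
    -- the orbit consists of the point of `u`
    have hsub : Subtype.val '' MulAction.orbit R u =
        ({(u : Sp c), f.ρ f.p u, f.ρ f.p (f.ρ f.p u)} : Set (Sp c)) := by
      refine (Set.eq_of_subset_of_ncard_le ?_ ?_ (Set.toFinite _)).symm
      · rintro v (rfl | rfl | rfl)
        · exact ⟨u, MulAction.mem_orbit_self u, rfl⟩
        · exact ⟨_, ⟨⟨f.p, hp⟩, rfl⟩, rfl⟩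
        · refine ⟨_, ⟨⟨f.p, hp⟩ * ⟨f.p, hp⟩, rfl⟩, ?_⟩
          exact f.mul_apply _ _ _
      · rw [Set.ncard_image_of_injective _ Subtype.val_injective, ← Nat.card_coe_set_eq, hk]
        have h3 : ({(u : Sp c), f.ρ f.p u, f.ρ f.p (f.ρ f.p u)} : Set (Sp c)).ncard = 3 := by
          rw [Set.ncard_eq_toFinset_card', Finset.card_eq_three]
          refine ⟨_, _, _, Ne.symm hpu, Ne.symm hppu, ?_, by simp⟩
          intro e
          have := congrArg (f.ρ f.p) e
          rw [f.p_apply_three] at this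
          exact hppu this
        rw [h3]
        calc 3 ^ k ≤ 3 ^ 1 := Nat.pow_le_pow_right (by norm_num) (by omega)
          _ = 3 := pow_one 3
    refine hh.not_point hu0 ⟨?_, ?_⟩
    · have hxm : f.ρ x (u : Sp c) ∈ Subtype.val '' MulAction.orbit R u :=
        ⟨_, ⟨⟨x, hx⟩, rfl⟩, rfl⟩
      rw [hsub] at hxm
      rcases hxm with e | e | e
      · exact ⟨0, by rw [e, pow_zero, f.one_apply]⟩
      · exact ⟨1, by rw [e, pow_one]⟩
      · exact ⟨2, by rw [pow_two, f.mul_apply]; exact e⟩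
    · have hym : f.ρ y (u : Sp c) ∈ Subtype.val '' MulAction.orbit R u :=
        ⟨_, ⟨⟨y, hy⟩, rfl⟩, rfl⟩
      rw [hsub] at hym
      rcases hym with e | e | e
      · exact ⟨0, by rw [e, pow_zero, f.one_apply]⟩
      · exact ⟨1, by rw [e, pow_one]⟩
      · exact ⟨2, by rw [pow_two, f.mul_apply]; exact e⟩
  -- an element of order five fixes one point
  haveI : Fact (Nat.Prime 5) := ⟨by norm_num⟩
  obtain ⟨d, hd⟩ := exists_prime_orderOf_dvd_card' (G := h.NC) 5
    (by rw [h.card_NC, h.card_norm_inner]; norm_num)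
  have hd5 : (d : G) ^ 5 = 1 := by
    rw [← SubmonoidClass.coe_pow, ← hd, pow_orderOf_eq_one]; rfl
  let d' : c.C := ⟨d, d.2.1⟩
  have hd5' : d' ^ 5 = 1 := Subtype.ext hd5
  have hne : ∃ u ∈ h.X, f.ρ d' u ≠ u := by
    by_contra hall
    push Not at hall
    have hW1 := h.pr_mem_W (n := d') d.2.2 hall
    have h1 : c.pr (d : G) = 1 := by
      have e5 : c.pr (d : G) ^ 5 = 1 := by
        have := map_pow h.hc.prHom ⟨(d : G), (mem_inf.1 d.2.1).1⟩ 5
        simp only [SubmonoidClass.mk_pow, hd5] at this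
        exact this.symm.trans h.hc.pr_one
      rw [show (5 : ℕ) = 2 * 2 + 1 from rfl, pow_succ, pow_mul, h.hW.elem.2 _ hW1, one_pow, one_mul] at e5
      exact e5
    obtain ⟨q, hq, hq'⟩ := h.ker_mem d.2.1 h1
    have h3 : q ^ 3 = 1 := orderOf_dvd_iff_pow_eq_one.1 (h.hc.cardP ▸ orderOf_dvd_natCard c.P hq)
    have h6 : (d : G) ^ 6 = 1 := by
      rcases hq' with e | e <;> rw [e]
      · rw [show 6 = 3 * 2 from rfl, pow_mul, h3, one_pow]
      · rw [(show Commute c.z q from c.mem_H.1 (h.hc.P_le hq)).mul_pow, show 6 = 3 * 2 from rfl,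
          pow_mul q, h3, one_pow, mul_one, show 3 * 2 = 2 * 3 from rfl, pow_mul, pow_two, h.hc.z_sq,
          one_pow]
    rw [pow_succ, hd5, one_mul] at h6
    rw [orderOf_eq_one_iff.2 (Subtype.ext h6 : d = 1)] at hd
    omega
  have hfix2 := hh.finrank_fix_five (h.mem_normalizer_E5C (n := d') d.2.2) hd5' hne
  have h5 : S.ncard % 5 = 0 ∨ S.ncard % 5 = 3 := by
    letI : MulAction (zpowers d') S :=
      { smul := fun r v => ⟨f.ρ (r : c.C) (v : Sp c), hinv _ (by
          have hmem : (r : c.C) ∈ h.NC.subgroupOf c.C :=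
            (zpowers_le.2 (show d' ∈ h.NC.subgroupOf c.C from d.2)) r.2
          exact hmem.2) v v.2⟩
        one_smul := fun v => Subtype.ext (f.one_apply _)
        mul_smul := fun r s v => Subtype.ext (f.mul_apply _ _ _) }
    have hP : IsPGroup 5 (zpowers d') := by
      intro r
      obtain ⟨r, hr⟩ := r
      obtain ⟨k, rfl⟩ := mem_zpowers_iff.1 hr
      refine ⟨1, Subtype.ext ?_⟩
      show (d' ^ k) ^ (5 ^ 1) = 1
      rw [pow_one, ← zpow_natCast, ← zpow_mul, mul_comm, zpow_mul, zpow_natCast, hd5', one_zpow]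
    have hm := hP.card_modEq_card_fixedPoints S
    rw [Nat.card_coe_set_eq S] at hm
    set U := h.X ⊓ f.fix d' with hU
    have hUc : Nat.card U = 4 := by
      rw [Module.natCard_eq_pow_finrank (K := ZMod 2), Nat.card_zmod]
      rw [show finrank (ZMod 2) ↥U = 2 from hfix2]; rfl
    let F : Set S := MulAction.fixedPoints (zpowers d') S
    have hFU : ∀ v : S, v ∈ F ↔ (v : Sp c) ∈ U := by
      intro v
      constructor
      · intro hv
        exact ⟨(hS v v.2).1, f.mem_fix.2 (congrArg Subtype.val (hv ⟨d', mem_zpowers _⟩))⟩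
      · intro hv r
        refine Subtype.ext ?_
        show f.ρ (r : c.C) (v : Sp c) = v
        obtain ⟨r, hr⟩ := r
        obtain ⟨k, hk⟩ := (isOfFinOrder_of_finite d').mem_powers_iff_mem_zpowers.2 hr
        subst hk
        show f.ρ (d' ^ k) (v : Sp c) = v
        have key : ∀ j : ℕ, f.ρ (d' ^ j) (v : Sp c) = v := fun j => by
          induction j with
          | zero => rw [pow_zero, f.one_apply]
          | succ j ih => rw [pow_succ, f.mul_apply, f.mem_fix.1 hv.2, ih]
        exact key k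
    rcases F.eq_empty_or_nonempty with hF | ⟨v, hv⟩
    · left
      have h0 : Nat.card (MulAction.fixedPoints (zpowers d') S) = 0 := by
        show Nat.card F = 0
        rw [hF, Nat.card_coe_set_eq, Set.ncard_empty]
      rw [h0] at hm
      exact hm
    · right
      have hv' := (hFU v).1 hv
      have hpinv : ∀ u ∈ S, f.ρ f.p u ∈ S := fun u hu => hinv _ (hR _ hp) u hu
      have hpU : ∀ u ∈ U, f.ρ f.p u ∈ U := f.inv_inf (f.inv_p_fixAll _) (f.inv_p_fix _)
      have h3 : Subtype.val '' F = (U : Set (Sp c)) \ {0} := by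
        have hne' : ∀ u : Sp c, u ≠ 0 → f.ρ f.p u ≠ u := fun u hu e => hu (f.fpf _ e)
        refine Set.eq_of_subset_of_ncard_le ?_ ?_ (Set.toFinite _)
        · rintro _ ⟨u, hu, rfl⟩
          exact ⟨(hFU u).1 hu, fun e => (hS u u.2).2 (Set.mem_singleton_iff.1 e)⟩
        · rw [Set.ncard_sdiff_singleton_of_mem (by exact U.zero_mem), ← Nat.card_coe_set_eq,
            show Nat.card ↥(U : Set (Sp c)) = 4 from hUc]
          have hm1 := hpinv _ v.2
          have hm2 := hpinv _ hm1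
          have hsub : ({(v : Sp c), f.ρ f.p v, f.ρ f.p (f.ρ f.p v)} : Set (Sp c)) ⊆ Subtype.val '' F := by
            rintro u (rfl | rfl | rfl)
            · exact ⟨v, hv, rfl⟩
            · exact ⟨⟨_, hm1⟩, (hFU _).2 (hpU _ hv'), rfl⟩
            · exact ⟨⟨_, hm2⟩, (hFU _).2 (hpU _ (hpU _ hv')), rfl⟩
          refine le_trans (le_of_eq ?_) (Set.ncard_le_ncard hsub (Set.toFinite _))
          symm
          rw [Set.ncard_eq_toFinset_card', Finset.card_eq_three]
          refine ⟨_, _, _, (hne' _ (hS v v.2).2).symm, ?_, (hne' _ (hS _ hm1).2).symm, by simp⟩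
          intro e
          apply hne' _ (hS v v.2).2
          conv_rhs => rw [← f.p_apply_three (v : Sp c), ← e]
      have hc3 : Nat.card (MulAction.fixedPoints (zpowers d') S) = 3 := by
        show Nat.card F = 3
        rw [Nat.card_coe_set_eq, ← Set.ncard_image_of_injective F Subtype.val_injective, h3,
          Set.ncard_sdiff_singleton_of_mem (by exact U.zero_mem), ← Nat.card_coe_set_eq,
          show Nat.card ↥(U : Set (Sp c)) = 4 from hUc]
      rw [hc3] at hm
      exact hm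
  have hle : S.ncard ≤ 63 := by
    have h1 : S ⊆ (h.X : Set (Sp c)) \ {0} := fun v hv => ⟨(hS v hv).1, (hS v hv).2⟩
    refine (Set.ncard_le_ncard h1 (Set.toFinite _)).trans (le_of_eq ?_)
    rw [Set.ncard_sdiff_singleton_of_mem (by exact h.X.zero_mem), ← Nat.card_coe_set_eq]
    show Nat.card h.X - 1 = 63
    rw [Module.natCard_eq_pow_finrank (K := ZMod 2), Nat.card_zmod, h.finrank_X]
    rfl
  obtain ⟨k, hk⟩ := h9
  rw [hk] at h5 hle ⊢
  have hk7 : k ≤ 7 := by omega
  interval_cases k <;> simp_all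

/-- An invariant subset of `A₇ - ⟨z⟩` is twice its set of vectors, `0`, `36`, `90` or `126`. -/
theorem ncard_A7_inv (h : Pkg c M W) {Q : Set G} (hQ : h.Inv Q)
    (hA : ∀ x ∈ Q, x ∈ h.A7 ∧ x ≠ 1 ∧ x ≠ c.z) :
    Q.ncard ∈ [0, 36, 90, 126] ∧ Q.ncard = 2 * (vec c '' Q).ncard := by
  classical
  haveI := finite_sp h.hc
  haveI := Fintype.ofFinite G
  haveI := Fintype.ofFinite (Sp c)
  have h1 : (vec c '' Q).ncard ∈ [0, 18, 45, 63] := by
    refine h.ncard_vec_inv _ ?_ ?_
    · rintro _ ⟨a, ha, rfl⟩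
      obtain ⟨haA, ha1, haz⟩ := hA a ha
      refine ⟨?_, fun e => ?_⟩
      · rw [h.A7_eq_pre] at haA; exact haA.2
      · rcases (vec_eq_zero h.hc (mem_inf.1 haA).1).1 e with e' | e'
        exacts [ha1 e', haz e']
    · rintro n hn _ ⟨a, ha, rfl⟩
      have haE := (mem_inf.1 (hA a ha).1).1
      refine ⟨_, hQ.inv _ (h.NC_le_NH ⟨n.2, hn⟩) a ha, ?_⟩
      rw [spForm_ρ h.hc n haE]
  have h2 : Q.ncard = 2 * (vec c '' Q).ncard := by
    rw [Set.ncard_eq_toFinset_card', Set.ncard_eq_toFinset_card', Set.toFinset_image,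
      Finset.card_eq_sum_card_image (vec c) Q.toFinset, mul_comm]
    refine Finset.sum_const_nat fun v hv => ?_
    obtain ⟨a, ha, rfl⟩ := Finset.mem_image.1 hv
    rw [Set.mem_toFinset] at ha
    obtain ⟨haA, ha1, haz⟩ := hA a ha
    have haE := (mem_inf.1 haA).1
    obtain ⟨e, he, hea⟩ := h.exists_flip haE ha1 haz
    have hza : c.z * a ∈ Q := hea ▸ hQ.inv e (h.E_le_NH he) a ha
    rw [show Q.toFinset.filter (fun b => vec c b = vec c a) = {a, c.z * a} from ?_,
      Finset.card_pair fun e' => h.hc.z_ne (mul_eq_right.1 e'.symm)]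
    ext b
    simp only [Finset.mem_filter, Set.mem_toFinset, Finset.mem_insert, Finset.mem_singleton]
    constructor
    · rintro ⟨hb, e'⟩
      exact (vec_eq_iff h.hc (mem_inf.1 (hA b hb).1).1 haE).1 e'
    · rintro (rfl | rfl)
      · exact ⟨ha, rfl⟩
      · exact ⟨hza, (vec_eq_iff h.hc (mul_mem h.hc.z_mem haE) haE).2 (Or.inr rfl)⟩
  refine ⟨?_, h2⟩
  rw [h2]
  simp only [List.mem_cons, List.not_mem_nil, or_false] at h1 ⊢
  omega

end Pkg

end Cfsg.Agent.H98.JFour
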