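import Cfsg.Agent.H38.JFour.Setup
import Cfsg.Agent.H98.JFour.TwoCore
import Cfsg.Agent.H98.JFour.HexTI

/-!
The standing hypotheses at `z`, with both hexad subgroups, fusion and the trivial intersection property.
-/

set_option autoImplicit false

namespace Cfsg.Agent.H98.JFour

open H43.JFour

universe u

open H85.AutM22 in
theorem exists_full_model : ∃ (W W' : Subgroup (MulAut ↥Cfsg.Spor.M22)) (a b u : MulAut ↥Cfsg.Spor.M22),
    HexTI W ∧ HexData (MulAut ↥Cfsg.Spor.M22) (MulAut.conj : ↥Cfsg.Spor.M22 →* MulAut ↥Cfsg.Spor.M22).range W ∧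
    H38.JFour.SplitModel (MulAut ↥Cfsg.Spor.M22) (MulAut.conj : ↥Cfsg.Spor.M22 →* MulAut ↥Cfsg.Spor.M22).range
      W W' a b u :=
  ⟨_, _, _, _, _, hexTI_map autEquiv hexTI_pairGrp, map_innerGrp ▸ hexData_map autEquiv hexData_pairGrp,
    map_innerGrp ▸ H38.JFour.splitModel_map autEquiv H38.JFour.splitModel_pairGrp⟩

/-- The full setup at `z`. -/
theorem exists_full_setup {G : Type u} [Group G] [Finite G] [IsSimpleGroup G] (hG : ¬ IsMulCommutative G)
    {z : G} (hJ : Cfsg.IsOfJankoFourTypeAt z) :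
    ∃ (c : Ctx G (MulAut ↥Cfsg.Spor.M22)) (W W' : Subgroup (MulAut ↥Cfsg.Spor.M22))
      (a b u : MulAut ↥Cfsg.Spor.M22), c.z = z ∧ IsCore c ∧ HexTI W ∧
      Pkg c H38.JFour.innM22 W ∧ Pkg c H38.JFour.innM22 W' ∧
      H38.JFour.SplitModel _ H38.JFour.innM22 W W' a b u ∧ HasFus c H38.JFour.innM22 := by
  obtain ⟨P, hP⟩ := hJ
  obtain ⟨c, hz, -, hE, hc⟩ := exists_ctx hP
  obtain ⟨W, W', a, b, u, hti, hW, hS⟩ := exists_full_model
  have hd := H85.AutM22.autData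
  exact ⟨c, W, W', a, b, u, hz, (by unfold IsCore; rw [hz]; exact hE), hti, Pkg.of_data hc hd hW,
    Pkg.of_data hc hd hS.hex, hS, hc.exists_fus hd hG⟩

end Cfsg.Agent.H98.JFour
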