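import Cfsg.Agent.H38.JFour.SplitInst
import Cfsg.Agent.H98.JFour.BlocksInst
import Cfsg.Agent.H98.JFour.Cores
import Cfsg.Agent.H54.AutTwentyTwo.Model

/-!
The centraliser of an involution of `V` outside the class of `z` is split over `V` by a copy of the
automorphism group of the Mathieu group on 22 points, once it lies in the normaliser of `V`.
-/

set_option autoImplicit false

namespace Cfsg.Agent.H98.JFour

open Subgroup H43.JFour
open scoped Pointwise

universe u v

variable {G : Type u} [Group G] [Finite G] {A : Type v} [Group A]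
variable {c : Ctx G A} {M W W' : Subgroup A} {a b u : A}

theorem Pkg.cent_shape (h : Pkg c M W) (h' : Pkg c M W') (hS : H38.JFour.SplitModel A M W W' a b u)
    (hF : HasFus c M) {t : G} (htV : t ∈ h.V) (ht1 : t ≠ 1) (htz : ¬ IsConj c.z t)
    (hcent : centralizer ({t} : Set G) ≤ normalizer (h.V : Set G)) :
    h.V ≤ centralizer ({t} : Set G) ∧ ∃ K : Subgroup G, K ≤ centralizer ({t} : Set G) ∧ K ⊓ h.V = ⊥ ∧
      K ⊔ h.V = centralizer ({t} : Set G) ∧ Nonempty (↥K ≃* MulAut ↥Cfsg.Spor.M22) := by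
  letI := h.commV
  have hVC : h.V ≤ centralizer ({t} : Set G) := fun x hx =>
    mem_centralizer_singleton_iff.2 (h.V_comm hx htV)
  refine ⟨hVC, ?_⟩
  have htr : t ∈ h.rest := ⟨⟨htV, ht1⟩, fun e => htz (h.zOrb_isConj e)⟩
  obtain ⟨D, hDN, -⟩ := h.blocks hF
  have htD : (⟨t, htV⟩ : h.V) ∈ D.toPairs.N := by
    show (⟨t, htV⟩ : h.V) ∈ D.N
    rw [hDN]; exact htr
  obtain ⟨Ψ, hΨ⟩ := H38.JFour.recognise_pair D.toPairs htD
  obtain ⟨K, hK, hKV, hsup, -⟩ := H38.JFour.exists_mathieu_complement h h' hS hF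
  set N := normalizer (h.V : Set G)
  have hsplit : ∀ x ∈ N, ∃ v ∈ h.V, ∃ k ∈ K, x = v * k := by
    intro x hx
    have hx' : x ∈ (↑(h.V ⊔ K) : Set G) := by rw [hsup]; exact hx
    rw [coe_mul_of_right_le_normalizer_left h.V K hK, Set.mem_mul] at hx'
    obtain ⟨v, hv, k, hk, e⟩ := hx'
    exact ⟨v, hv, k, hk, e.symm⟩
  set K' := K ⊓ centralizer ({t} : Set G) with hK'def
  refine ⟨K', inf_le_right, eq_bot_iff.2 ((inf_le_inf inf_le_left le_rfl).trans hKV.le),
    le_antisymm (sup_le inf_le_right hVC) fun x hx => ?_, ?_⟩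
  · obtain ⟨v, hv, k, hk, rfl⟩ := hsplit x (hcent hx)
    have hkC : k ∈ centralizer ({t} : Set G) := by
      have := mul_mem (inv_mem (hVC hv)) hx
      rwa [inv_mul_cancel_left] at this
    exact mul_mem (mem_sup_right hv) (mem_sup_left (mem_inf.2 ⟨hk, hkC⟩))
  let S : Subgroup (Equiv.Perm Cfsg.GolayPt) := Cfsg.M24 ⊓
    MulAction.stabilizer (Equiv.Perm Cfsg.GolayPt) ({none, some 0} : Set Cfsg.GolayPt)
  have hS' : S = H54.AutTwentyTwo.pairGrp := by
    rw [H54.AutTwentyTwo.pairGrp, ← MulAction.stabilizer_coe_finset]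
    simp [S]
  let f : ↥K →* ↥Cfsg.M24 :=
    (Ψ.toMonoidHom.comp h.conjV.rangeRestrict).comp (Subgroup.inclusion hK)
  have hker : ∀ x : ↥N, h.conjV.rangeRestrict x = 1 ↔ (x : G) ∈ h.V := fun x => by
    rw [← MonoidHom.mem_ker, MonoidHom.ker_rangeRestrict]
    have hk : h.conjV.ker = h.V.subgroupOf N := by
      show h.V.normalizerMonoidHom.ker = _
      rw [normalizerMonoidHom_ker, h.cent_V]
    rw [hk, mem_subgroupOf]
  have hinj : Function.Injective f := by
    rw [injective_iff_map_eq_one]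
    intro k hk
    have h1 : h.conjV.rangeRestrict (inclusion hK k) = 1 := Ψ.map_eq_one_iff.1 hk
    have : (k : G) ∈ K ⊓ h.V := mem_inf.2 ⟨k.2, (hker _).1 h1⟩
    rw [hKV, mem_bot] at this
    exact Subtype.ext this
  have hsurj : Function.Surjective f := by
    intro m
    obtain ⟨x, hx⟩ := h.conjV.rangeRestrict_surjective (Ψ.symm m)
    obtain ⟨v, hv, k, hk, e⟩ := hsplit x x.2
    refine ⟨⟨k, hk⟩, ?_⟩
    have hxe : x = ⟨v, le_normalizer hv⟩ * inclusion hK ⟨k, hk⟩ := Subtype.ext e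
    rw [hxe, map_mul, (hker ⟨v, le_normalizer hv⟩).2 hv, one_mul] at hx
    show Ψ (h.conjV.rangeRestrict (inclusion hK ⟨k, hk⟩)) = m
    rw [hx, MulEquiv.apply_symm_apply]
  have hfix : ∀ k : ↥K, (f k : Equiv.Perm Cfsg.GolayPt) ∈ S ↔ (k : G) ∈ centralizer ({t} : Set G) := by
    intro k
    have h1 := hΨ (h.conjV.rangeRestrict (inclusion hK k))
    constructor
    · intro hk
      have h2 := congrArg Subtype.val (h1.2 (mem_inf.1 hk).2)
      rw [mem_centralizer_singleton_iff]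
      exact mul_inv_eq_iff_eq_mul.1 h2
    · intro hk
      refine mem_inf.2 ⟨(f k).2, h1.1 (Subtype.ext ?_)⟩
      show (k : G) * t * (k : G)⁻¹ = t
      rw [mem_centralizer_singleton_iff.1 hk, mul_inv_cancel_right]
  let g : ↥K' →* ↥S := ((Cfsg.M24.subtype.comp f).comp (Subgroup.inclusion
      (inf_le_left : K' ≤ K))).codRestrict S fun k => (hfix _).2 (mem_inf.1 k.2).2
  have hg : Function.Bijective g := by
    refine ⟨fun x y e => ?_, fun m => ?_⟩
    · have := hinj (Subtype.ext (congrArg (fun z : S => (z : Equiv.Perm Cfsg.GolayPt)) e))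
      exact Subtype.ext (congrArg (fun z : K => (z : G)) this)
    · obtain ⟨k, hk⟩ := hsurj ⟨m, (mem_inf.1 m.2).1⟩
      have hkC : (k : G) ∈ centralizer ({t} : Set G) := (hfix k).1 (by rw [hk]; exact m.2)
      exact ⟨⟨k, mem_inf.2 ⟨k.2, hkC⟩⟩, Subtype.ext (congrArg Subtype.val hk :)⟩
  exact ⟨((MulEquiv.ofBijective g hg).trans (MulEquiv.subgroupCongr hS')).trans
    H54.AutTwentyTwo.autIso⟩

end Cfsg.Agent.H98.JFour
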