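import Cfsg.Agent.H98.JFour.HexTI
import Cfsg.Agent.H98.JFour.InvSet
import Cfsg.Agent.H43.J4.Pieces

/-!
Consequences of the trivial intersection property of the hexad subgroups: small elementary subgroups
of the normaliser, and the orbits of a hexad subgroup on the others.
-/

set_option autoImplicit false
set_option linter.style.haveILetI false

namespace Cfsg.Agent.H98.JFour

open Subgroup H43.JFour
open scoped Pointwise

universe u

variable {A : Type u} [Group A] [Finite A] {M W : Subgroup A}

theorem map_conj_elem {U : Subgroup A} (hU : Cfsg.IsElementaryAbelian 2 U) (g : A) :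
    Cfsg.IsElementaryAbelian 2 (U.map (MulAut.conj g).toMonoidHom) := by
  refine ⟨⟨⟨?_⟩⟩, ?_⟩
  · rintro ⟨_, a, ha, rfl⟩ ⟨_, b, hb, rfl⟩
    apply Subtype.ext
    show MulAut.conj g a * MulAut.conj g b = MulAut.conj g b * MulAut.conj g a
    rw [← map_mul, ← map_mul]
    exact congrArg _ (congrArg Subtype.val (hU.1.is_comm.comm ⟨a, ha⟩ ⟨b, hb⟩))
  · rintro _ ⟨a, ha, rfl⟩
    show (MulAut.conj g a) ^ 2 = 1
    rw [← map_pow, hU.2 a ha, map_one]

theorem elem_le_of {U V : Subgroup A} (hU : Cfsg.IsElementaryAbelian 2 U) (h : V ≤ U) :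
    Cfsg.IsElementaryAbelian 2 V :=
  ⟨⟨⟨fun a b => Subtype.ext (congrArg Subtype.val
    (hU.1.is_comm.comm ⟨a, h a.2⟩ ⟨b, h b.2⟩) :)⟩⟩, fun a ha => hU.2 a (h ha)⟩

/-- An elementary abelian subgroup of the normaliser meeting `W` trivially has order at most four. -/
theorem small_elem (hW : HexData A M W) {D : Subgroup A} (hD : D ≤ M ⊓ normalizer (W : Set A))
    (hDe : Cfsg.IsElementaryAbelian 2 D) (hdisj : D ⊓ W = ⊥) : Nat.card D ≤ 4 := by
  classical
  haveI : Fact (Nat.Prime 2) := ⟨Nat.prime_two⟩
  by_contra hlt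
  push Not at hlt
  obtain ⟨k, hk⟩ := IsPGroup.iff_card.1 (show IsPGroup 2 D from
    fun a => ⟨1, Subtype.ext (by simpa using hDe.2 a a.2)⟩)
  have h8 : 8 ≤ Nat.card D := by
    rw [hk] at hlt ⊢
    rcases k with _ | _ | _ | k
    iterate 3 omega
    calc 8 = 2 ^ 3 := rfl
      _ ≤ 2 ^ (k + 3) := Nat.pow_le_pow_right (by norm_num) (by omega)
  -- a fixed point in `W`
  have hDN : D ≤ normalizer (W : Set A) := hD.trans inf_le_right
  letI : MulAction D W :=
    { smul := fun d x => ⟨(d : A) * x * (d : A)⁻¹, (mem_normalizer_iff.1 (hDN d.2) _).1 x.2⟩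
      one_smul := fun x => Subtype.ext (by
        show ((1 : D) : A) * x * ((1 : D) : A)⁻¹ = x
        simp)
      mul_smul := fun d e x => Subtype.ext (by
        show ((d * e : D) : A) * x * ((d * e : D) : A)⁻¹ = d * (e * x * (e : A)⁻¹) * (d : A)⁻¹
        simp [mul_assoc]) }
  have hp : IsPGroup 2 D := IsPGroup.of_card hk
  have h1 : (⟨1, one_mem _⟩ : W) ∈ MulAction.fixedPoints D W := fun d => Subtype.ext (by
    show (d : A) * 1 * (d : A)⁻¹ = 1
    simp)
  obtain ⟨⟨x, hxW⟩, hxf, hx1⟩ := hp.exists_fixed_point_of_prime_dvd_card_of_fixed_point W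
    (show 2 ∣ Nat.card W by rw [hW.card]; norm_num) h1
  have hx1' : x ≠ 1 := fun e => hx1 (Subtype.ext e.symm)
  have hcomm : ∀ d ∈ D, d * x = x * d := fun d hd => mul_inv_eq_iff_eq_mul.1
    (congrArg Subtype.val (hxf ⟨d, hd⟩) : d * x * d⁻¹ = x)
  have hx2 : x * x = 1 := by rw [← pow_two]; exact hW.elem.2 x hxW
  set C := Subgroup.zpowers x
  have hC2 : Nat.card C = 2 := by
    rw [Nat.card_zpowers]; exact orderOf_eq_prime (by rw [pow_two]; exact hx2) hx1'
  have hCW : C ≤ W := zpowers_le.2 hxW
  have hDC : ∀ d ∈ D, ∀ y ∈ C, d * y = y * d := by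
    intro d hd y hy
    obtain ⟨i, rfl⟩ := mem_zpowers_iff.1 hy
    exact ((show Commute d x from hcomm d hd).zpow_right i).eq
  set B := D ⊔ C with hB
  have hBmem : ∀ b ∈ B, ∃ d ∈ D, ∃ y ∈ C, b = d * y := fun b hb => by
    obtain ⟨d, hd, y, hy, e⟩ := exists_mul_of_mem_sup (fun y hy => mem_normalizer_iff.2 fun d => by
      have e1 : ∀ d ∈ D, y * d * y⁻¹ = d := fun d hd => by rw [← hDC d hd y hy, mul_inv_cancel_right]
      refine ⟨fun hd => by rw [e1 d hd]; exact hd, fun hd => ?_⟩
      have h2 := e1 _ hd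
      rw [show d = y * d * y⁻¹ from mul_left_cancel (mul_right_cancel h2.symm)]
      exact hd) hb
    exact ⟨d, hd, y, hy, e⟩
  have hBe : Cfsg.IsElementaryAbelian 2 B := by
    refine ⟨⟨⟨fun a b => Subtype.ext ?_⟩⟩, fun a ha => ?_⟩
    · obtain ⟨d, hd, y, hy, e⟩ := hBmem a a.2
      obtain ⟨d', hd', y', hy', e'⟩ := hBmem b b.2
      show (a : A) * b = b * a
      rw [e, e']
      calc d * y * (d' * y') = d * (y * d') * y' := by group
        _ = d * d' * (y * y') := by rw [← hDC d' hd' y hy]; group
        _ = d' * d * (y' * y) := by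
            rw [show d * d' = d' * d from congrArg Subtype.val (hDe.1.is_comm.comm ⟨d, hd⟩ ⟨d', hd'⟩),
              show y * y' = y' * y from congrArg Subtype.val
                (hW.elem.1.is_comm.comm ⟨y, hCW hy⟩ ⟨y', hCW hy'⟩)]
        _ = d' * (d * y') * y := by group
        _ = d' * y' * (d * y) := by rw [hDC d hd y' hy']; group
    · obtain ⟨d, hd, y, hy, e⟩ := hBmem a ha
      rw [e, (show Commute d y from hDC d hd y hy).mul_pow, hDe.2 d hd, hW.elem.2 y (hCW hy), one_mul]
  have hBM : B ≤ M ⊓ normalizer (W : Set A) :=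
    sup_le hD (hCW.trans (le_inf hW.le le_normalizer))
  have hcard := card_sup_of_commute D C hDC
  have hDC1 : D ⊓ C = ⊥ := eq_bot_iff.2 ((inf_le_inf le_rfl hCW).trans hdisj.le)
  rw [hDC1, card_bot, mul_one, hC2] at hcard
  have h16 := hW.elem_le B (hBM.trans inf_le_left) hBe
  rw [← hB] at hcard
  have hB16 : Nat.card B = 16 := by omega
  have h4 := hW.meet B hBM hBe hB16
  have hle : B ⊓ W ≤ C := by
    intro b hb
    obtain ⟨hbB, hbW⟩ := mem_inf.1 hb
    obtain ⟨d, hd, y, hy, e⟩ := hBmem b hbB
    have hdW : d ∈ W := by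
      rw [show d = b * y⁻¹ by rw [e]; group]
      exact mul_mem hbW (inv_mem (hCW hy))
    have : d = 1 := by
      have := mem_inf.2 ⟨hd, hdW⟩
      rwa [hdisj, mem_bot] at this
    rw [e, this, one_mul]; exact hy
  have := Subgroup.card_le_of_le hle
  omega

variable (hW : HexData A M W) (hd : AutData A M) (hti : HexTI W)
include hW hd hti

/-- The stabiliser in `W` of another conjugate has order at most four. -/
theorem stab_conj_le {g : A} (hg : g ∉ normalizer (W : Set A)) :
    Nat.card ↥(W ⊓ normalizer ((W.map (MulAut.conj g).toMonoidHom : Subgroup A) : Set A)) ≤ 4 := by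
  haveI := hd.normal
  set W' := W.map (MulAut.conj g).toMonoidHom
  set D0 := W ⊓ normalizer (W' : Set A)
  have h := small_elem hW (D := D0.map (MulAut.conj g⁻¹).toMonoidHom) ?_ ?_ ?_
  · rwa [Subgroup.card_map_of_injective (MulAut.conj g⁻¹).injective] at h
  · rintro _ ⟨d, hd', rfl⟩
    obtain ⟨hdW, hdn⟩ := mem_inf.1 hd'
    refine mem_inf.2 ⟨‹M.Normal›.conj_mem d (hW.le hdW) g⁻¹, mem_normalizer_iff.2 fun x => ?_⟩
    have h1 := mem_normalizer_iff.1 hdn (g * x * g⁻¹)
    simp only [W', Ctx.mem_conj_map] at h1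
    show x ∈ W ↔ g⁻¹ * d * g⁻¹⁻¹ * x * (g⁻¹ * d * g⁻¹⁻¹)⁻¹ ∈ W
    simpa [mul_assoc] using h1
  · exact map_conj_elem (elem_le_of hW.elem inf_le_left) g⁻¹
  · refine eq_bot_iff.2 fun x hx => ?_
    obtain ⟨⟨d, hd', rfl⟩, hxW⟩ := mem_inf.1 hx
    rw [mem_bot]
    by_contra hne
    refine hg ?_
    have hd1 : d ≠ 1 := fun e => hne (by rw [e, map_one])
    have := inv_mem (hti g⁻¹ d (mem_inf.1 hd').1 hd1 hxW)
    rwa [inv_inv] at this

/-- The number of conjugates of `W` under a subgroup containing it is one modulo four. -/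
theorem index_mod_four {S : Subgroup A} (hWS : W ≤ S) :
    ∃ k, k % 4 = 1 ∧ Nat.card S = k * Nat.card ↥(S ⊓ normalizer (W : Set A)) := by
  classical
  haveI : Fact (Nat.Prime 2) := ⟨Nat.prime_two⟩
  set O : Set (Subgroup A) := {U | ∃ s ∈ S, W.map (MulAut.conj s).toMonoidHom = U} with hO
  have hmap : ∀ a b : A, (W.map (MulAut.conj b).toMonoidHom).map (MulAut.conj a).toMonoidHom =
      W.map (MulAut.conj (a * b)).toMonoidHom := by
    intro a b
    rw [Subgroup.map_map]
    congr 1
    ext x
    simp [MulAut.conj_apply, mul_assoc]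
  have hone : W.map (MulAut.conj (1 : A)).toMonoidHom = W := by
    ext x
    simp [Ctx.mem_conj_map]
  have hfixW : ∀ s : A, W.map (MulAut.conj s).toMonoidHom = W ↔ s ∈ normalizer (W : Set A) := by
    intro s
    constructor
    · intro e
      refine mem_normalizer_iff.2 fun x => ?_
      conv_rhs => rw [← e]
      rw [Ctx.mem_conj_map]
      simp [mul_assoc]
    · intro hs
      ext x
      rw [Ctx.mem_conj_map, mem_normalizer_iff.1 hs (s⁻¹ * x * s)]
      simp [mul_assoc]
  letI : MulAction S O :=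
    { smul := fun s U => ⟨(U : Subgroup A).map (MulAut.conj (s : A)).toMonoidHom, by
        obtain ⟨b, hb, e⟩ := U.2
        exact ⟨(s : A) * b, mul_mem s.2 hb, by rw [← e, hmap]⟩⟩
      one_smul := fun U => Subtype.ext (by
        show (U : Subgroup A).map (MulAut.conj ((1 : S) : A)).toMonoidHom = U
        ext x; simp [Ctx.mem_conj_map])
      mul_smul := fun a b U => Subtype.ext (by
        show (U : Subgroup A).map (MulAut.conj ((a * b : S) : A)).toMonoidHom =
          ((U : Subgroup A).map (MulAut.conj (b : A)).toMonoidHom).map (MulAut.conj (a : A)).toMonoidHom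
        ext x; simp [Ctx.mem_conj_map, mul_assoc]) }
  let W0 : O := ⟨W, 1, one_mem _, hone⟩
  have horb : MulAction.orbit S W0 = Set.univ := Set.eq_univ_of_forall fun U => by
    obtain ⟨b, hb, e⟩ := U.2
    exact ⟨⟨b, hb⟩, Subtype.ext e⟩
  have hstab : MulAction.stabilizer S W0 = (normalizer (W : Set A)).subgroupOf S := by
    ext s
    rw [MulAction.mem_stabilizer_iff, mem_subgroupOf, ← hfixW]
    exact ⟨fun e => congrArg Subtype.val e, fun e => Subtype.ext e⟩
  refine ⟨Nat.card O, ?_, ?_⟩
  · -- orbits of `W` on `O`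
    let P := W.subgroupOf S
    have hfix : ∀ U : O, (∀ p ∈ P, p • U = U) → U = W0 := by
      intro U hU
      obtain ⟨b, hb, e⟩ := U.2
      refine Subtype.ext ?_
      show (U : Subgroup A) = W
      rw [← e, hfixW]
      by_contra hbn
      have h4 := stab_conj_le hW hd hti hbn
      have hall : W ≤ W ⊓ normalizer ((W.map (MulAut.conj b).toMonoidHom : Subgroup A) : Set A) := by
        refine le_inf le_rfl fun w hw => ?_
        have h1 : (W.map (MulAut.conj b).toMonoidHom).map (MulAut.conj w).toMonoidHom =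
            W.map (MulAut.conj b).toMonoidHom := by
          rw [e]; exact congrArg Subtype.val (hU ⟨w, hWS hw⟩ hw)
        refine mem_normalizer_iff.2 fun x => ?_
        conv_rhs => rw [← h1]
        simp [Ctx.mem_conj_map, mul_assoc]
      have := Subgroup.card_le_of_le hall
      rw [hW.card] at this
      omega
    -- the other orbits have length divisible by four
    haveI : Fintype O := Fintype.ofFinite _
    haveI : Fintype (MulAction.orbitRel.Quotient P O) := Fintype.ofFinite _
    haveI : Fintype P := Fintype.ofFinite _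
    haveI : ∀ U : O, Fintype (MulAction.stabilizer P U) := fun _ => Fintype.ofFinite _
    have hP16 : Nat.card P = 16 := by
      rw [Nat.card_congr (subgroupOfEquivOfLe hWS).toEquiv, hW.card]
    have hW0fix : ∀ p : P, p • W0 = W0 := fun p => Subtype.ext ((hfixW _).2 (le_normalizer p.2))
    have hsum := MulAction.card_eq_sum_card_group_div_card_stabilizer' P O
      (φ := Quotient.out) (Quotient.out_eq' ·)
    rw [Nat.card_eq_fintype_card, hsum,
      ← Finset.add_sum_erase _ _ (Finset.mem_univ (Quotient.mk'' W0 : MulAction.orbitRel.Quotient P O))]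
    have h0 : (Quotient.mk'' W0 : MulAction.orbitRel.Quotient P O).out = W0 := by
      have h := Quotient.mk_out (s := MulAction.orbitRel P O) W0
      obtain ⟨p, hp⟩ := h
      rw [← hp]; exact hW0fix p
    have hs0 : MulAction.stabilizer P (Quotient.mk'' W0 : MulAction.orbitRel.Quotient P O).out = ⊤ := by
      rw [h0]; exact eq_top_iff.2 fun p _ => hW0fix p
    have h1 : Fintype.card P / Fintype.card (MulAction.stabilizer P
        (Quotient.mk'' W0 : MulAction.orbitRel.Quotient P O).out) = 1 := by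
      rw [← Nat.card_eq_fintype_card, ← Nat.card_eq_fintype_card, hs0, Subgroup.card_top, hP16]
    have h4 : 4 ∣ ∑ q ∈ (Finset.univ : Finset (MulAction.orbitRel.Quotient P O)).erase (Quotient.mk'' W0),
        Fintype.card P / Fintype.card (MulAction.stabilizer P q.out) := by
      refine Finset.dvd_sum fun q hq => ?_
      rw [← Nat.card_eq_fintype_card, ← Nat.card_eq_fintype_card, hP16]
      obtain ⟨b, hb, e⟩ := q.out.2
      have hbn : b ∉ normalizer (W : Set A) := fun hn => (Finset.mem_erase.1 hq).1 (by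
        rw [← Quotient.out_eq' q]
        congr 1
        exact Subtype.ext (e.symm.trans ((hfixW b).2 hn)))
      have hle : Nat.card (MulAction.stabilizer P q.out) ≤ 4 := by
        refine le_trans ?_ (stab_conj_le hW hd hti hbn)
        refine Nat.card_le_card_of_injective (fun p => ⟨((p : P) : S), mem_inf.2 ⟨(p : P).2, ?_⟩⟩)
          fun a b e1 => ?_
        · have h1 : ((q.out : Subgroup A)).map (MulAut.conj (((p : P) : S) : A)).toMonoidHom =
              (q.out : Subgroup A) := congrArg Subtype.val p.2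
          rw [← e] at h1
          refine mem_normalizer_iff.2 fun x => ?_
          conv_rhs => rw [← h1]
          simp [Ctx.mem_conj_map, mul_assoc]
        · exact Subtype.ext (Subtype.ext (Subtype.ext (congrArg Subtype.val e1 :)))
      have hdvd : Nat.card (MulAction.stabilizer P q.out) ∣ 16 :=
        hP16 ▸ Subgroup.card_subgroup_dvd_card _
      have hpos : 0 < Nat.card (MulAction.stabilizer P q.out) := Nat.card_pos
      interval_cases hn : Nat.card (MulAction.stabilizer P q.out) <;> revert hdvd <;> decide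
    rw [h1]
    obtain ⟨m, hm⟩ := h4
    erw [hm]
    omega
  · have h := Subgroup.card_mul_index (MulAction.stabilizer S W0)
    rw [MulAction.index_stabilizer, horb, Set.ncard_univ, hstab] at h
    rw [← inf_subgroupOf_left, Nat.card_congr (subgroupOfEquivOfLe inf_le_left).toEquiv] at h
    rw [← h, mul_comm]

end Cfsg.Agent.H98.JFour
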