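import Cfsg.Agent.H98.JFour.Orbits
import Cfsg.Agent.H98.JFour.Cores
import Cfsg.Agent.H98.JFour.HexFix
import Cfsg.Agent.H43.J4.Forms

/-!
The centraliser in `H` of an involution of `V` outside the class of `z` normalises `V`.
-/

set_option autoImplicit false
set_option linter.style.haveILetI false

namespace Cfsg.Agent.H98.JFour

open Subgroup H43.JFour
open scoped Pointwise

universe u v

variable {G : Type u} [Group G] [Finite G] {A : Type v} [Group A]
variable {c : Ctx G A} {M W : Subgroup A}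

theorem eqz_of_eq_conj (hc : c.Ok) {e x y : G} (he : e ∈ c.E) (hy : y ∈ c.E) (h : e * y * e⁻¹ = x) :
    y = x ∨ y = c.z * x := by
  rcases hc.swap he hy with e1 | e1
  · rw [e1, mul_inv_cancel_right] at h; exact Or.inl h
  · rw [e1, mul_assoc c.z, mul_inv_cancel_right] at h
    exact Or.inr (by rw [← h, ← mul_assoc, hc.z_sq, one_mul])

/-- An element of `E P` centralising a non-central element of `E` lies in `E`. -/
theorem mem_E_of_fix (hc : c.Ok) {g t : G} (hg : g ∈ c.E ⊔ c.P) (ht : t ∈ c.E)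
    (htz : t ∉ zpowers c.z) (hgt : g * t = t * g) : g ∈ c.E := by
  obtain ⟨e, he, p, hp, rfl⟩ := exists_mul_of_mem_sup hc.P_norm hg
  rcases eq_or_ne p 1 with rfl | hp1
  · rwa [mul_one]
  exfalso
  have hy := hc.conjE (hc.P_le hp) ht
  have h1 : e * (p * t * p⁻¹) * e⁻¹ = t := by
    calc e * (p * t * p⁻¹) * e⁻¹ = e * p * t * (e * p)⁻¹ := by group
      _ = t := by rw [hgt, mul_inv_cancel_right]
  exact htz (hc.fpf hp hp1 ht (eqz_of_eq_conj hc he hy h1))

namespace Pkg

theorem not_mem_zp (h : Pkg c M W) {t : G} (ht : t ∈ h.rest) : t ∉ zpowers c.z := by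
  intro e
  rcases h.hc.mem_zp.1 e with e | e
  · exact ht.1.2 e
  · exact ht.2 (e ▸ self_mem_conjSet _ _)

/-- The order of the centraliser of one of the thirty-six in `NH`. -/
theorem card_cent_NH (h : Pkg c M W) (hF : HasFus c M) {t : G} (ht : t ∈ h.fib h.rest 1) :
    Nat.card ↥(h.NH ⊓ centralizer ({t} : Set G)) = 7864320 := by
  obtain ⟨h36, htrans⟩ := h.rest_A7 hF
  have h1 := conjSet_card h.NH t
  rw [← htrans ht, h36, h.card_NH] at h1
  omega

/-- The image of that centraliser has order `1920`. -/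
theorem card_img_NH (h : Pkg c M W) (hF : HasFus c M) {t : G} (ht : t ∈ h.fib h.rest 1) :
    Nat.card ↥(h.hc.img (c.H ⊓ centralizer ({t} : Set G)) ⊓ normalizer (W : Set A)) = 1920 := by
  have htA : t ∈ h.A7 := h.mem_A7_of_pr (h.rest_inv.sub ht.1) ht.2
  have htE : t ∈ c.E := (mem_inf.1 htA).1
  set D0 := h.NH ⊓ centralizer ({t} : Set G) with hD0
  let f : D0 →* A :=
    { toFun := fun g => c.pr g
      map_one' := h.hc.pr_one
      map_mul' := fun a b => h.hc.pr_mul _ (mem_inf.1 a.2).1.1 _ (mem_inf.1 b.2).1.1 }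
  have hr : f.range = h.hc.img (c.H ⊓ centralizer ({t} : Set G)) ⊓ normalizer (W : Set A) := by
    ext α
    rw [mem_inf, h.hc.mem_img inf_le_left]
    constructor
    · rintro ⟨g, rfl⟩
      exact ⟨⟨g, mem_inf.2 ⟨(mem_inf.1 g.2).1.1, (mem_inf.1 g.2).2⟩, rfl⟩, (mem_inf.1 g.2).1.2⟩
    · rintro ⟨⟨g, hg, rfl⟩, hn⟩
      exact ⟨⟨g, mem_inf.2 ⟨⟨(mem_inf.1 hg).1, hn⟩, (mem_inf.1 hg).2⟩⟩, rfl⟩
  have hk : f.ker = (c.E ⊓ centralizer ({t} : Set G)).subgroupOf D0 := by
    ext g
    rw [MonoidHom.mem_ker, mem_subgroupOf, mem_inf]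
    refine ⟨fun e => ⟨?_, (mem_inf.1 g.2).2⟩, fun e => h.hc.pr_E e.1⟩
    exact mem_E_of_fix h.hc ((h.hc.pr_ker _ (mem_inf.1 g.2).1.1).1 e) htE (h.not_mem_zp ht.1)
      (mem_centralizer_iff.1 (mem_inf.1 g.2).2 t rfl).symm
  have h1 := Subgroup.card_eq_card_quotient_mul_card_subgroup f.ker
  rw [Nat.card_congr (QuotientGroup.quotientKerEquivRange f).toEquiv, hr, hk,
    Nat.card_congr (subgroupOfEquivOfLe
      (show c.E ⊓ centralizer ({t} : Set G) ≤ D0 from inf_le_inf h.E_le_NH le_rfl)).toEquiv,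
    card_cent_elem h.hc htE ht.1.1.2 (fun e => h.not_mem_zp ht.1 (e ▸ mem_zpowers _)),
    h.card_cent_NH hF ht] at h1
  omega

/-- A subgroup of order nine does not centralise one of the thirty-six. -/
theorem not_nine (h : Pkg c M W) {t : G} (htE : t ∈ c.E) (htz : t ∉ zpowers c.z) :
    ¬ 9 ∣ Nat.card ↥(c.H ⊓ centralizer ({t} : Set G)) := by
  intro h9
  haveI : Fact (Nat.Prime 3) := ⟨Nat.prime_three⟩
  set D := c.H ⊓ centralizer ({t} : Set G)
  obtain ⟨Q, hQ⟩ := Sylow.exists_subgroup_card_pow_prime 3 (n := 2) (G := D) (by norm_num; exact h9)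
  set Q' := Q.map D.subtype with hQ'
  have hQc : Nat.card Q' = 9 := by
    rw [hQ', Subgroup.card_map_of_injective D.subtype_injective, hQ]; norm_num
  have hQD : Q' ≤ D := map_subtype_le _
  have hQH : Q' ≤ c.H := hQD.trans inf_le_left
  let S3 : Sylow 3 c.C := default
  have hR := h.hc.rThree_of_sylow h.hd S3
  set R := (S3 : Subgroup c.C).map c.C.subtype
  have hRH : R ≤ c.H := hR.1.trans inf_le_left
  let T : Sylow 3 c.H := Sylow.ofCard (R.subgroupOf c.H) (by
    rw [Nat.card_congr (subgroupOfEquivOfLe hRH).toEquiv, hR.2, h.hc.card_H, h.hd.card,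
      show 3 * 2 ^ 13 * 887040 = 3 ^ 3 * 807403520 by norm_num,
      Nat.factorization_mul (by norm_num) (by norm_num), Nat.factorization_pow]
    simp [Nat.prime_three.factorization, Nat.factorization_eq_zero_of_not_dvd])
  obtain ⟨S, hS⟩ := ((IsPGroup.of_card (n := 2) (by rw [hQc]; rfl) : IsPGroup 3 Q').of_equiv
    (subgroupOfEquivOfLe hQH).symm).exists_le_sylow
  obtain ⟨k, hk⟩ := MulAction.exists_smul_eq c.H S T
  set Q2 := Q'.map (MulAut.conj (k : G)).toMonoidHom with hQ2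
  have hQ2R : Q2 ≤ R := by
    rintro _ ⟨x, hx, rfl⟩
    have h1 : (⟨x, hQH hx⟩ : c.H) ∈ (S : Subgroup c.H) := hS hx
    have h2 : MulAut.conj k ⟨x, hQH hx⟩ ∈ ((k • S : Sylow 3 c.H) : Subgroup c.H) := by
      rw [Sylow.coe_subgroup_smul]
      exact Subgroup.smul_mem_pointwise_smul _ (MulAut.conj k) _ h1
    rw [hk] at h2
    exact h2
  have hQ2c : Nat.card Q2 = 9 := by
    rw [hQ2, Subgroup.card_map_of_injective (MulAut.conj (k : G)).injective, hQc]
  have hP : c.P ≤ Q2 := by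
    by_contra hPQ
    have hdisj : c.P ⊓ Q2 = ⊥ := by
      rcases (Nat.dvd_prime Nat.prime_three).1
        (h.hc.cardP ▸ Subgroup.card_dvd_of_le (inf_le_left : c.P ⊓ Q2 ≤ c.P)) with e | e
      · exact Subgroup.eq_bot_of_card_eq _ e
      · exact absurd ((Subgroup.eq_of_le_of_card_ge inf_le_left (by rw [e, h.hc.cardP])).ge.trans
          inf_le_right) hPQ
    have hcomm : ∀ a ∈ c.P, ∀ b ∈ Q2, a * b = b * a := fun a ha b hb =>
      h.hc.P_central ha (hR.1 (hQ2R hb))
    have hQab : ∀ a ∈ Q2, ∀ b ∈ Q2, a * b = b * a := fun a ha b hb => congrArg Subtype.val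
      ((IsPGroup.commGroupOfCardEqPrimeSq (p := 3) (by rw [hQ2c]; rfl : Nat.card Q2 = 3 ^ 2)).mul_comm
        ⟨a, ha⟩ ⟨b, hb⟩)
    have hcard := card_sup_of_commute c.P Q2 hcomm
    rw [hdisj, card_bot, mul_one, h.hc.cardP, hQ2c] at hcard
    have hPR := h.hc.P_le_R h.hd hR
    have heq : c.P ⊔ Q2 = R := Subgroup.eq_of_le_of_card_ge (sup_le hPR hQ2R) (by rw [hcard, hR.2])
    obtain ⟨a, ha, b, hb, hne⟩ := h.hc.rThree_nonabelian h.hd hR
    rw [← heq] at ha hb
    obtain ⟨p, hp, q, hq, rfl⟩ := exists_mul_of_mem_sup (fun q hq => mem_normalizer_iff.2 fun x => by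
      have e1 : ∀ x ∈ c.P, q * x * q⁻¹ = x := fun x hx => by
        rw [← hcomm x hx q hq, mul_inv_cancel_right]
      refine ⟨fun hx => by rw [e1 x hx]; exact hx, fun hx => ?_⟩
      rw [show x = q * x * q⁻¹ from mul_left_cancel (mul_right_cancel (e1 _ hx).symm)]
      exact hx) ha
    obtain ⟨p', hp', q', hq', rfl⟩ := exists_mul_of_mem_sup (fun q hq => mem_normalizer_iff.2 fun x => by
      have e1 : ∀ x ∈ c.P, q * x * q⁻¹ = x := fun x hx => by
        rw [← hcomm x hx q hq, mul_inv_cancel_right]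
      refine ⟨fun hx => by rw [e1 x hx]; exact hx, fun hx => ?_⟩
      rw [show x = q * x * q⁻¹ from mul_left_cancel (mul_right_cancel (e1 _ hx).symm)]
      exact hx) hb
    refine hne ?_
    calc p * q * (p' * q') = p * (q * p') * q' := by group
      _ = p * p' * (q * q') := by rw [← hcomm p' hp' q hq]; group
      _ = p' * p * (q' * q) := by rw [h.hc.P_central hp (h.hc.P_le_C hp'), hQab q hq q' hq']
      _ = p' * (p * q') * q := by group
      _ = p' * q' * (p * q) := by rw [hcomm p hp q' hq']; group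
  obtain ⟨p, hp, hp1⟩ : ∃ p ∈ c.P, p ≠ 1 :=
    (Subgroup.bot_or_exists_ne_one c.P).resolve_left fun e => by
      have := h.hc.cardP; rw [e, card_bot] at this; omega
  obtain ⟨x, hx, e⟩ := hP hp
  have hxe : (k : G) * x * (k : G)⁻¹ = p := e
  have hkn : (c.E ⊔ c.P).subgroupOf c.H = h.hc.prHom.ker := by
    ext g
    rw [MonoidHom.mem_ker, mem_subgroupOf, ← h.hc.pr_ker _ g.2]
    exact Iff.rfl
  have hxN : x ∈ c.E ⊔ c.P := by
    have hp' : (⟨p, h.hc.P_le hp⟩ : c.H) ∈ (c.E ⊔ c.P).subgroupOf c.H := mem_sup_right hp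
    rw [hkn] at hp'
    have h1 := (inferInstance : h.hc.prHom.ker.Normal).conj_mem _ hp' k⁻¹
    rw [← hkn, mem_subgroupOf] at h1
    have e2 : ((k⁻¹ * ⟨p, h.hc.P_le hp⟩ * k⁻¹⁻¹ : c.H) : G) = x := by
      push_cast
      rw [← hxe]; group
    rwa [e2] at h1
  have hxD := mem_inf.1 (hQD hx)
  have hxE := mem_E_of_fix h.hc hxN htE htz (mem_centralizer_iff.1 hxD.2 t rfl).symm
  have hpE : p ∈ c.E := hxe ▸ h.hc.conjE k.2 hxE
  have : p ∈ zpowers c.z := by rw [← h.hc.E_inf_C]; exact mem_inf.2 ⟨hpE, h.hc.P_le_C hp⟩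
  have hop : orderOf p ∣ 3 := h.hc.cardP ▸ Subgroup.orderOf_dvd_natCard c.P hp
  rcases h.hc.mem_zp.1 this with e1 | e1
  · exact hp1 e1
  · rw [e1, h.hc.ord] at hop; norm_num at hop

theorem not_index_six (h : Pkg c M W) {S : Subgroup A} (hS : Nat.card S = 77 * 1920)
    (hN : Nat.card ↥(S ⊓ normalizer (W : Set A)) = 1920) : False := by
  haveI := h.finiteA
  have hidx : S.index = 6 := by
    have := S.card_mul_index
    rw [hS, h.hd.card] at this
    omega
  set K := S.normalCore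
  have hKi : K.index ≤ 720 := by
    have e : K = (MulAction.toPermHom A (A ⧸ S)).ker := Subgroup.normalCore_eq_ker S
    have h1 : K.index = Nat.card (MulAction.toPermHom A (A ⧸ S)).range := by
      rw [e]; exact Subgroup.index_ker _
    have hP : Nat.card (Equiv.Perm (A ⧸ S)) = 720 := by
      rw [Nat.card_perm, ← Subgroup.index_eq_card, hidx]; rfl
    rw [h1, ← hP]
    exact Nat.card_le_card_of_injective _ (Subtype.val_injective)
  haveI := h.hd.simple
  haveI := h.hd.normal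
  rcases (inferInstance : (K.subgroupOf M).Normal).eq_bot_or_eq_top with e | e
  · have hKM : K ⊓ M = ⊥ := by
      refine eq_bot_iff.2 fun x hx => ?_
      obtain ⟨hxK, hxM⟩ := mem_inf.1 hx
      have h1 : (⟨x, hxM⟩ : M) ∈ K.subgroupOf M := hxK
      rw [e, mem_bot] at h1
      exact congrArg Subtype.val h1
    have h1 : M.relIndex K ∣ M.index := relIndex_dvd_index_of_normal M K
    rw [← inf_relIndex_left, hKM, relIndex_bot_left, h.hd.index] at h1
    have h2 := K.card_mul_index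
    rw [h.hd.card] at h2
    have h3 : Nat.card K ≤ 2 := Nat.le_of_dvd (by norm_num) h1
    nlinarith
  · have hMS : M ≤ S := (subgroupOf_eq_top.1 e).trans S.normalCore_le
    have := Subgroup.card_le_of_le (show M ⊓ normalizer (W : Set A) ≤ S ⊓ normalizer (W : Set A) from
      inf_le_inf hMS le_rfl)
    rw [h.card_norm_inner, hN] at this
    omega

/-- The centraliser in `H` of an element of the rest lies in `NH`. -/
theorem cent_rest_le (h : Pkg c M W) (hF : HasFus c M) (hti : HexTI W) {t : G} (ht : t ∈ h.rest) :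
    c.H ⊓ centralizer ({t} : Set G) ≤ h.NH := by
  haveI := h.finiteA
  intro g hg
  obtain ⟨hgH, hgt⟩ := mem_inf.1 hg
  have hcomm : g * t = t * g := (mem_centralizer_iff.1 hgt t rfl).symm
  refine ⟨hgH, ?_⟩
  have htV := h.rest_inv.sub ht
  by_cases h1 : c.pr t = 1
  swap
  · refine hti _ _ (h.pr_V_mem htV) h1 ?_
    rw [← h.hc.pr_conj hgH (h.V_le_H htV), hcomm, mul_inv_cancel_right]
    exact h.pr_V_mem htV
  have ht' : t ∈ h.fib h.rest 1 := ⟨ht, h1⟩
  have htA : t ∈ h.A7 := h.mem_A7_of_pr htV h1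
  have htE : t ∈ c.E := (mem_inf.1 htA).1
  set S := h.hc.img (c.H ⊓ centralizer ({t} : Set G)) with hS
  have hWS : W ≤ S := by
    intro α hα
    obtain ⟨w, hw, rfl⟩ := h.E5_surj hα
    refine (h.hc.mem_img inf_le_left).2 ⟨w, mem_inf.2 ⟨(mem_inf.1 hw.1).1,
      mem_centralizer_iff.2 fun x hx => ?_⟩, rfl⟩
    rw [Set.mem_singleton_iff.1 hx, h.E5_A7 hw htA]
  obtain ⟨k, hk4, hk⟩ := index_mod_four h.hW h.hd hti hWS
  have h1920 := h.card_img_NH hF ht'
  rw [h1920] at hk
  have hk3 : ¬ 3 ∣ k := by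
    intro h3
    refine h.not_nine htE (h.not_mem_zp ht) ?_
    let f : ↥(c.H ⊓ centralizer ({t} : Set G)) →* A :=
      h.hc.prHom.comp (Subgroup.inclusion inf_le_left)
    have hd' : Nat.card f.range ∣ Nat.card ↥(c.H ⊓ centralizer ({t} : Set G)) := card_range_dvd f
    have hr : f.range = S := by
      ext α
      rw [hS, h.hc.mem_img inf_le_left]
      exact ⟨fun ⟨x, e⟩ => ⟨x, x.2, e⟩, fun ⟨x, hx, e⟩ => ⟨⟨x, hx⟩, e⟩⟩
    rw [hr, hk] at hd'
    exact dvd_trans (by obtain ⟨j, rfl⟩ := h3; exact ⟨640 * j, by ring⟩) hd'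
  have hd : k ∣ 462 := by
    have := Subgroup.card_subgroup_dvd_card S
    rw [hk, h.hd.card, show 887040 = 462 * 1920 by norm_num] at this
    exact Nat.dvd_of_mul_dvd_mul_right (by norm_num) this
  have hcase : k = 1 ∨ k = 77 := by
    have hle : k ≤ 462 := Nat.le_of_dvd (by norm_num) hd
    have hmem : k ∈ Nat.divisors 462 := Nat.mem_divisors.2 ⟨hd, by norm_num⟩
    have hall : ∀ j ∈ Nat.divisors 462, j % 4 = 1 → j % 3 ≠ 0 → j = 1 ∨ j = 77 := by decide +kernel
    exact hall k hmem hk4 fun e => hk3 (Nat.dvd_of_mod_eq_zero e)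
  have hg' : c.pr g ∈ S := (h.hc.mem_img inf_le_left).2 ⟨g, hg, rfl⟩
  rcases hcase with rfl | rfl
  · rw [one_mul] at hk
    rw [← Subgroup.eq_of_le_of_card_ge (inf_le_left : S ⊓ normalizer (W : Set A) ≤ S)
      (by rw [h1920, hk])] at hg'
    exact (mem_inf.1 hg').2
  · exact (h.not_index_six hk h1920).elim

end Pkg

end Cfsg.Agent.H98.JFour
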