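import Cfsg.Agent.H98.JFour.InvSet

/-!
The orbits of `E P` on a coset `A₇ w`: two of length `16` over the commutator space of `w`, and `96` further
elements fused into one.
-/

set_option autoImplicit false
set_option linter.style.haveILetI false

namespace Cfsg.Agent.H98.JFour

open Module H43.JFour Subgroup

universe u v

variable {G : Type u} [Group G] [Finite G] {A : Type v} [Group A]
variable {c : Ctx G A} {M W : Subgroup A}

namespace Pkg

/-- The element of `C` given by an element of `E₅`. -/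
def lft (h : Pkg c M W) {w : G} (hw : w ∈ h.E5) : c.C := ⟨w, hw.1⟩

/-- The preimage in `A₇` of the commutator space of `w`. -/
noncomputable def Aw (h : Pkg c M W) {w : G} (hw : w ∈ h.E5) : Subgroup G :=
  pre c ((spForm h.hc).mov (h.lft hw))

theorem mov_le_X (h : Pkg c M W) {w : G} (hw : w ∈ h.E5) :
    (spForm h.hc).mov (h.lft hw) ≤ h.X := by
  obtain ⟨x, y, -, -, hh⟩ := h.exists_half
  haveI := finite_sp h.hc
  exact hh.mov_le (w := h.lft hw) hw

theorem Aw_le (h : Pkg c M W) {w : G} (hw : w ∈ h.E5) : h.Aw hw ≤ h.A7 := by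
  intro a ha
  rw [h.A7_eq_pre]
  exact ⟨ha.1, h.mov_le_X hw ha.2⟩

theorem orderOf_pr (h : Pkg c M W) {w : G} (hw : w ∈ h.E5) (h1 : c.pr w ≠ 1) :
    orderOf (c.pr w) = 2 := by
  haveI : Fact (Nat.Prime 2) := ⟨Nat.prime_two⟩
  exact orderOf_eq_prime (by rw [pow_two]; exact h.sq_W hw.2.1) h1

theorem finrank_fix_E5 (h : Pkg c M W) {w : G} (hw : w ∈ h.E5) (h1 : c.pr w ≠ 1) :
    finrank (ZMod 2) ((spForm h.hc).fix (h.lft hw)) = 8 :=
  h.rank8 _ (Or.inl (h.E5_sq hw)) (h.orderOf_pr hw h1)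

theorem finrank_mov_E5 (h : Pkg c M W) {w : G} (hw : w ∈ h.E5) (h1 : c.pr w ≠ 1) :
    finrank (ZMod 2) ((spForm h.hc).mov (h.lft hw)) = 4 := by
  haveI := finite_sp h.hc
  have h2 := (spForm h.hc).finrank_mov (h.lft hw)
  rw [h.finrank_fix_E5 hw h1, finrank_sp h.hc] at h2
  omega

theorem card_Aw (h : Pkg c M W) {w : G} (hw : w ∈ h.E5) (h1 : c.pr w ≠ 1) :
    Nat.card (h.Aw hw) = 32 := by
  rw [Aw, card_pre h.hc, h.finrank_mov_E5 hw h1]; rfl

/-- The centraliser of `w` in `E` is the whole preimage of its fixed space. -/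
theorem fix_commute (h : Pkg c M W) {w e : G} (hw : w ∈ h.E5) (he : e ∈ c.E)
    (hf : vec c e ∈ (spForm h.hc).fix (h.lft hw)) : w * e = e * w := by
  haveI := finite_sp h.hc
  set f := spForm h.hc with hfdef
  set U := f.fix (h.lft hw) with hU
  let φ : U → U := fun v => ⟨f.ρ f.p v + v, U.add_mem (f.inv_p_fix _ _ v.2) v.2⟩
  have hinj : Function.Injective φ := by
    intro a b e
    have e' : f.ρ f.p a + a = f.ρ f.p b + b := congrArg Subtype.val e
    refine Subtype.ext ?_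
    have h0 : f.ρ f.p ((a : Sp c) + b) = (a : Sp c) + b := by
      rw [map_add]
      calc _ = (f.ρ f.p a + a) + (f.ρ f.p b + b) + (a + b) := by
              rw [show ∀ r s t u : Sp c, r + t + (s + u) + (t + u) = r + s + (t + t) + (u + u) from
                fun _ _ _ _ => by abel, add_self_sp, add_self_sp, add_zero, add_zero]
        _ = a + b := by rw [e', add_self_sp, zero_add]
    have := f.fpf _ h0
    rw [← add_zero (a : Sp c), ← add_self_sp c (b : Sp c), ← add_assoc, this, zero_add]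
  obtain ⟨⟨v, hv⟩, hv'⟩ := (Finite.injective_iff_surjective.1 hinj) ⟨vec c e, hf⟩
  have e2 : f.ρ f.p v + v = vec c e := congrArg Subtype.val hv'
  obtain ⟨b, hb, rfl⟩ := vec_surj c v
  obtain ⟨hpP, -⟩ := spForm_p_mem h.hc
  set p : G := (f.p : G)
  have hpb := h.hc.conjE (h.hc.P_le hpP) hb
  rw [hfdef, spForm_ρ h.hc _ hb, ← vec_mul c hpb hb] at e2
  have hwH := (mem_inf.1 hw.1).1
  have hpw : p * w = w * p := h.hc.P_central hpP hw.1
  have hpz : c.z * p = p * c.z := c.mem_H.1 (h.hc.P_le hpP)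
  have key : w * (p * b * p⁻¹ * b) * w⁻¹ = p * b * p⁻¹ * b := by
    have h1 : w * (p * b * p⁻¹) * w⁻¹ = p * (w * b * w⁻¹) * p⁻¹ := by
      calc w * (p * b * p⁻¹) * w⁻¹ = (w * p) * b * (w * p)⁻¹ := by group
        _ = (p * w) * b * (p * w)⁻¹ := by rw [hpw]
        _ = _ := by group
    rw [show w * (p * b * p⁻¹ * b) * w⁻¹ = w * (p * b * p⁻¹) * w⁻¹ * (w * b * w⁻¹) by group, h1]
    have hwb : vec c (w * b * w⁻¹) = vec c b := by
      exact (spForm_ρ h.hc (h.lft hw) hb).symm.trans (f.mem_fix.1 hv)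
    rcases (vec_eq_iff h.hc (h.hc.conjE hwH hb) hb).1 hwb with e1 | e1 <;> rw [e1]
    calc p * (c.z * b) * p⁻¹ * (c.z * b) = c.z * (p * b * p⁻¹) * (c.z * b) := by
          rw [← mul_assoc p, ← hpz]; group
      _ = c.z * ((p * b * p⁻¹) * c.z) * b := by group
      _ = p * b * p⁻¹ * b := by rw [← h.hc.z_comm hpb, ← mul_assoc, h.hc.z_sq, one_mul]
  have hab : w * (p * b * p⁻¹ * b) = p * b * p⁻¹ * b * w := by
    calc w * (p * b * p⁻¹ * b) = w * (p * b * p⁻¹ * b) * w⁻¹ * w := by group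
      _ = _ := by rw [key]
  rcases (vec_eq_iff h.hc he (mul_mem hpb hb)).1 e2.symm with rfl | rfl
  · exact hab
  · rw [← mul_assoc w, ← c.mem_H.1 hwH, mul_assoc, hab, ← mul_assoc c.z]

/-- Over an element of the commutator space the centraliser of `a w` in `E` is that of `w`. -/
theorem cent_aw (h : Pkg c M W) {w a : G} (hw : w ∈ h.E5) (ha : a ∈ h.Aw hw) :
    c.E ⊓ centralizer ({a * w} : Set G) = pre c ((spForm h.hc).fix (h.lft hw)) := by
  haveI := finite_sp h.hc
  have hwH := (mem_inf.1 hw.1).1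
  have haE : a ∈ c.E := ha.1
  ext e
  rw [mem_inf, mem_centralizer_iff, mem_pre]
  refine and_congr_right fun he => ⟨fun hc' => ?_, fun hf y hy => ?_⟩
  · have h1 : a * w * e = e * (a * w) := hc' _ rfl
    rw [(spForm h.hc).mem_fix, spForm_ρ h.hc _ he]
    refine (vec_eq_iff h.hc (h.hc.conjE hwH he) he).2 ?_
    have h2 : w * e * w⁻¹ = a⁻¹ * e * a := by
      calc w * e * w⁻¹ = a⁻¹ * (a * w * e) * w⁻¹ := by group
        _ = a⁻¹ * e * a := by rw [h1]; group
    show w * e * w⁻¹ = e ∨ w * e * w⁻¹ = c.z * e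
    rw [h2]
    rcases h.hc.swap he haE with e1 | e1
    · left; rw [mul_assoc, e1, inv_mul_cancel_left]
    · right
      rw [mul_assoc, e1, ← mul_assoc, ← (h.hc.z_comm (inv_mem haE)), mul_assoc, inv_mul_cancel_left]
  · rw [Set.mem_singleton_iff.1 hy]
    have h1 := h.fix_commute hw he hf
    have h2 : a * e = e * a := by
      have hm : a ∈ c.E ⊓ centralizer (pre c ((spForm h.hc).fix (h.lft hw)) : Set G) := by
        rw [← pre_orthogonal h.hc, ← Form.mov_eq_orthogonal]; exact ha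
      exact (mem_centralizer_iff.1 (mem_inf.1 hm).2 e ⟨he, hf⟩).symm
    rw [mul_assoc, h1, ← mul_assoc, h2, mul_assoc]

theorem conjSet_Aw_card (h : Pkg c M W) {w a : G} (hw : w ∈ h.E5) (h1 : c.pr w ≠ 1)
    (ha : a ∈ h.Aw hw) : (conjSet c.E (a * w)).ncard = 16 := by
  have h2 := conjSet_card c.E (a * w)
  rw [h.cent_aw hw ha, card_pre h.hc, h.finrank_fix_E5 hw h1, h.hc.cardE] at h2
  omega

/-- Conjugation by `E` translates by commutators with `w`. -/
theorem conj_aw (h : Pkg c M W) {w a e : G} (hw : w ∈ h.E5) (ha : a ∈ h.A7) (he : e ∈ c.E) :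
    ∃ b ∈ c.E, e * (a * w) * e⁻¹ = b * w ∧
      vec c b = vec c a + ((spForm h.hc).ρ (h.lft hw) (vec c e) + vec c e) := by
  have hwH := (mem_inf.1 hw.1).1
  have haE := (mem_inf.1 ha).1
  have hm : w * e⁻¹ * w⁻¹ ∈ c.E := h.hc.conjE hwH (inv_mem he)
  have hea := h.hc.conjE (h.hc.le_H he) haE
  refine ⟨e * a * e⁻¹ * (e * (w * e⁻¹ * w⁻¹)), mul_mem hea (mul_mem he hm), by group, ?_⟩
  have hv : vec c e⁻¹ = vec c e :=
    (vec_eq_iff h.hc (inv_mem he) he).2 (by
      rcases h.hc.sq_mem he with e2 | e2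
      · exact Or.inl (inv_eq_of_mul_eq_one_left e2)
      · exact Or.inr (inv_eq_of_mul_eq_one_left (by rw [mul_assoc, e2, h.hc.z_sq])))
  have hva : vec c (e * a * e⁻¹) = vec c a := by
    refine (vec_eq_iff h.hc hea haE).2 ?_
    rcases h.hc.swap he haE with e1 | e1 <;> rw [e1]
    · exact Or.inl (mul_inv_cancel_right _ _)
    · exact Or.inr (by rw [mul_assoc c.z, mul_inv_cancel_right])
  rw [vec_mul c hea (mul_mem he hm), vec_mul c he hm, hva, spForm_ρ h.hc _ he]
  have hwe : vec c (w * e⁻¹ * w⁻¹) = vec c (w * e * w⁻¹) :=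
    conj_vec_congr h.hc hwH (inv_mem he) he hv
  rw [hwe, add_comm (vec c e)]
  rfl

/-- The fibre of an invariant set over `pr w`. -/
def fib (_h : Pkg c M W) (Q : Set G) (α : A) : Set G := {x | x ∈ Q ∧ c.pr x = α}

theorem mem_coset (h : Pkg c M W) {x w : G} (hx : x ∈ h.V) (hw : w ∈ h.E5) (hpr : c.pr x = c.pr w) :
    ∃ a ∈ h.A7, x = a * w := by
  obtain ⟨a, ha, v, hv, rfl⟩ := hx
  rw [h.pr_V ha hv] at hpr
  rcases h.E5_ker (mul_mem hv (inv_mem hw))
    (by rw [h.pr_mul_C hv.1 (inv_mem hw.1), h.pr_inv_C hw.1, hpr, mul_inv_cancel]) with e | e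
  · exact ⟨a, ha, by rw [mul_inv_eq_one.1 e]⟩
  · exact ⟨a * c.z, mul_mem ha h.z_mem_A7, by rw [mul_inv_eq_iff_eq_mul.1 e, mul_assoc]⟩

/-- The small part of the coset of `w`. -/
def coreSet (h : Pkg c M W) {w : G} (hw : w ∈ h.E5) : Set G := {x | ∃ a ∈ h.Aw hw, x = a * w}

theorem ncard_coreSet (h : Pkg c M W) {w : G} (hw : w ∈ h.E5) (h1 : c.pr w ≠ 1) :
    (h.coreSet hw).ncard = 32 := by
  have : h.coreSet hw = (fun a => a * w) '' (h.Aw hw : Set G) := by
    ext x; constructor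
    · rintro ⟨a, ha, rfl⟩; exact ⟨a, ha, rfl⟩
    · rintro ⟨a, ha, rfl⟩; exact ⟨a, ha, rfl⟩
  rw [this, Set.ncard_image_of_injective _ (mul_left_injective w), ← Nat.card_coe_set_eq]
  exact h.card_Aw hw h1

theorem ncard_coset (h : Pkg c M W) (w : G) :
    ({x | ∃ a ∈ h.A7, x = a * w} : Set G).ncard = 128 := by
  have : ({x | ∃ a ∈ h.A7, x = a * w} : Set G) = (fun a => a * w) '' (h.A7 : Set G) := by
    ext x; constructor
    · rintro ⟨a, ha, rfl⟩; exact ⟨a, ha, rfl⟩
    · rintro ⟨a, ha, rfl⟩; exact ⟨a, ha, rfl⟩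
  rw [this, Set.ncard_image_of_injective _ (mul_left_injective w), ← Nat.card_coe_set_eq]
  exact h.card_A7

/-- An `E`-orbit in the core stays there. -/
theorem conjSet_core_subset (h : Pkg c M W) {w a : G} (hw : w ∈ h.E5) (ha : a ∈ h.Aw hw) :
    conjSet c.E (a * w) ⊆ h.coreSet hw := by
  rintro y ⟨e, he, rfl⟩
  obtain ⟨b, hb, hbw, hv⟩ := h.conj_aw hw (h.Aw_le hw ha) he
  exact ⟨b, ⟨hb, hv ▸ Submodule.add_mem _ ha.2 ((spForm h.hc).mem_mov.2 ⟨_, rfl⟩)⟩, hbw⟩

/-- The two lifts of a vector over the core lie in different `E`-orbits. -/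
theorem z_mul_notMem_orbit (h : Pkg c M W) {w a : G} (hw : w ∈ h.E5) (h1 : c.pr w ≠ 1)
    (ha : a ∈ h.Aw hw) : c.z * (a * w) ∉ conjSet c.E (a * w) := by
  classical
  haveI := finite_sp h.hc
  intro hmem
  set f := spForm h.hc with hf
  let φ : G → Sp c := fun x => vec c (x * w⁻¹)
  have himg : φ '' conjSet c.E (a * w) = (f.mov (h.lft hw) : Set (Sp c)) := by
    apply Set.Subset.antisymm
    · rintro _ ⟨x, hx, rfl⟩
      obtain ⟨b, hb, rfl⟩ := h.conjSet_core_subset hw ha hx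
      show vec c (b * w * w⁻¹) ∈ _
      rw [mul_inv_cancel_right]
      exact hb.2
    · intro v hv
      obtain ⟨u, hu⟩ := f.mem_mov.1 (Submodule.add_mem _ ha.2 hv : vec c a + v ∈ f.mov (h.lft hw))
      obtain ⟨e, he, rfl⟩ := vec_surj c u
      obtain ⟨b, hb, hbw, hvb⟩ := h.conj_aw hw (h.Aw_le hw ha) he
      refine ⟨_, ⟨e, he, rfl⟩, ?_⟩
      show vec c (e * (a * w) * e⁻¹ * w⁻¹) = v
      rw [hbw, mul_inv_cancel_right, hvb, ← hf, hu, ← add_assoc, add_self_sp, zero_add]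
  have h16 : ((f.mov (h.lft hw) : Set (Sp c))).ncard = 16 := by
    rw [← Nat.card_coe_set_eq]
    show Nat.card (f.mov (h.lft hw)) = 16
    rw [Module.natCard_eq_pow_finrank (K := ZMod 2), Nat.card_zmod, h.finrank_mov_E5 hw h1]
    rfl
  have hinj : Set.InjOn φ (conjSet c.E (a * w)) := by
    rw [← Set.ncard_image_iff (Set.toFinite _), himg, h16, h.conjSet_Aw_card hw h1 ha]
  have h2 := hinj hmem (self_mem_conjSet _ _) (by
    show vec c (c.z * (a * w) * w⁻¹) = vec c (a * w * w⁻¹)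
    rw [mul_assoc c.z, mul_inv_cancel_right, vec_mul c h.hc.z_mem ha.1, vec_z h.hc, zero_add])
  exact h.hc.z_ne (mul_eq_right.1 h2)

theorem notMem_mov_P (h : Pkg c M W) {w : G} (hw : w ∈ h.E5) {u : Sp c}
    (hu : u ∉ (spForm h.hc).mov (h.lft hw)) :
    (spForm h.hc).ρ (spForm h.hc).p u + u ∉ (spForm h.hc).mov (h.lft hw) := by
  intro hm
  set f := spForm h.hc
  refine hu ?_
  have hinv : f.Inv f.p (f.mov (h.lft hw)) := f.inv_mov_of_commute (f.cen _).symm
  have h1 := hinv _ hm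
  rw [map_add] at h1
  have h2 := f.p_sum u
  have e : u = f.ρ f.p (f.ρ f.p u) + f.ρ f.p u := by
    rw [← sub_eq_zero, Form.sub_eq_add]
    calc _ = u + f.ρ f.p u + f.ρ f.p (f.ρ f.p u) := by abel
      _ = 0 := h2
  rwa [← e] at h1

/-- An invariant set meets the coset of `w` in none or all of the `96` outer elements. -/
theorem outer_all (h : Pkg c M W) {Q : Set G} (hQ : h.Inv Q) {w a b : G} (hw : w ∈ h.E5)
    (h1 : c.pr w ≠ 1) (ha : a ∈ h.A7) (ha' : a ∉ h.Aw hw) (hb : b ∈ h.A7) (hb' : b ∉ h.Aw hw)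
    (hmem : a * w ∈ Q) : b * w ∈ Q := by
  haveI := finite_sp h.hc
  set f := spForm h.hc with hf
  set U := f.mov (h.lft hw) with hU
  have hinv : f.Inv f.p U := f.inv_mov_of_commute (f.cen _).symm
  have haE := (mem_inf.1 ha).1
  have hbE := (mem_inf.1 hb).1
  have hau : vec c a ∉ U := fun e => ha' ⟨haE, e⟩
  have hbu : vec c b ∉ U := fun e => hb' ⟨hbE, e⟩
  obtain ⟨hpP, -⟩ := spForm_p_mem h.hc
  set p : G := (f.p : G) with hp
  have hpw : p * w = w * p := h.hc.P_central hpP hw.1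
  -- translations by the commutator space and by `z`
  have step : ∀ {d}, d ∈ h.A7 → vec c d ∉ U → d * w ∈ Q → ∀ {d'}, d' ∈ h.A7 →
      vec c d + vec c d' ∈ U → d' * w ∈ Q := by
    intro d hd hdu hdQ d' hd' hdd
    obtain ⟨u, hu⟩ := f.mem_mov.1 hdd
    obtain ⟨e, he, rfl⟩ := vec_surj c u
    obtain ⟨g, hg, hgw, hvg⟩ := h.conj_aw hw hd he
    have hgQ : g * w ∈ Q := hgw ▸ hQ.inv e (h.E_le_NH he) _ hdQ
    have hd'E := (mem_inf.1 hd').1
    have hgd : vec c g = vec c d' := by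
      rw [hvg, ← hf, hu, ← add_assoc, add_self_sp, zero_add]
    rcases (vec_eq_iff h.hc hd'E hg).1 hgd.symm with rfl | e'
    · exact hgQ
    · subst e'
      have hgu : vec c g ∉ U := fun e2 => hdu (by
        have h2 : vec c d = (vec c d + vec c (c.z * g)) + vec c (c.z * g) := by
          rw [add_assoc, add_self_sp, add_zero]
        rw [h2]
        exact U.add_mem hdd (hgd ▸ e2))
      obtain ⟨k, hk, hkg⟩ : ∃ k ∈ pre c (f.fix (h.lft hw)), ¬ (k * g = g * k) := by
        by_contra hall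
        push Not at hall
        refine hgu ?_
        have hm : g ∈ c.E ⊓ centralizer (pre c (f.fix (h.lft hw)) : Set G) :=
          mem_inf.2 ⟨hg, mem_centralizer_iff.2 fun k hk => hall k hk⟩
        rw [hf, ← pre_orthogonal h.hc, ← Form.mov_eq_orthogonal] at hm
        exact hm.2
      have h3 := hQ.inv k (h.E_le_NH hk.1) _ hgQ
      have h4 : k * g * k⁻¹ = c.z * g := by
        rw [(h.hc.swap hk.1 hg).resolve_left hkg, mul_assoc c.z, mul_inv_cancel_right]
      have h5 : k * w * k⁻¹ = w := by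
        rw [← h.fix_commute hw hk.1 hk.2, mul_inv_cancel_right]
      rwa [show k * (g * w) * k⁻¹ = (k * g * k⁻¹) * (k * w * k⁻¹) by group, h4, h5] at h3
  -- the class of `b` is one of the three classes of `a`
  have hpa : p * a * p⁻¹ ∈ h.A7 := h.A7_conj_NH (h.P_le_NH hpP) ha
  have hppa : p * (p * a * p⁻¹) * p⁻¹ ∈ h.A7 := h.A7_conj_NH (h.P_le_NH hpP) hpa
  have hQp : ∀ {d}, d * w ∈ Q → (p * d * p⁻¹) * w ∈ Q := by
    intro d hd
    have := hQ.inv p (h.P_le_NH hpP) _ hd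
    rwa [show p * (d * w) * p⁻¹ = p * d * (w * p⁻¹) by group,
      show w * p⁻¹ = p⁻¹ * w by
        calc w * p⁻¹ = p⁻¹ * (p * w) * p⁻¹ := by group
          _ = p⁻¹ * w := by rw [hpw]; group, ← mul_assoc] at this
  have hvp : ∀ {d}, d ∈ c.E → vec c (p * d * p⁻¹) = f.ρ f.p (vec c d) := fun hd =>
    (spForm_ρ h.hc _ hd).symm
  have hne1 := h.notMem_mov_P hw hau
  have hcls : vec c a + vec c b ∈ U ∨ f.ρ f.p (vec c a) + vec c b ∈ U ∨
      f.ρ f.p (f.ρ f.p (vec c a)) + vec c b ∈ U := by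
    set u := vec c a
    set T : Submodule (ZMod 2) (Sp c) := U ⊔ Submodule.span (ZMod 2) {u, f.ρ f.p u} with hT
    have hu1 : u ∈ T := Submodule.mem_sup_right (Submodule.subset_span (Or.inl rfl))
    have hu2 : f.ρ f.p u ∈ T := Submodule.mem_sup_right (Submodule.subset_span (Or.inr rfl))
    have hsum : f.ρ f.p (f.ρ f.p u) = u + f.ρ f.p u := by
      rw [← sub_eq_zero, Form.sub_eq_add, add_comm]; exact f.p_sum u
    have hTinv : f.Inv f.p T := by
      intro v hv
      have hle : T ≤ T.comap (f.ρ f.p) := by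
        refine sup_le (fun x hx => Submodule.mem_sup_left (hinv x hx)) (Submodule.span_le.2 ?_)
        rintro x (rfl | rfl)
        · exact hu2
        · show f.ρ f.p (f.ρ f.p u) ∈ T
          rw [hsum]; exact T.add_mem hu1 hu2
      exact hle hv
    have hXu : u ∈ h.X := by rw [h.A7_eq_pre] at ha; exact ha.2
    have hXb : vec c b ∈ h.X := by rw [h.A7_eq_pre] at hb; exact hb.2
    have hTX : T ≤ h.X := sup_le (h.mov_le_X hw) (Submodule.span_le.2 (by
      rintro x (rfl | rfl)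
      exacts [hXu, f.inv_p_fixAll _ _ hXu]))
    have hlt : finrank (ZMod 2) U < finrank (ZMod 2) T :=
      Submodule.finrank_lt_finrank_of_lt (lt_of_le_of_ne le_sup_left fun e => hau (e ▸ hu1))
    obtain ⟨m, hm⟩ := f.even_finrank hTinv
    have hle6 := Submodule.finrank_mono hTX
    rw [h.finrank_mov_E5 hw h1] at hlt
    rw [h.finrank_X] at hle6
    have hTeq : T = h.X := Submodule.eq_of_le_of_finrank_eq hTX (by rw [h.finrank_X]; omega)
    rw [← hTeq] at hXb
    obtain ⟨x, hx, y, hy, hxy⟩ := Submodule.mem_sup.1 hXb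
    rw [Submodule.mem_span_pair] at hy
    obtain ⟨r, s, hrs⟩ := hy
    have h01 : ∀ t : ZMod 2, t = 0 ∨ t = 1 := by decide
    rcases h01 r with rfl | rfl <;> rcases h01 s with rfl | rfl <;>
      simp only [zero_smul, one_smul, zero_add, add_zero] at hrs <;> subst hrs
    · exact absurd (by rw [← hxy, add_zero]; exact hx) hbu
    · refine Or.inr (Or.inl ?_)
      rw [← hxy, show f.ρ f.p u + (x + f.ρ f.p u) = x + (f.ρ f.p u + f.ρ f.p u) by abel,
        add_self_sp, add_zero]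
      exact hx
    · refine Or.inl ?_
      rw [← hxy, show u + (x + u) = x + (u + u) by abel, add_self_sp, add_zero]
      exact hx
    · refine Or.inr (Or.inr ?_)
      rw [← hxy, hsum, show u + f.ρ f.p u + (x + (u + f.ρ f.p u)) =
        x + (u + f.ρ f.p u + (u + f.ρ f.p u)) by abel, add_self_sp, add_zero]
      exact hx
  have hpu : ∀ {v}, v ∉ U → f.ρ f.p v ∉ U := fun {v} hv e => hv (by
    have := hinv _ (hinv _ e)
    rwa [f.p_apply_three] at this)
  rcases hcls with e | e | e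
  · exact step ha hau hmem hb e
  · refine step hpa ?_ (hQp hmem) hb ?_
    · rw [hvp haE]; exact hpu hau
    · rw [hvp haE]; exact e
  · refine step hppa ?_ (hQp (hQp hmem)) hb ?_
    · rw [hvp (mem_inf.1 hpa).1, hvp haE]; exact hpu (hpu hau)
    · rw [hvp (mem_inf.1 hpa).1, hvp haE]; exact e

/-- The possible sizes of the fibres of an invariant set. -/
theorem ncard_fib (h : Pkg c M W) {Q : Set G} (hQ : h.Inv Q) {w : G} (hw : w ∈ h.E5)
    (h1 : c.pr w ≠ 1) :
    ((h.fib Q (c.pr w)) ∩ h.coreSet hw).ncard ∈ [0, 16, 32] ∧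
      ((h.fib Q (c.pr w)) \ h.coreSet hw).ncard ∈ [0, 96] := by
  set F := h.fib Q (c.pr w)
  set coset := ({x | ∃ a ∈ h.A7, x = a * w} : Set G)
  have hsub : F ⊆ coset := fun x hx => h.mem_coset (hQ.sub hx.1) hw hx.2
  have hpr : ∀ a ∈ h.A7, c.pr (a * w) = c.pr w := fun a ha => h.pr_V ha hw
  constructor
  · rcases (F ∩ h.coreSet hw).eq_empty_or_nonempty with e | ⟨x, hxF, a, ha, rfl⟩
    · rw [e, Set.ncard_empty]; simp
    have horb : ∀ b ∈ h.Aw hw, b * w ∈ F → conjSet c.E (b * w) ⊆ F ∩ h.coreSet hw := by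
      intro b hb hbF y hy
      have hy' := h.conjSet_core_subset hw hb hy
      refine ⟨⟨?_, ?_⟩, hy'⟩
      · obtain ⟨e, he, rfl⟩ := hy
        exact hQ.inv e (h.E_le_NH he) _ hbF.1
      · obtain ⟨d, hd, rfl⟩ := hy'
        exact hpr d (h.Aw_le hw hd)
    by_cases hall : F ∩ h.coreSet hw ⊆ conjSet c.E (a * w)
    · rw [Set.Subset.antisymm hall (horb a ha hxF), h.conjSet_Aw_card hw h1 ha]; simp
    · obtain ⟨y, ⟨hyF, b, hb, rfl⟩, hy⟩ := Set.not_subset.1 hall
      have hdis : Disjoint (conjSet c.E (a * w)) (conjSet c.E (b * w)) := by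
        rw [Set.disjoint_left]
        rintro _ ⟨e, he, rfl⟩ ⟨d, hd, e'⟩
        refine hy ⟨d⁻¹ * e, mul_mem (inv_mem hd) he, ?_⟩
        calc d⁻¹ * e * (a * w) * (d⁻¹ * e)⁻¹ = d⁻¹ * (e * (a * w) * e⁻¹) * d := by group
          _ = b * w := by rw [← e']; group
      have h32 : (F ∩ h.coreSet hw).ncard = 32 := by
        refine le_antisymm ((Set.ncard_le_ncard Set.inter_subset_right (Set.toFinite _)).trans
          (h.ncard_coreSet hw h1).le) ?_
        have h2 := Set.ncard_le_ncard (Set.union_subset (horb a ha hxF) (horb b hb hyF)) (Set.toFinite _)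
        rw [Set.ncard_union_eq hdis (Set.toFinite _) (Set.toFinite _), h.conjSet_Aw_card hw h1 ha,
          h.conjSet_Aw_card hw h1 hb] at h2
        exact h2
      rw [h32]; simp
  · rcases (F \ h.coreSet hw).eq_empty_or_nonempty with e | ⟨x, hxF, hx⟩
    · rw [e, Set.ncard_empty]; simp
    obtain ⟨a, ha, rfl⟩ := hsub hxF
    have ha' : a ∉ h.Aw hw := fun e => hx ⟨a, e, rfl⟩
    have heq : F \ h.coreSet hw = coset \ h.coreSet hw := by
      refine Set.Subset.antisymm (Set.sdiff_subset_sdiff_left hsub) ?_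
      rintro y ⟨⟨b, hb, rfl⟩, hy⟩
      exact ⟨⟨h.outer_all hQ hw h1 ha ha' hb (fun e => hy ⟨b, e, rfl⟩) hxF.1, hpr b hb⟩, hy⟩
    have hcs : h.coreSet hw ⊆ coset := by
      rintro _ ⟨d, hd, rfl⟩; exact ⟨d, h.Aw_le hw hd, rfl⟩
    rw [heq, Set.ncard_sdiff hcs (Set.toFinite _), h.ncard_coreSet hw h1, h.ncard_coset]
    simp

end Pkg

end Cfsg.Agent.H98.JFour
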