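import Cfsg.Agent.H98.JFour.CentT
import Cfsg.Agent.H43.J4.Main

/-!
Involutions centralised by an element of order three, and the fixed point lemma producing them.
-/

set_option autoImplicit false
set_option linter.style.haveILetI false

namespace Cfsg.Agent.H98.JFour

open Subgroup H43.JFour
open scoped Pointwise

universe u v

variable {G : Type u} [Group G] [Finite G] {A : Type v} [Group A]
variable {c : Ctx G A} {M W : Subgroup A}

/-- An element conjugate into `V`. -/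
def Pkg.Reach (h : Pkg c M W) (x : G) : Prop := ∃ v ∈ h.V, IsConj x v

namespace Pkg

theorem Reach.of_conj {h : Pkg c M W} {x : G} (g : G) (hx : h.Reach (g * x * g⁻¹)) : h.Reach x := by
  obtain ⟨v, hv, hc'⟩ := hx
  exact ⟨v, hv, (isConj_iff.2 ⟨g, rfl⟩ : IsConj x (g * x * g⁻¹)).trans hc'⟩

theorem reach_of_mem {h : Pkg c M W} {x : G} (hx : x ∈ h.V) : h.Reach x := ⟨x, hx, IsConj.refl x⟩

theorem exists_w (h : Pkg c M W) : ∃ w ∈ h.E5, c.pr w ∈ M ∧ orderOf (c.pr w) = 2 := by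
  haveI : Fact (Nat.Prime 2) := ⟨Nat.prime_two⟩
  obtain ⟨w, hw, h1⟩ := h.exists_w0
  exact ⟨w, hw, h.hW.le hw.2.1, orderOf_eq_prime (by rw [pow_two]; exact h.sq_W hw.2.1) h1⟩

/-- An involution of `C` is conjugate into `V`. -/
theorem reach_C (h : Pkg c M W) {r : G} (hr : r ∈ c.C) (h2 : r * r = 1) (h1 : r ≠ 1) : h.Reach r := by
  have h4 : ∀ {y : G}, y * y = 1 → y ^ 4 = 1 := fun {y} e => by
    rw [show 4 = 2 * 2 from rfl, pow_mul, pow_two y, e, one_pow]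
  by_cases hp : c.pr r = 1
  · rcases h.ker_four hr hp (h4 h2) with e | e
    · exact absurd e h1
    · rw [e]; exact reach_of_mem h.z_mem_V
  haveI : Fact (Nat.Prime 2) := ⟨Nat.prime_two⟩
  obtain ⟨w, hw, hwM, hwo⟩ := h.exists_w
  have hrM : c.pr r ∈ M := (h.hc.mem_C_iff h.hd (c.C_le_Nh hr)).1 hr
  have hro : orderOf (c.pr r) = 2 :=
    orderOf_eq_prime (by rw [pow_two, ← h.pr_mul_C hr hr, h2, h.hc.pr_one]) hp
  obtain ⟨g, hg, e⟩ := h.hd.invol _ hrM _ hwM hro hwo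
  obtain ⟨n, hn, rfl⟩ := h.hc.C_surj h.hd hg
  refine Reach.of_conj n (reach_of_mem (h.E5_le_V ⟨mul_mem (mul_mem hn hr) (inv_mem hn), ?_, h4 ?_⟩))
  · rw [h.hc.pr_conj (mem_inf.1 hn).1 (mem_inf.1 hr).1, e]; exact hw.2.1
  · rw [show n * r * n⁻¹ * (n * r * n⁻¹) = n * (r * r) * n⁻¹ by group, h2, mul_one, mul_inv_cancel]

/-- An involution commuting with an element of order three is conjugate into `V`. -/
theorem reach_of_three (h : Pkg c M W) [IsSimpleGroup G] (hG : ¬ IsMulCommutative G) {x s : G}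
    (hx : x * x = 1) (hx1 : x ≠ 1) (hs : orderOf s = 3) (hsx : s * x = x * s) : h.Reach x := by
  haveI : Fact (Nat.Prime 3) := ⟨Nat.prime_three⟩
  obtain ⟨p, hp, hp1⟩ : ∃ p ∈ c.P, p ≠ 1 :=
    (Subgroup.bot_or_exists_ne_one c.P).resolve_left fun e => by
      have := h.hc.cardP; rw [e, card_bot] at this; omega
  have hpo : orderOf p = 3 := orderOf_eq_prime (by rw [pow_three']; exact h.hc.P_pow hp) hp1
  obtain ⟨g, hg⟩ := isConj_iff.1 (h.hc.one_class h.hd hG hs hpo)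
  refine Reach.of_conj g (h.reach_C ?_ ?_ ?_)
  · rw [← h.hc.cent_P h.hd hG, mem_centralizer_iff]
    intro q hq
    rw [SetLike.mem_coe, ← PGroups.zpowers_eq_of_card_eq h.hc.cardP hp hp1, mem_zpowers_iff] at hq
    obtain ⟨k, rfl⟩ := hq
    have hc' : Commute p (g * x * g⁻¹) := by
      show p * (g * x * g⁻¹) = g * x * g⁻¹ * p
      rw [← hg]
      calc g * s * g⁻¹ * (g * x * g⁻¹) = g * (s * x) * g⁻¹ := by group
        _ = g * x * g⁻¹ * (g * s * g⁻¹) := by rw [hsx]; group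
    exact (hc'.zpow_left k).eq
  · rw [show g * x * g⁻¹ * (g * x * g⁻¹) = g * (x * x) * g⁻¹ by group, hx, mul_one, mul_inv_cancel]
  · intro e
    rw [mul_inv_eq_one] at e
    exact hx1 (mul_eq_left.1 e)

/-- The fixed point: `s` of order three moving the `E`-orbit of `x` into itself or its `z`-translate. -/
theorem exists_fixed (h : Pkg c M W) {x s : G} (hx : x ∈ c.H) (hs : s ∈ c.H) (hs3 : s ^ 3 = 1)
    (hmove : ∃ v ∈ c.E, c.Eqz (v * x * v⁻¹) (s * x * s⁻¹)) :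
    ∃ v ∈ c.E, s * (v * x * v⁻¹) = v * x * v⁻¹ * s := by
  classical
  haveI : Fact (Nat.Prime 3) := ⟨Nat.prime_three⟩
  set Ω : Set G := conjSet c.E x ∪ (fun y => c.z * y) '' conjSet c.E x with hΩ
  have hzc : ∀ {y}, y ∈ c.H → c.z * y = y * c.z := fun hy => c.mem_H.1 hy
  have hzs : ∀ a : G, s * (c.z * a) * s⁻¹ = c.z * (s * a * s⁻¹) := fun a => by
    rw [← mul_assoc s, ← hzc hs]; group
  have hbase : ∀ f ∈ c.E, s * (f * x * f⁻¹) * s⁻¹ ∈ Ω := by
    intro f hf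
    obtain ⟨v, hv, e⟩ := hmove
    set f' := s * f * s⁻¹ with hf'
    have hf'E : f' ∈ c.E := h.hc.conjE hs hf
    rw [show s * (f * x * f⁻¹) * s⁻¹ = f' * (s * x * s⁻¹) * f'⁻¹ by rw [hf']; group]
    rcases e with e | e <;> rw [e]
    · exact Or.inl ⟨f' * v, mul_mem hf'E hv, by group⟩
    · refine Or.inr ⟨_, ⟨f' * v, mul_mem hf'E hv, rfl⟩, ?_⟩
      show c.z * (f' * v * x * (f' * v)⁻¹) = _
      rw [← mul_assoc f' c.z, ← hzc (h.hc.le_H hf'E)]
      group
  have hinv : ∀ y ∈ Ω, s * y * s⁻¹ ∈ Ω := by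
    rintro y (⟨f, hf, rfl⟩ | ⟨_, ⟨f, hf, rfl⟩, rfl⟩)
    · exact hbase f hf
    · show s * (c.z * (f * x * f⁻¹)) * s⁻¹ ∈ Ω
      rw [hzs]
      rcases hbase f hf with e | ⟨u, hu, e⟩
      · exact Or.inr ⟨_, e, rfl⟩
      · rw [← e]
        show c.z * (c.z * u) ∈ Ω
        rw [← mul_assoc, h.hc.z_sq, one_mul]
        exact Or.inl hu
  -- a group of order dividing three acts on a set of two-power size
  set T := Subgroup.zpowers s
  have hmem : ∀ t ∈ T, ∀ y ∈ Ω, t * y * t⁻¹ ∈ Ω := by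
    intro t ht y hy
    obtain ⟨k, rfl⟩ := mem_powers_iff_mem_zpowers.2 ht
    induction k with
    | zero => simpa using hy
    | succ n ih =>
      have := hinv _ (ih (pow_mem (mem_zpowers s) n))
      show s ^ (n + 1) * y * (s ^ (n + 1))⁻¹ ∈ Ω
      rw [pow_succ', show s * s ^ n * y * (s * s ^ n)⁻¹ = s * (s ^ n * y * (s ^ n)⁻¹) * s⁻¹ by group]
      exact this
  letI : MulAction T Ω :=
    { smul := fun t y => ⟨(t : G) * y * (t : G)⁻¹, hmem t t.2 y y.2⟩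
      one_smul := fun y => Subtype.ext (show ((1 : T) : G) * y * ((1 : T) : G)⁻¹ = y by simp)
      mul_smul := fun a b y => Subtype.ext (show ((a * b : T) : G) * y * ((a * b : T) : G)⁻¹ =
        (a : G) * ((b : G) * y * (b : G)⁻¹) * (a : G)⁻¹ by simp [mul_assoc]) }
  have hT : IsPGroup 3 T := fun t => ⟨1, Subtype.ext (by
    obtain ⟨k, hk⟩ := mem_zpowers_iff.1 t.2
    show (t : G) ^ 3 ^ 1 = 1
    rw [← hk, pow_one, ← zpow_natCast, ← zpow_mul, mul_comm, zpow_mul, zpow_natCast, hs3, one_zpow])⟩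
  have hd : (conjSet c.E x).ncard ∣ 2 ^ 13 := by
    rw [← h.hc.cardE]; exact Dvd.intro _ (conjSet_card c.E x)
  obtain ⟨j, -, hj⟩ := (Nat.dvd_prime_pow Nat.prime_two).1 hd
  have h3 : ¬ 3 ∣ Nat.card Ω := by
    rw [Nat.card_coe_set_eq]
    have hcard : Ω.ncard = 2 ^ j ∨ Ω.ncard = 2 ^ (j + 1) := by
      by_cases hz : c.z * x ∈ conjSet c.E x
      · left
        rw [← hj, hΩ, Set.union_eq_self_of_subset_right]
        rintro _ ⟨_, ⟨f, hf, rfl⟩, rfl⟩
        obtain ⟨g, hg, e⟩ := hz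
        refine ⟨f * g, mul_mem hf hg, ?_⟩
        show f * g * x * (f * g)⁻¹ = c.z * (f * x * f⁻¹)
        rw [show f * g * x * (f * g)⁻¹ = f * (g * x * g⁻¹) * f⁻¹ by group, e, ← mul_assoc f c.z,
          ← hzc (h.hc.le_H hf)]
        group
      · right
        rw [hΩ, Set.ncard_union_eq ?_ (Set.toFinite _) (Set.toFinite _),
          Set.ncard_image_of_injective _ (mul_right_injective c.z), hj]
        · ring
        · rw [Set.disjoint_left]
          rintro _ ⟨g, hg, rfl⟩ ⟨_, ⟨f, hf, rfl⟩, e⟩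
          refine hz ⟨f⁻¹ * g, mul_mem (inv_mem hf) hg, ?_⟩
          have e' : g * x * g⁻¹ = c.z * (f * x * f⁻¹) := e.symm
          rw [show f⁻¹ * g * x * (f⁻¹ * g)⁻¹ = f⁻¹ * (g * x * g⁻¹) * f by group, e', ← mul_assoc f⁻¹ c.z,
            ← hzc (h.hc.le_H (inv_mem hf))]
          group
    intro h3
    rcases hcard with e | e <;> rw [e] at h3 <;>
      exact absurd (Nat.prime_three.dvd_of_dvd_pow h3) (by norm_num)
  haveI : Finite Ω := Finite.of_injective _ Subtype.val_injective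
  obtain ⟨⟨y, hyΩ⟩, hy⟩ := hT.nonempty_fixed_point_of_prime_not_dvd_card Ω h3
  have hfix : s * y * s⁻¹ = y := congrArg Subtype.val (hy ⟨s, mem_zpowers s⟩)
  rcases hyΩ with ⟨v, hv, rfl⟩ | ⟨_, ⟨v, hv, rfl⟩, rfl⟩
  · exact ⟨v, hv, mul_inv_eq_iff_eq_mul.1 hfix⟩
  · refine ⟨v, hv, mul_inv_eq_iff_eq_mul.1 (mul_left_cancel (a := c.z) ?_)⟩
    rw [← hzs]; exact hfix

end Pkg

end Cfsg.Agent.H98.JFour
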