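import Mathlib

/-!
Symplectic modules over `ZMod 2` on which a central element of order three acts without fixed
points: pieces of a subgroup of type `3 ^ (1 + 2)`, ranks of involutions, and the fixed space of an
elementary abelian group of order `16`.
-/

set_option autoImplicit false
set_option linter.style.haveILetI false

namespace Cfsg.Agent.H98.JFour

open Module

variable {K V : Type*} [Group K] [AddCommGroup V] [Module (ZMod 2) V]

/-- A group acting on a symplectic `ZMod 2`-space with a distinguished central element of order three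
acting without fixed points. -/
structure Form (K V : Type*) [Group K] [AddCommGroup V] [Module (ZMod 2) V] where
  ρ : Representation (ZMod 2) K V
  β : LinearMap.BilinForm (ZMod 2) V
  alt : β.IsAlt
  nd : β.Nondegenerate
  inv : ∀ k u v, β (ρ k u) (ρ k v) = β u v
  p : K
  p_cube : p ^ 3 = 1
  cen : ∀ k : K, k * p = p * k
  fpf : ∀ v, ρ p v = v → v = 0

namespace Form

variable (f : Form K V)

theorem add_self (v : V) : v + v = 0 := by
  rw [← two_smul (ZMod 2) v, show (2 : ZMod 2) = 0 from rfl, zero_smul]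

theorem neg_eq_self (v : V) : -v = v := neg_eq_of_add_eq_zero_left (add_self v)

theorem sub_eq_add (u v : V) : u - v = u + v := by rw [sub_eq_add_neg, neg_eq_self]

theorem symm (u v : V) : f.β u v = f.β v u := by
  rw [← f.alt.neg_eq u v]
  exact (ZMod.neg_eq_self_mod_two _).symm

theorem mul_apply (a b : K) (v : V) : f.ρ (a * b) v = f.ρ a (f.ρ b v) := by
  rw [map_mul]; rfl

theorem one_apply (v : V) : f.ρ 1 v = v := by rw [map_one]; rfl

theorem inv_cancel (a : K) (v : V) : f.ρ a⁻¹ (f.ρ a v) = v := by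
  rw [← f.mul_apply, inv_mul_cancel, f.one_apply]

theorem cancel_inv (a : K) (v : V) : f.ρ a (f.ρ a⁻¹ v) = v := by
  rw [← f.mul_apply, mul_inv_cancel, f.one_apply]

theorem commute_apply {a b : K} (h : a * b = b * a) (v : V) : f.ρ a (f.ρ b v) = f.ρ b (f.ρ a v) := by
  rw [← f.mul_apply, h, f.mul_apply]

theorem p_comm (k : K) (v : V) : f.ρ k (f.ρ f.p v) = f.ρ f.p (f.ρ k v) :=
  f.commute_apply (f.cen k) v

theorem p_apply_three (v : V) : f.ρ f.p (f.ρ f.p (f.ρ f.p v)) = v := by
  rw [← f.mul_apply, ← f.mul_apply, show f.p * f.p * f.p = 1 by rw [← f.p_cube, pow_succ, pow_two], f.one_apply]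

/-- `1 + ω + ω ^ 2 = 0`. -/
theorem p_sum (v : V) : v + f.ρ f.p v + f.ρ f.p (f.ρ f.p v) = 0 := by
  refine f.fpf _ ?_
  rw [map_add, map_add, f.p_apply_three]
  abel

theorem p_sum' (v : V) : f.ρ f.p v + f.ρ f.p (f.ρ f.p v) = v := by
  have h := f.p_sum v
  rw [add_assoc] at h
  rw [← sub_eq_zero, sub_eq_add, add_comm]
  exact h

/-- The fixed space of an element. -/
def fix (g : K) : Submodule (ZMod 2) V := LinearMap.ker (f.ρ g - 1)

/-- The commutator space of an element. -/
def mov (g : K) : Submodule (ZMod 2) V := LinearMap.range (f.ρ g - 1)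

theorem mem_fix {g : K} {v : V} : v ∈ f.fix g ↔ f.ρ g v = v := by
  simp [fix, sub_eq_zero]

theorem mem_mov {g : K} {v : V} : v ∈ f.mov g ↔ ∃ u, f.ρ g u + u = v := by
  simp only [mov, LinearMap.mem_range]
  refine exists_congr fun u => ?_
  rw [LinearMap.sub_apply, Module.End.one_apply, sub_eq_add]

theorem finrank_mov [FiniteDimensional (ZMod 2) V] (g : K) :
    finrank (ZMod 2) (f.mov g) + finrank (ZMod 2) (f.fix g) = finrank (ZMod 2) V :=
  LinearMap.finrank_range_add_finrank_ker _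

theorem mov_le_orthogonal (g : K) : f.mov g ≤ f.β.orthogonal (f.fix g) := by
  intro v hv u hu
  obtain ⟨w, rfl⟩ := f.mem_mov.1 hv
  show f.β u (f.ρ g w + w) = 0
  rw [map_add]
  nth_rewrite 1 [← f.mem_fix.1 hu]
  rw [f.inv]
  exact CharTwo.add_self_eq_zero _

theorem finrank_orthogonal [FiniteDimensional (ZMod 2) V] (U : Submodule (ZMod 2) V) :
    finrank (ZMod 2) (f.β.orthogonal U) + finrank (ZMod 2) U = finrank (ZMod 2) V := by
  have h := Submodule.finrank_le U
  rw [LinearMap.BilinForm.finrank_orthogonal f.nd U]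
  omega

theorem mov_eq_orthogonal [FiniteDimensional (ZMod 2) V] (g : K) :
    f.mov g = f.β.orthogonal (f.fix g) := by
  refine Submodule.eq_of_le_of_finrank_eq (f.mov_le_orthogonal g) ?_
  have h1 := f.finrank_mov g
  have h2 := f.finrank_orthogonal (f.fix g)
  omega

/-- A submodule invariant under `k`. -/
def Inv (k : K) (U : Submodule (ZMod 2) V) : Prop := ∀ u ∈ U, f.ρ k u ∈ U

theorem inv_fix_of_commute {a g : K} (h : a * g = g * a) : f.Inv a (f.fix g) := fun u hu => by
  rw [f.mem_fix] at hu ⊢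
  rw [← f.commute_apply h, hu]

theorem inv_p_fix (g : K) : f.Inv f.p (f.fix g) := f.inv_fix_of_commute (f.cen g).symm

theorem inv_mov_of_commute {a g : K} (h : a * g = g * a) : f.Inv a (f.mov g) := fun u hu => by
  obtain ⟨w, rfl⟩ := f.mem_mov.1 hu
  exact f.mem_mov.2 ⟨f.ρ a w, by rw [map_add, f.commute_apply h]⟩

theorem inv_inf {k : K} {U U' : Submodule (ZMod 2) V} (h : f.Inv k U) (h' : f.Inv k U') :
    f.Inv k (U ⊓ U') := fun u hu => ⟨h u hu.1, h' u hu.2⟩

theorem inv_orthogonal {k : K} {U : Submodule (ZMod 2) V} (h : f.Inv k⁻¹ U) :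
    f.Inv k (f.β.orthogonal U) := fun v hv u hu => by
  show f.β u (f.ρ k v) = 0
  rw [← f.cancel_inv k u, f.inv]
  exact hv _ (h u hu)

theorem inv_pow {k : K} {U : Submodule (ZMod 2) V} (h : f.Inv k U) (n : ℕ) : f.Inv (k ^ n) U := by
  induction n with
  | zero => intro u hu; rwa [pow_zero, f.one_apply]
  | succ n ih => intro u hu; rw [pow_succ, f.mul_apply]; exact ih _ (h u hu)

theorem inv_inv [Finite K] {k : K} {U : Submodule (ZMod 2) V} (h : f.Inv k U) : f.Inv k⁻¹ U := by
  obtain ⟨n, hn⟩ := (isOfFinOrder_of_finite k).mem_powers_iff_mem_zpowers.2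
    (Subgroup.inv_mem _ (Subgroup.mem_zpowers k))
  exact hn ▸ f.inv_pow h n

/-- An element of order three without fixed points forces even dimension. -/
theorem even_finrank [FiniteDimensional (ZMod 2) V] {U : Submodule (ZMod 2) V} (hU : f.Inv f.p U) :
    Even (finrank (ZMod 2) U) := by
  classical
  haveI : Fact (Nat.Prime 3) := ⟨Nat.prime_three⟩
  haveI : Finite V := Module.finite_of_finite (ZMod 2)
  let σ : Equiv.Perm U :=
    { toFun := fun u => ⟨f.ρ f.p u, hU u u.2⟩
      invFun := fun u => ⟨f.ρ f.p (f.ρ f.p u), hU _ (hU u u.2)⟩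
      left_inv := fun u => Subtype.ext (f.p_apply_three _)
      right_inv := fun u => Subtype.ext (f.p_apply_three _) }
  have hσ3 : σ ^ 3 = 1 := Equiv.ext fun u => Subtype.ext (f.p_apply_three _)
  have hP : IsPGroup 3 (Subgroup.zpowers σ) := by
    intro x
    refine ⟨1, ?_⟩
    obtain ⟨x, hx⟩ := x
    obtain ⟨n, rfl⟩ := Subgroup.mem_zpowers_iff.1 hx
    refine Subtype.ext ?_
    show (σ ^ n) ^ (3 ^ 1) = 1
    rw [pow_one, ← zpow_natCast, ← zpow_mul, mul_comm, zpow_mul, zpow_natCast, hσ3, one_zpow]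
  have hfix : Nat.card (MulAction.fixedPoints (Subgroup.zpowers σ) U) = 1 := by
    rw [Nat.card_eq_one_iff_unique]
    have key : ∀ u : MulAction.fixedPoints (Subgroup.zpowers σ) U, (u : U) = 0 := fun u =>
      Subtype.ext (f.fpf _ (congrArg Subtype.val (u.2 ⟨σ, Subgroup.mem_zpowers σ⟩)))
    refine ⟨⟨fun a b => Subtype.ext ((key a).trans (key b).symm)⟩, ⟨⟨0, fun g => ?_⟩⟩⟩
    obtain ⟨g, hg⟩ := g
    obtain ⟨n, rfl⟩ := Subgroup.mem_zpowers_iff.1 hg
    have h0 : σ 0 = 0 := Subtype.ext (map_zero (f.ρ f.p))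
    exact Equiv.Perm.zpow_apply_eq_self_of_apply_eq_self h0 n
  have hm := hP.card_modEq_card_fixedPoints U
  rw [hfix, Module.natCard_eq_pow_finrank (K := ZMod 2), Nat.card_zmod] at hm
  rcases Nat.even_or_odd (finrank (ZMod 2) U) with h | ⟨m, hm'⟩
  · exact h
  · exfalso
    rw [hm'] at hm
    unfold Nat.ModEq at hm
    rw [pow_succ, pow_mul, Nat.mul_mod, Nat.pow_mod] at hm
    norm_num at hm

/-! ### The pieces of `3 ^ (1 + 2)` -/

/-- The element `y * p ^ j`. -/
def piece (y : K) (j : ℕ) : K := y * f.p ^ j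

/-- Averaging over an element of order three. -/
def norm (s : K) : V →ₗ[ZMod 2] V := 1 + f.ρ s + f.ρ s ∘ₗ f.ρ s

theorem norm_apply (s : K) (v : V) : f.norm s v = v + f.ρ s v + f.ρ s (f.ρ s v) := by
  simp [norm]

theorem norm_mem_fix {s : K} (hs : s ^ 3 = 1) (v : V) : f.norm s v ∈ f.fix s := by
  rw [f.mem_fix, f.norm_apply, map_add, map_add]
  have h : f.ρ s (f.ρ s (f.ρ s v)) = v := by
    rw [← f.mul_apply, ← f.mul_apply, show s * s * s = 1 by rw [← hs, pow_succ, pow_two], f.one_apply]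
  rw [h]
  abel

theorem piece_cube {y : K} (hy : y ^ 3 = 1) (j : ℕ) : f.piece y j ^ 3 = 1 := by
  rw [piece, (Commute.pow_right (f.cen y) j).mul_pow, hy, ← pow_mul, mul_comm, pow_mul, f.p_cube,
    one_pow, one_mul]

theorem norm_eq_self {s : K} {v : V} (hv : v ∈ f.fix s) : f.norm s v = v := by
  rw [f.mem_fix] at hv
  rw [f.norm_apply, hv, hv, add_self, zero_add]

theorem norm_eq_zero {s : K} {v : V} (h : f.ρ s v = f.ρ f.p v ∨ f.ρ s v = f.ρ f.p (f.ρ f.p v)) :
    f.norm s v = 0 := by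
  rw [f.norm_apply]
  rcases h with h | h
  · rw [h, f.p_comm s, h]
    exact f.p_sum v
  · rw [h, f.p_comm s, f.p_comm s, h, f.p_apply_three, add_assoc, add_comm (f.ρ f.p (f.ρ f.p v)),
      ← add_assoc]
    exact f.p_sum v

theorem piece_apply (y : K) (j : ℕ) (v : V) : f.ρ (f.piece y j) v = f.ρ y (f.ρ (f.p ^ j) v) :=
  f.mul_apply _ _ _

theorem piece_one_apply (y : K) (v : V) : f.ρ (f.piece y 1) v = f.ρ y (f.ρ f.p v) := by
  rw [f.piece_apply, pow_one]

theorem piece_two_apply (y : K) (v : V) : f.ρ (f.piece y 2) v = f.ρ y (f.ρ f.p (f.ρ f.p v)) := by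
  rw [f.piece_apply, pow_two, f.mul_apply]

theorem piece_zero_apply (y : K) (v : V) : f.ρ (f.piece y 0) v = f.ρ y v := by
  rw [f.piece_apply, pow_zero, f.one_apply]

theorem apply_of_mem_piece_zero {y : K} {v : V} (hv : v ∈ f.fix (f.piece y 0)) : f.ρ y v = v := by
  rwa [f.mem_fix, f.piece_zero_apply] at hv

theorem apply_of_mem_piece_one {y : K} {v : V} (hv : v ∈ f.fix (f.piece y 1)) :
    f.ρ y v = f.ρ f.p (f.ρ f.p v) := by
  rw [f.mem_fix, f.piece_one_apply, f.p_comm] at hv
  calc f.ρ y v = f.ρ f.p (f.ρ f.p (f.ρ f.p (f.ρ y v))) := (f.p_apply_three _).symm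
    _ = _ := by rw [hv]

theorem apply_of_mem_piece_two {y : K} {v : V} (hv : v ∈ f.fix (f.piece y 2)) :
    f.ρ y v = f.ρ f.p v := by
  rw [f.mem_fix, f.piece_two_apply, f.p_comm, f.p_comm] at hv
  calc f.ρ y v = f.ρ f.p (f.ρ f.p (f.ρ f.p (f.ρ y v))) := (f.p_apply_three _).symm
    _ = _ := by rw [hv]

/-- An invariant submodule is the sum of its three pieces. -/
theorem finrank_pieces [FiniteDimensional (ZMod 2) V] {y : K} (hy : y ^ 3 = 1)
    {U : Submodule (ZMod 2) V} (hyU : f.Inv y U) (hpU : f.Inv f.p U) :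
    finrank (ZMod 2) U = finrank (ZMod 2) ↥(U ⊓ f.fix (f.piece y 0)) +
      finrank (ZMod 2) ↥(U ⊓ f.fix (f.piece y 1)) + finrank (ZMod 2) ↥(U ⊓ f.fix (f.piece y 2)) := by
  have hmem : ∀ j, ∀ u ∈ U, f.norm (f.piece y j) u ∈ U ⊓ f.fix (f.piece y j) := fun j u hu => by
    have h : f.Inv (f.piece y j) U := fun w hw => by
      rw [f.piece_apply]; exact hyU _ (f.inv_pow hpU j _ hw)
    refine ⟨?_, f.norm_mem_fix (f.piece_cube hy j) u⟩
    rw [f.norm_apply]
    exact U.add_mem (U.add_mem hu (h _ hu)) (h _ (h _ hu))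
  let e : U ≃ₗ[ZMod 2] (↥(U ⊓ f.fix (f.piece y 0)) × ↥(U ⊓ f.fix (f.piece y 1))) ×
      ↥(U ⊓ f.fix (f.piece y 2)) :=
    { toFun := fun u => ((⟨_, hmem 0 u u.2⟩, ⟨_, hmem 1 u u.2⟩), ⟨_, hmem 2 u u.2⟩)
      invFun := fun w => ⟨(w.1.1 : V) + w.1.2 + w.2,
        U.add_mem (U.add_mem w.1.1.2.1 w.1.2.2.1) w.2.2.1⟩
      map_add' := fun a b => by
        refine Prod.ext (Prod.ext (Subtype.ext ?_) (Subtype.ext ?_)) (Subtype.ext ?_) <;> simp
      map_smul' := fun c a => by
        refine Prod.ext (Prod.ext (Subtype.ext ?_) (Subtype.ext ?_)) (Subtype.ext ?_) <;> simp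
      left_inv := fun u => Subtype.ext (by
        show f.norm (f.piece y 0) u + f.norm (f.piece y 1) u + f.norm (f.piece y 2) u = u
        obtain ⟨u, hu⟩ := u
        simp only [f.norm_apply, f.piece_zero_apply, f.piece_one_apply, f.piece_two_apply,
          f.p_comm y, f.p_apply_three]
        set a := f.ρ y u
        set b := f.ρ y a
        have h1 := f.p_sum a
        have h2 := f.p_sum b
        have e1 : f.ρ f.p a + f.ρ f.p (f.ρ f.p a) = a := f.p_sum' a
        have e2 : f.ρ f.p b + f.ρ f.p (f.ρ f.p b) = b := f.p_sum' b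
        calc _ = (u + u) + u + (a + (f.ρ f.p a + f.ρ f.p (f.ρ f.p a))) +
              (b + (f.ρ f.p b + f.ρ f.p (f.ρ f.p b))) := by abel
          _ = u := by rw [e1, e2, add_self, add_self, add_self, zero_add, add_zero, add_zero])
      right_inv := fun w => by
        obtain ⟨⟨⟨a, -, ha⟩, ⟨b, -, hb⟩⟩, ⟨c, -, hc⟩⟩ := w
        have a1 := f.apply_of_mem_piece_zero ha
        have b1 := f.apply_of_mem_piece_one hb
        have c1 := f.apply_of_mem_piece_two hc
        refine Prod.ext (Prod.ext (Subtype.ext ?_) (Subtype.ext ?_)) (Subtype.ext ?_) <;>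
          show f.norm _ (a + b + c) = _ <;> rw [map_add, map_add]
        · rw [f.norm_eq_self ha, f.norm_eq_zero (s := f.piece y 0) (v := b)
            (Or.inr (by rw [f.piece_zero_apply, b1])),
            f.norm_eq_zero (s := f.piece y 0) (v := c) (Or.inl (by rw [f.piece_zero_apply, c1])),
            add_zero, add_zero]
        · rw [f.norm_eq_self hb, f.norm_eq_zero (s := f.piece y 1) (v := a)
            (Or.inl (by rw [f.piece_one_apply, f.p_comm, a1])),
            f.norm_eq_zero (s := f.piece y 1) (v := c)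
            (Or.inr (by rw [f.piece_one_apply, f.p_comm, c1])),
            zero_add, add_zero]
        · rw [f.norm_eq_self hc, f.norm_eq_zero (s := f.piece y 2) (v := a)
            (Or.inr (by rw [f.piece_two_apply, f.p_comm, f.p_comm, a1])),
            f.norm_eq_zero (s := f.piece y 2) (v := b)
            (Or.inl (by rw [f.piece_two_apply, f.p_comm, f.p_comm, b1, f.p_apply_three])),
            zero_add, zero_add] }
  rw [e.finrank_eq, finrank_prod, finrank_prod]

theorem piece_three (y : K) : f.piece y 3 = f.piece y 0 := by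
  rw [piece, piece, f.p_cube, pow_zero]

/-- `x` shifts the pieces. -/
theorem finrank_piece_shift [Finite K] [FiniteDimensional (ZMod 2) V] {x y : K}
    (hx : x * y * x⁻¹ = y * f.p) {U : Submodule (ZMod 2) V} (hxU : f.Inv x U) (j : ℕ) :
    finrank (ZMod 2) ↥(U ⊓ f.fix (f.piece y (j + 1))) =
      finrank (ZMod 2) ↥(U ⊓ f.fix (f.piece y j)) := by
  have hc : x * f.piece y j = f.piece y (j + 1) * x := by
    have h1 : x * y = y * f.p * x := by rw [← hx]; group
    have h2 : x * f.p ^ j = f.p ^ j * x := Commute.pow_right (f.cen x) j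
    rw [piece, piece, ← mul_assoc, h1, mul_assoc (y * f.p), h2, ← mul_assoc, mul_assoc y, ← pow_succ']
  refine LinearEquiv.finrank_eq
    { toFun := fun u => ⟨f.ρ x⁻¹ u, f.inv_inv hxU _ u.2.1, f.mem_fix.2 ?_⟩
      invFun := fun u => ⟨f.ρ x u, hxU _ u.2.1, f.mem_fix.2 ?_⟩
      map_add' := fun a b => Subtype.ext (map_add _ _ _)
      map_smul' := fun c a => Subtype.ext (map_smul _ _ _)
      left_inv := fun u => Subtype.ext (f.cancel_inv x u)
      right_inv := fun u => Subtype.ext (f.inv_cancel x u) }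
  · have h1 : f.piece y j * x⁻¹ = x⁻¹ * f.piece y (j + 1) := by
      calc f.piece y j * x⁻¹ = x⁻¹ * (x * f.piece y j) * x⁻¹ := by group
        _ = x⁻¹ * f.piece y (j + 1) := by rw [hc]; group
    rw [← f.mul_apply, h1, f.mul_apply, f.mem_fix.1 u.2.2]
  · rw [← f.mul_apply, ← hc, f.mul_apply, f.mem_fix.1 u.2.2]

/-- A submodule invariant under `3 ^ (1 + 2)` has dimension divisible by six. -/
theorem six_dvd [Finite K] [FiniteDimensional (ZMod 2) V] {x y : K} (hy : y ^ 3 = 1)
    (hx : x * y * x⁻¹ = y * f.p) {U : Submodule (ZMod 2) V} (hxU : f.Inv x U) (hyU : f.Inv y U)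
    (hpU : f.Inv f.p U) : 6 ∣ finrank (ZMod 2) U := by
  obtain ⟨m, hm⟩ := f.even_finrank (f.inv_inf hpU (f.inv_p_fix (f.piece y 0)))
  have h1 := f.finrank_piece_shift hx hxU 0
  have h2 := f.finrank_piece_shift hx hxU 1
  have h3 := f.finrank_pieces hy hyU hpU
  simp only [Nat.zero_add, Nat.reduceAdd] at h1 h2
  exact ⟨m, by omega⟩

theorem finrank_piece [Finite K] [FiniteDimensional (ZMod 2) V] {x y : K} (hy : y ^ 3 = 1)
    (hx : x * y * x⁻¹ = y * f.p) (h12 : finrank (ZMod 2) V = 12) :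
    finrank (ZMod 2) (f.fix (f.piece y 0)) = 4 ∧ finrank (ZMod 2) (f.fix (f.piece y 1)) = 4 ∧
      finrank (ZMod 2) (f.fix (f.piece y 2)) = 4 := by
  have hI : ∀ k, f.Inv k ⊤ := fun k u _ => Submodule.mem_top
  have h1 := f.finrank_piece_shift hx (hI x) 0
  have h2 := f.finrank_piece_shift hx (hI x) 1
  have h3 := f.finrank_pieces hy (hI y) (hI f.p)
  rw [top_inf_eq, top_inf_eq] at h1 h2
  rw [top_inf_eq, top_inf_eq, top_inf_eq, finrank_top, h12] at h3
  simp only [Nat.zero_add, Nat.reduceAdd] at h1 h2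
  omega

end Form

end Cfsg.Agent.H98.JFour
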