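import Cfsg.Agent.H43.J4.Struct
import Cfsg.Agent.H98.JFour.Module
import Mathlib.LinearAlgebra.FreeModule.ModN

/-!
`E ⧸ ⟨z⟩` as a symplectic `ZMod 2`-module for `C = C_H(P)`.
-/

set_option autoImplicit false
set_option linter.style.haveILetI false

namespace Cfsg.Agent.H98.JFour

open Module H43.JFour Subgroup

universe u v

variable {G : Type u} [Group G] {A : Type v} [Group A]

/-- The module `E ⧸ ⟨z⟩`, as the largest quotient of `E` of exponent two. -/
abbrev Sp (c : Ctx G A) : Type u := ModN (Additive (Abelianization c.E)) 2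

open Classical in
/-- The image in the module of an element of `E`. -/
noncomputable def vec (c : Ctx G A) (a : G) : Sp c :=
  if h : a ∈ c.E then ModN.mkQ 2 (Additive.ofMul (Abelianization.of ⟨a, h⟩)) else 0

theorem vec_mul (c : Ctx G A) {a b : G} (ha : a ∈ c.E) (hb : b ∈ c.E) :
    vec c (a * b) = vec c a + vec c b := by
  simp only [vec, dif_pos ha, dif_pos hb, dif_pos (mul_mem ha hb)]
  rw [show (⟨a * b, mul_mem ha hb⟩ : c.E) = ⟨a, ha⟩ * ⟨b, hb⟩ from rfl, map_mul, ofMul_mul, map_add]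

theorem vec_one (c : Ctx G A) : vec c 1 = 0 := by
  simp only [vec, dif_pos (one_mem c.E)]
  rw [show (⟨1, one_mem c.E⟩ : c.E) = 1 from rfl, map_one, ofMul_one, map_zero]

theorem vec_surj (c : Ctx G A) (v : Sp c) : ∃ a ∈ c.E, vec c a = v := by
  obtain ⟨q, rfl⟩ := Submodule.mkQ_surjective _ v
  obtain ⟨a, ha⟩ := QuotientGroup.mk_surjective (Additive.toMul q)
  refine ⟨a, a.2, ?_⟩
  simp only [vec, dif_pos a.2]
  show ModN.mkQ 2 (Additive.ofMul (Abelianization.of a)) = _
  rw [show Abelianization.of a = Additive.toMul q from ha]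
  rfl

theorem add_self_sp (c : Ctx G A) (v : Sp c) : v + v = 0 := by
  rw [← two_smul (ZMod 2) v, show (2 : ZMod 2) = 0 from rfl, zero_smul]

variable {c : Ctx G A}

theorem vec_z (hc : c.Ok) : vec c c.z = 0 := by
  haveI := hc.finite
  obtain ⟨a, ha, b, hb, hab⟩ : ∃ a ∈ c.E, ∃ b ∈ c.E, a * b ≠ b * a := by
    by_contra hall
    push Not at hall
    have h := hc.cardE
    have htop : center c.E = ⊤ := eq_top_iff.2 fun x _ =>
      mem_center_iff.2 fun y => Subtype.ext (hall y y.2 x x.2)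
    have h2 := hc.extra.2
    rw [htop, card_top, h] at h2
    omega
  have hz : c.z = a * b * a⁻¹ * b⁻¹ := ((hc.comm_mem ha hb).resolve_left fun e => hab (by
    calc a * b = a * b * a⁻¹ * b⁻¹ * (b * a) := by group
      _ = b * a := by rw [e, one_mul])).symm
  simp only [vec, dif_pos hc.z_mem]
  have h1 : Abelianization.of (⟨c.z, hc.z_mem⟩ : c.E) = 1 := by
    rw [show (⟨c.z, hc.z_mem⟩ : c.E) = (⟨a, ha⟩ : c.E) * ⟨b, hb⟩ * ⟨a, ha⟩⁻¹ * ⟨b, hb⟩⁻¹ from
      Subtype.ext hz, map_mul, map_mul, map_mul, map_inv, map_inv, mul_inv_cancel_comm, mul_inv_cancel]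
  rw [h1, ofMul_one, map_zero]

theorem vec_eq_zero (hc : c.Ok) {a : G} (ha : a ∈ c.E) : vec c a = 0 ↔ a = 1 ∨ a = c.z := by
  refine ⟨fun h => ?_, ?_⟩
  · haveI := hc.finite
    simp only [vec, dif_pos ha] at h
    obtain ⟨q, hq⟩ := (Submodule.Quotient.mk_eq_zero _).1 h
    obtain ⟨y, hy⟩ := QuotientGroup.mk_surjective (Additive.toMul q)
    have hcl : _root_.commutator c.E ≤ center c.E := by
      rw [_root_.commutator_def, commutator_le]
      intro u _ v _
      exact H46.es_comm_mem hc.extra u v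
    have h2 : ((y ^ 2)⁻¹ * (⟨a, ha⟩ : c.E)) ∈ center c.E := by
      refine hcl ?_
      rw [← Abelianization.ker_of, MonoidHom.mem_ker, map_mul, map_inv, map_pow, inv_mul_eq_one]
      have hy' : Abelianization.of y = Additive.toMul q := hy
      rw [hy']
      have hq' := congrArg Additive.toMul hq
      simpa using hq'
    have h3 : (⟨a, ha⟩ : c.E) ∈ center c.E := by
      have := mul_mem (H46.es_sq_mem hc.extra y) h2
      rwa [mul_inv_cancel_left] at this
    exact hc.center_eq h3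
  · rintro (rfl | rfl)
    exacts [vec_one c, vec_z hc]

theorem vec_eq_iff (hc : c.Ok) {a b : G} (ha : a ∈ c.E) (hb : b ∈ c.E) :
    vec c a = vec c b ↔ a = b ∨ a = c.z * b := by
  have hi : b⁻¹ ∈ c.E := inv_mem hb
  have h1 : vec c (a * b⁻¹) = vec c a + vec c b := by
    rw [vec_mul c ha hi]
    congr 1
    have := vec_mul c hb hi
    rw [mul_inv_cancel, vec_one, eq_comm, add_eq_zero_iff_eq_neg] at this
    rw [this]
    exact (neg_eq_of_add_eq_zero_left (add_self_sp c _)).symm
  have h2 : vec c a = vec c b ↔ vec c (a * b⁻¹) = 0 := by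
    rw [h1]
    exact ⟨fun e => e ▸ add_self_sp c _, fun e => by
      rw [← add_zero (vec c a), ← add_self_sp c (vec c b), ← add_assoc, e, zero_add]⟩
  rw [h2, vec_eq_zero hc (mul_mem ha hi), mul_inv_eq_one, mul_inv_eq_iff_eq_mul]

theorem finite_sp (hc : c.Ok) : Finite (Sp c) := by
  haveI := hc.finite
  refine Finite.of_surjective (fun a : c.E => vec c a) fun v => ?_
  obtain ⟨a, ha, e⟩ := vec_surj c v
  exact ⟨⟨a, ha⟩, e⟩

theorem card_sp (hc : c.Ok) : Nat.card (Sp c) = 2 ^ 12 := by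
  haveI := hc.finite
  let φ : c.E →* Multiplicative (Sp c) :=
    { toFun := fun a => Multiplicative.ofAdd (vec c a)
      map_one' := by rw [OneMemClass.coe_one, vec_one]; rfl
      map_mul' := fun a b => by rw [Subgroup.coe_mul, vec_mul c a.2 b.2]; rfl }
  have hs : Function.Surjective φ := fun v => by
    obtain ⟨a, ha, e⟩ := vec_surj c v.toAdd
    exact ⟨⟨a, ha⟩, congrArg Multiplicative.ofAdd e⟩
  have hk : φ.ker = center c.E := by
    ext a
    rw [MonoidHom.mem_ker]
    show Multiplicative.ofAdd (vec c a) = 1 ↔ _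
    rw [ofAdd_eq_one, vec_eq_zero hc a.2]
    refine ⟨fun h => ?_, fun h => hc.center_eq h⟩
    rcases h with h | h
    · rw [show a = 1 from Subtype.ext h]; exact one_mem _
    · exact mem_center_iff.2 fun b => Subtype.ext (by
        rw [Subgroup.coe_mul, Subgroup.coe_mul, h]; exact (hc.z_comm b.2).symm)
  have h := Subgroup.card_eq_card_quotient_mul_card_subgroup φ.ker
  rw [Nat.card_congr (QuotientGroup.quotientKerEquivOfSurjective φ hs).toEquiv, hk, hc.cardE,
    hc.extra.2] at h
  have e : Nat.card (Multiplicative (Sp c)) = Nat.card (Sp c) := rfl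
  omega

theorem finrank_sp (hc : c.Ok) : finrank (ZMod 2) (Sp c) = 12 := by
  haveI := finite_sp hc
  have h := Module.natCard_eq_pow_finrank (K := ZMod 2) (V := Sp c)
  rw [card_sp hc, Nat.card_zmod] at h
  exact (Nat.pow_right_injective le_rfl h).symm

/-- A chosen element of `E` over a vector. -/
noncomputable def sec (c : Ctx G A) (v : Sp c) : G := (vec_surj c v).choose

theorem sec_mem (v : Sp c) : sec c v ∈ c.E := (vec_surj c v).choose_spec.1

theorem vec_sec (v : Sp c) : vec c (sec c v) = v := (vec_surj c v).choose_spec.2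

open Classical in
/-- The commutator bit of two elements. -/
noncomputable def bit (a b : G) : ZMod 2 := if a * b = b * a then 0 else 1

theorem bit_z_mul (hc : c.Ok) {a b : G} (hb : b ∈ c.E) : bit (c.z * a) b = bit a b := by
  have hz := hc.z_comm hb
  have : c.z * a * b = b * (c.z * a) ↔ a * b = b * a := by
    rw [mul_assoc, ← mul_assoc b, ← hz, mul_assoc, mul_right_inj]
  classical
  simp only [bit]
  exact if_congr this rfl rfl

theorem bit_comm (a b : G) : bit a b = bit b a := by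
  classical
  simp only [bit]
  exact if_congr eq_comm rfl rfl

theorem bit_congr (hc : c.Ok) {a a' b b' : G} (ha' : a' ∈ c.E) (hb' : b' ∈ c.E) (ha : a ∈ c.E)
    (hb : b ∈ c.E) (h1 : vec c a = vec c a') (h2 : vec c b = vec c b') : bit a b = bit a' b' := by
  have e1 : bit a b = bit a' b := by
    rcases (vec_eq_iff hc ha ha').1 h1 with rfl | rfl
    exacts [rfl, bit_z_mul hc hb]
  rw [e1]
  rcases (vec_eq_iff hc hb hb').1 h2 with rfl | rfl
  · rfl
  · rw [bit_comm, bit_z_mul hc ha', bit_comm]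

theorem bit_mul (hc : c.Ok) {a b d : G} (ha : a ∈ c.E) (hb : b ∈ c.E) (hd : d ∈ c.E) :
    bit (a * b) d = bit a d + bit b d := by
  have hz : ∀ e ∈ c.E, c.z * e = e * c.z := fun e he => hc.z_comm he
  have hne : ∀ e : G, c.z * e ≠ e := fun e h => hc.z_ne (mul_eq_right.1 h)
  have key : ∀ {p q : G}, p ∈ c.E → q ∈ c.E → bit p q = 1 → p * q = c.z * (q * p) := fun hp hq h =>
    (hc.swap hp hq).resolve_left fun e => by simp [bit, e] at h
  have key0 : ∀ {p q : G}, bit p q = 0 → p * q = q * p := fun {p q} h => by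
    by_contra e
    simp [bit, e] at h
  have of_one : ∀ {p q : G}, p * q = c.z * (q * p) → bit p q = 1 := fun {p q} e => by
    have : p * q ≠ q * p := by rw [e]; exact hne _
    simp [bit, this]
  have of_zero : ∀ {p q : G}, p * q = q * p → bit p q = 0 := fun e => by simp [bit, e]
  have hdz := hz d hd
  have haz := hz a ha
  have h01 : ∀ x : ZMod 2, x = 0 ∨ x = 1 := by decide
  rcases h01 (bit a d) with e1 | e1 <;> rcases h01 (bit b d) with e2 | e2 <;> rw [e1, e2]
  · rw [add_zero]
    apply of_zero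
    rw [mul_assoc, key0 e2, ← mul_assoc, key0 e1, mul_assoc]
  · rw [zero_add]
    apply of_one
    rw [mul_assoc, key hb hd e2, ← mul_assoc a, ← haz, mul_assoc, ← mul_assoc a, key0 e1, mul_assoc]
  · rw [add_zero]
    apply of_one
    rw [mul_assoc, key0 e2, ← mul_assoc a, key ha hd e1]
    group
  · rw [show (1 : ZMod 2) + 1 = 0 from rfl]
    apply of_zero
    rw [mul_assoc, key hb hd e2, ← mul_assoc a, ← haz, mul_assoc, ← mul_assoc a, key ha hd e1,
      ← mul_assoc c.z, ← mul_assoc c.z, hc.z_sq, one_mul, mul_assoc]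

theorem conj_vec_congr (hc : c.Ok) {n a b : G} (hn : n ∈ c.H) (ha : a ∈ c.E) (hb : b ∈ c.E)
    (h : vec c a = vec c b) : vec c (n * a * n⁻¹) = vec c (n * b * n⁻¹) := by
  rw [vec_eq_iff hc (hc.conjE hn ha) (hc.conjE hn hb)]
  rcases (vec_eq_iff hc ha hb).1 h with rfl | rfl
  · exact Or.inl rfl
  · refine Or.inr ?_
    rw [← mul_assoc n, ← c.mem_H.1 hn, mul_assoc c.z n, mul_assoc c.z]

/-- The action of an element of `H`. -/
noncomputable def act (hc : c.Ok) (n : G) (hn : n ∈ c.H) : Sp c →ₗ[ZMod 2] Sp c :=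
  (AddMonoidHom.mk' (fun v => vec c (n * sec c v * n⁻¹)) fun u v => by
    rw [← vec_mul c (hc.conjE hn (sec_mem u)) (hc.conjE hn (sec_mem v))]
    rw [show n * sec c u * n⁻¹ * (n * sec c v * n⁻¹) = n * (sec c u * sec c v) * n⁻¹ by group]
    refine conj_vec_congr hc hn (sec_mem _) (mul_mem (sec_mem u) (sec_mem v)) ?_
    rw [vec_mul c (sec_mem u) (sec_mem v), vec_sec, vec_sec, vec_sec]).toZModLinearMap 2

theorem act_vec (hc : c.Ok) {n a : G} (hn : n ∈ c.H) (ha : a ∈ c.E) :
    act hc n hn (vec c a) = vec c (n * a * n⁻¹) :=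
  conj_vec_congr hc hn (sec_mem _) ha (vec_sec _)

/-- The commutator form as an additive map. -/
noncomputable def formHom (hc : c.Ok) : Sp c →+ Sp c →+ ZMod 2 :=
  AddMonoidHom.mk' (fun u => AddMonoidHom.mk' (fun v => bit (sec c u) (sec c v)) fun v w => by
    rw [bit_comm (sec c u) (sec c v), bit_comm (sec c u) (sec c w), ← bit_mul hc (sec_mem v) (sec_mem w)
      (sec_mem u), bit_comm _ (sec c u)]
    exact bit_congr hc (sec_mem u) (mul_mem (sec_mem v) (sec_mem w)) (sec_mem _) (sec_mem _) rfl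
      (by rw [vec_sec, vec_mul c (sec_mem v) (sec_mem w), vec_sec, vec_sec])) fun u u' => by
    refine AddMonoidHom.ext fun v => ?_
    show bit (sec c (u + u')) (sec c v) = bit (sec c u) (sec c v) + bit (sec c u') (sec c v)
    rw [← bit_mul hc (sec_mem u) (sec_mem u') (sec_mem v)]
    exact bit_congr hc (mul_mem (sec_mem u) (sec_mem u')) (sec_mem v) (sec_mem _) (sec_mem _)
      (by rw [vec_sec, vec_mul c (sec_mem u) (sec_mem u'), vec_sec, vec_sec]) rfl

/-- The commutator form. -/
noncomputable def form (hc : c.Ok) : LinearMap.BilinForm (ZMod 2) (Sp c) :=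
  (AddMonoidHom.mk' (fun u => (formHom hc u).toZModLinearMap 2) fun u v => by
    refine LinearMap.ext fun w => ?_
    show formHom hc (u + v) w = formHom hc u w + formHom hc v w
    rw [map_add]; rfl).toZModLinearMap 2

theorem form_vec (hc : c.Ok) {a b : G} (ha : a ∈ c.E) (hb : b ∈ c.E) :
    form hc (vec c a) (vec c b) = bit a b :=
  bit_congr hc ha hb (sec_mem _) (sec_mem _) (vec_sec _) (vec_sec _)

theorem form_eq_zero_iff (hc : c.Ok) {a b : G} (ha : a ∈ c.E) (hb : b ∈ c.E) :
    form hc (vec c a) (vec c b) = 0 ↔ a * b = b * a := by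
  rw [form_vec hc ha hb]
  by_cases h : a * b = b * a <;> simp [bit, h]

/-- Elements of `C` lie in `H`. -/
theorem coe_mem_H (n : c.C) : (n : G) ∈ c.H := (mem_inf.1 n.2).1

/-- The representation of `C`. -/
noncomputable def rep (hc : c.Ok) : Representation (ZMod 2) c.C (Sp c) where
  toFun n := act hc (n : G) (coe_mem_H n)
  map_one' := LinearMap.ext fun v => by
    obtain ⟨a, ha, rfl⟩ := vec_surj c v
    refine (act_vec hc _ ha).trans ?_
    simp
  map_mul' n m := LinearMap.ext fun v => by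
    obtain ⟨a, ha, rfl⟩ := vec_surj c v
    refine (act_vec hc _ ha).trans (Eq.symm ?_)
    show act hc (n : G) (coe_mem_H n) (act hc (m : G) (coe_mem_H m) (vec c a)) = _
    rw [act_vec hc _ ha]
    refine (act_vec hc _ (hc.conjE (coe_mem_H m) ha)).trans ?_
    simp [mul_assoc]

theorem rep_vec (hc : c.Ok) (n : c.C) {a : G} (ha : a ∈ c.E) :
    rep hc n (vec c a) = vec c ((n : G) * a * (n : G)⁻¹) :=
  act_vec hc (coe_mem_H n) ha

variable [Finite G]

/-- A generator of `P`. -/
theorem Ok.exists_gen (hc : c.Ok) : ∃ p ∈ c.P, p ≠ 1 :=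
  (Subgroup.bot_or_exists_ne_one c.P).resolve_left fun h => by
    have := hc.cardP; rw [h, Subgroup.card_bot] at this; omega

/-- The symplectic module of `C`. -/
noncomputable def spForm (hc : c.Ok) : Form c.C (Sp c) where
  ρ := rep hc
  β := form hc
  alt v := by
    obtain ⟨a, ha, rfl⟩ := vec_surj c v
    exact (form_eq_zero_iff hc ha ha).2 rfl
  nd := by
    have hsym : ∀ u v, form hc u v = form hc v u := fun u v => by
      obtain ⟨a, ha, rfl⟩ := vec_surj c u
      obtain ⟨b, hb, rfl⟩ := vec_surj c v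
      rw [form_vec hc ha hb, form_vec hc hb ha, bit_comm]
    refine ⟨fun u h => ?_, fun u h => ?_⟩ <;>
      obtain ⟨a, ha, rfl⟩ := vec_surj c u <;>
      refine (vec_eq_zero hc ha).2 (hc.mem_of_center ha fun b hb => ?_) <;>
      rw [← form_eq_zero_iff hc ha hb]
    · exact h _
    · rw [hsym]; exact h _
  inv n u v := by
    obtain ⟨a, ha, rfl⟩ := vec_surj c u
    obtain ⟨b, hb, rfl⟩ := vec_surj c v
    have hH := (mem_inf.1 n.2).1
    rw [rep_vec hc n ha, rep_vec hc n hb, form_vec hc ha hb, form_vec hc (hc.conjE hH ha) (hc.conjE hH hb)]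
    classical
    simp only [bit]
    refine if_congr ?_ rfl rfl
    rw [show (n : G) * a * (n : G)⁻¹ * ((n : G) * b * (n : G)⁻¹) = (n : G) * (a * b) * (n : G)⁻¹ by group,
      show (n : G) * b * (n : G)⁻¹ * ((n : G) * a * (n : G)⁻¹) = (n : G) * (b * a) * (n : G)⁻¹ by group,
      mul_left_inj, mul_right_inj]
  p := ⟨(Ok.exists_gen hc).choose, hc.P_le_C (Ok.exists_gen hc).choose_spec.1⟩
  p_cube := Subtype.ext (orderOf_dvd_iff_pow_eq_one.1
    (hc.cardP ▸ orderOf_dvd_natCard c.P (Ok.exists_gen hc).choose_spec.1))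
  cen k := Subtype.ext (mem_centralizer_iff.1 (mem_inf.1 k.2).2 _ (Ok.exists_gen hc).choose_spec.1).symm
  fpf v h := by
    haveI : Fact (Nat.Prime 3) := ⟨Nat.prime_three⟩
    obtain ⟨hpP, hp1⟩ := (Ok.exists_gen hc).choose_spec
    set p := (Ok.exists_gen hc).choose
    obtain ⟨a, ha, rfl⟩ := vec_surj c v
    rw [rep_vec hc _ ha] at h
    refine (vec_eq_zero hc ha).2 (hc.mem_zp.1 (hc.fixP a ha ?_))
    have hcomm : p * a = a * p := by
      rcases (vec_eq_iff hc (hc.conjE (hc.P_le hpP) ha) ha).1 h with e | e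
      · calc p * a = p * a * p⁻¹ * p := by group
          _ = a * p := by rw [e]
      · exfalso
        have h3 : p * p * p = 1 := by
          rw [← pow_three']; exact orderOf_dvd_iff_pow_eq_one.1 (hc.cardP ▸ orderOf_dvd_natCard c.P hpP)
        have e1 : p * a * p⁻¹ = c.z * a := e
        have hzp : c.z * p = p * c.z := c.mem_H.1 (hc.P_le hpP)
        have e2 : p * p * a * (p * p)⁻¹ = a := by
          calc p * p * a * (p * p)⁻¹ = p * (p * a * p⁻¹) * p⁻¹ := by group
            _ = c.z * (p * a * p⁻¹) := by rw [e1, ← mul_assoc p, ← hzp, ← e1]; group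
            _ = a := by rw [e1, ← mul_assoc, hc.z_sq, one_mul]
        have e3 : p * p * p * a * (p * p * p)⁻¹ = c.z * a := by
          calc p * p * p * a * (p * p * p)⁻¹ = p * (p * p * a * (p * p)⁻¹) * p⁻¹ := by group
            _ = c.z * a := by rw [e2, e1]
        rw [h3, inv_one, mul_one, one_mul] at e3
        exact hc.z_ne (mul_eq_right.1 e3.symm)
    intro q hq
    rw [← PGroups.zpowers_eq_of_card_eq hc.cardP hpP hp1, mem_zpowers_iff] at hq
    obtain ⟨k, rfl⟩ := hq
    exact ((show Commute p a from hcomm).zpow_left k).eq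

theorem spForm_ρ (hc : c.Ok) (n : c.C) {a : G} (ha : a ∈ c.E) :
    (spForm hc).ρ n (vec c a) = vec c ((n : G) * a * (n : G)⁻¹) :=
  rep_vec hc n ha

theorem spForm_p_mem (hc : c.Ok) : ((spForm hc).p : G) ∈ c.P ∧ ((spForm hc).p : G) ≠ 1 :=
  (Ok.exists_gen hc).choose_spec

theorem spForm_β (hc : c.Ok) {a b : G} (ha : a ∈ c.E) (hb : b ∈ c.E) :
    (spForm hc).β (vec c a) (vec c b) = 0 ↔ a * b = b * a :=
  form_eq_zero_iff hc ha hb

/-- An element of `H` acting trivially on the module lies in `E`. -/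
theorem mem_E_of_trivial (hc : c.Ok) {h : G} (hh : h ∈ c.H)
    (ht : ∀ a ∈ c.E, vec c (h * a * h⁻¹) = vec c a) : h ∈ c.E := by
  haveI : Fact (Nat.Prime 2) := ⟨Nat.prime_two⟩
  let α : MulAut c.E :=
    { toFun := fun a => ⟨h * a * h⁻¹, hc.conjE hh a.2⟩
      invFun := fun a => ⟨h⁻¹ * a * h, by simpa using hc.conjE (inv_mem hh) a.2⟩
      left_inv := fun a => Subtype.ext (by simp [mul_assoc])
      right_inv := fun a => Subtype.ext (by simp [mul_assoc])
      map_mul' := fun a b => Subtype.ext (by simp [mul_assoc]) }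
  obtain ⟨g, hg⟩ := PGroups.exists_conj_of_trivial_mod_center hc.extra α fun a => by
    have h1 := (vec_eq_iff hc (hc.conjE hh a.2) a.2).1 (ht a a.2)
    rw [mem_center_iff]
    intro b
    apply Subtype.ext
    show (b : G) * (h * a * h⁻¹ * (a : G)⁻¹) = h * a * h⁻¹ * (a : G)⁻¹ * b
    rcases h1 with e | e <;> rw [e]
    · simp
    · rw [mul_inv_cancel_right]; exact (hc.z_comm b.2).symm
  have hE : (g : G)⁻¹ * h ∈ c.E := hc.cent _ (mul_mem (inv_mem (hc.le_H g.2)) hh) fun a ha => by
    have e : (g : G) * a * (g : G)⁻¹ = h * a * h⁻¹ := by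
      simpa [α] using congrArg Subtype.val (DFunLike.congr_fun hg ⟨a, ha⟩)
    calc (g : G)⁻¹ * h * a = (g : G)⁻¹ * (h * a * h⁻¹) * h := by group
      _ = a * ((g : G)⁻¹ * h) := by rw [← e]; group
  simpa using mul_mem g.2 hE

/-- An element of `C` acting trivially on the module is `1` or `z`. -/
theorem eq_of_rep_eq_one (hc : c.Ok) {n : c.C} (h : (spForm hc).ρ n = 1) :
    (n : G) = 1 ∨ (n : G) = c.z := by
  refine hc.mem_zp.1 ?_
  rw [← hc.E_inf_C]
  refine mem_inf.2 ⟨mem_E_of_trivial hc (mem_inf.1 n.2).1 fun a ha => ?_, n.2⟩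
  rw [← spForm_ρ hc n ha, h]
  rfl

/-- The preimage in `E` of a subspace. -/
def pre (c : Ctx G A) (U : Submodule (ZMod 2) (Sp c)) : Subgroup G where
  carrier := {a | a ∈ c.E ∧ vec c a ∈ U}
  one_mem' := ⟨one_mem _, by rw [vec_one]; exact U.zero_mem⟩
  mul_mem' := fun {a b} ha hb => ⟨mul_mem ha.1 hb.1, by
    rw [vec_mul c ha.1 hb.1]; exact U.add_mem ha.2 hb.2⟩
  inv_mem' := fun {a} ha => by
    refine ⟨inv_mem ha.1, ?_⟩
    have h := vec_mul c ha.1 (inv_mem ha.1)
    rw [mul_inv_cancel, vec_one, eq_comm, add_eq_zero_iff_eq_neg'] at h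
    rw [h]; exact U.neg_mem ha.2

omit [Finite G] in
theorem mem_pre {U : Submodule (ZMod 2) (Sp c)} {a : G} : a ∈ pre c U ↔ a ∈ c.E ∧ vec c a ∈ U :=
  Iff.rfl

omit [Finite G] in
theorem z_mem_pre (hc : c.Ok) (U : Submodule (ZMod 2) (Sp c)) : c.z ∈ pre c U :=
  ⟨hc.z_mem, by rw [vec_z hc]; exact U.zero_mem⟩

omit [Finite G] in
theorem card_pre (hc : c.Ok) (U : Submodule (ZMod 2) (Sp c)) :
    Nat.card (pre c U) = 2 * 2 ^ finrank (ZMod 2) U := by
  haveI := hc.finite
  haveI := finite_sp hc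
  haveI : Finite (pre c U) := Finite.of_injective (fun a : pre c U => (⟨a, a.2.1⟩ : c.E))
    fun a b h => Subtype.ext (by exact congrArg (fun x : c.E => (x : G)) h)
  let φ : pre c U →* Multiplicative U :=
    { toFun := fun a => Multiplicative.ofAdd ⟨vec c a, a.2.2⟩
      map_one' := congrArg Multiplicative.ofAdd (Subtype.ext (vec_one c))
      map_mul' := fun a b => congrArg Multiplicative.ofAdd (Subtype.ext (vec_mul c a.2.1 b.2.1)) }
  have hs : Function.Surjective φ := fun v => by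
    obtain ⟨a, ha, e⟩ := vec_surj c (v.toAdd : Sp c)
    exact ⟨⟨a, ha, e ▸ v.toAdd.2⟩, congrArg Multiplicative.ofAdd (Subtype.ext e)⟩
  have hk : Nat.card φ.ker = 2 := by
    have : φ.ker = (zpowers c.z).subgroupOf (pre c U) := by
      ext a
      rw [MonoidHom.mem_ker, mem_subgroupOf, hc.mem_zp, ← vec_eq_zero hc a.2.1]
      exact ⟨fun h => congrArg (fun x : Multiplicative U => (x.toAdd : Sp c)) h,
        fun h => congrArg Multiplicative.ofAdd (Subtype.ext h)⟩
    rw [this, Nat.card_congr (subgroupOfEquivOfLe (zpowers_le.2 (z_mem_pre hc U))).toEquiv,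
      Nat.card_zpowers, hc.ord]
  have h := Subgroup.card_eq_card_quotient_mul_card_subgroup φ.ker
  rw [Nat.card_congr (QuotientGroup.quotientKerEquivOfSurjective φ hs).toEquiv, hk] at h
  have e : Nat.card (Multiplicative U) = Nat.card U := rfl
  rw [h, e, Module.natCard_eq_pow_finrank (K := ZMod 2) (V := U), Nat.card_zmod, mul_comm]

/-- The preimage of a totally singular subspace stable under an element acting freely is elementary. -/
theorem pre_orthogonal (hc : c.Ok) (U : Submodule (ZMod 2) (Sp c)) :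
    pre c ((spForm hc).β.orthogonal U) = c.E ⊓ centralizer (pre c U : Set G) := by
  ext a
  rw [mem_pre, mem_inf, mem_centralizer_iff]
  refine and_congr_right fun ha => ⟨fun h b hb => ?_, fun h u hu => ?_⟩
  · exact ((spForm_β hc hb.1 ha).1 (h _ hb.2))
  · obtain ⟨b, hb, rfl⟩ := vec_surj c u
    exact (spForm_β hc hb ha).2 (h b ⟨hb, hu⟩)

end Cfsg.Agent.H98.JFour
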