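import Cfsg.Agent.H98.JFour.Hexad
import Cfsg.Agent.H98.JFour.Space
import Cfsg.Agent.H43.J4.ThreeSylow

/-!
The subgroups `E₅`, `A₇` and `V = A₇ E₅` of order `2 ^ 11` attached to a hexad group.
-/

set_option autoImplicit false
set_option linter.style.haveILetI false

namespace Cfsg.Agent.H98.JFour

open Module H43.JFour Subgroup

universe u v

variable {G : Type u} [Group G] [Finite G] {A : Type v} [Group A]

/-- The standing hypotheses: a context, the facts on `A`, a hexad group, and the rank of the inner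
involutions on `E ⧸ ⟨z⟩`. -/
structure Pkg (c : Ctx G A) (M W : Subgroup A) : Prop where
  hc : c.Ok
  hd : AutData A M
  hW : HexData A M W
  rank8 : ∀ n : c.C, (n : G) * n = 1 ∨ (n : G) * n = c.z → orderOf (c.pr n) = 2 →
    finrank (ZMod 2) ((spForm hc).fix n) = 8

variable {c : Ctx G A} {M W : Subgroup A}

namespace Pkg

theorem finiteA (h : Pkg c M W) : Finite A := h.hd.finite

theorem sq_W (h : Pkg c M W) {α : A} (hα : α ∈ W) : α * α = 1 := by
  rw [← pow_two]; exact h.hW.elem.2 α hα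

theorem comm_W (h : Pkg c M W) {α β : A} (hα : α ∈ W) (hβ : β ∈ W) : α * β = β * α := by
  have := h.hW.elem.1
  exact congrArg Subtype.val (mul_comm' (⟨α, hα⟩ : W) ⟨β, hβ⟩)

theorem ker_mem (h : Pkg c M W) {n : G} (hn : n ∈ c.C) (h1 : c.pr n = 1) :
    ∃ p ∈ c.P, n = p ∨ n = c.z * p :=
  h.hc.Nh_ker (c.C_le_Nh hn) h1

theorem ker_central (h : Pkg c M W) {n m : G} (hn : n ∈ c.C) (h1 : c.pr n = 1) (hm : m ∈ c.C) :
    n * m = m * n := by
  obtain ⟨p, hp, rfl | rfl⟩ := h.ker_mem hn h1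
  · exact h.hc.P_central hp hm
  · rw [mul_assoc, h.hc.P_central hp hm, ← mul_assoc, c.mem_H.1 (mem_inf.1 hm).1, mul_assoc]

theorem ker_four (h : Pkg c M W) {n : G} (hn : n ∈ c.C) (h1 : c.pr n = 1) (h4 : n ^ 4 = 1) :
    n = 1 ∨ n = c.z := by
  obtain ⟨p, hp, hnp⟩ := h.ker_mem hn h1
  have h3 : p ^ 3 = 1 := orderOf_dvd_iff_pow_eq_one.1 (h.hc.cardP ▸ orderOf_dvd_natCard c.P hp)
  have hp1 : p = 1 := by
    have hz4 : (c.z * p) ^ 4 = p ^ 4 := by
      rw [(show Commute c.z p from c.mem_H.1 (h.hc.P_le hp)).mul_pow, pow_succ' c.z 3, pow_succ' c.z 2,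
        pow_two, h.hc.z_sq, mul_one, h.hc.z_sq, one_mul]
    have h5 : p ^ 4 = 1 := by
      rcases hnp with rfl | rfl
      · exact h4
      · rwa [hz4] at h4
    rw [pow_succ, h3, one_mul] at h5
    exact h5
  subst hp1
  rcases hnp with rfl | rfl
  exacts [Or.inl rfl, Or.inr (mul_one _)]

theorem pr_mul_C (h : Pkg c M W) {a b : G} (ha : a ∈ c.C) (hb : b ∈ c.C) :
    c.pr (a * b) = c.pr a * c.pr b :=
  h.hc.pr_mul a (mem_inf.1 ha).1 b (mem_inf.1 hb).1

theorem pr_inv_C (h : Pkg c M W) {a : G} (ha : a ∈ c.C) : c.pr a⁻¹ = (c.pr a)⁻¹ :=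
  h.hc.pr_inv (mem_inf.1 ha).1

/-- The elementary abelian lift of `W` in `C`. -/
def E5 (h : Pkg c M W) : Subgroup G where
  carrier := {n | n ∈ c.C ∧ c.pr n ∈ W ∧ n ^ 4 = 1}
  one_mem' := ⟨one_mem _, by rw [h.hc.pr_one]; exact one_mem _, one_pow 4⟩
  mul_mem' := by
    rintro a b ⟨ha, haW, ha4⟩ ⟨hb, hbW, hb4⟩
    refine ⟨mul_mem ha hb, by rw [h.pr_mul_C ha hb]; exact mul_mem haW hbW, ?_⟩
    have ha2 : c.pr (a * a) = 1 := by rw [h.pr_mul_C ha ha, h.sq_W haW]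
    have hb2 : c.pr (b * b) = 1 := by rw [h.pr_mul_C hb hb, h.sq_W hbW]
    set k := b * a * b⁻¹ * a⁻¹ with hkdef
    have hk : k ∈ c.C := mul_mem (mul_mem (mul_mem hb ha) (inv_mem hb)) (inv_mem ha)
    have hk1 : c.pr k = 1 := by
      rw [hkdef, h.pr_mul_C (mul_mem (mul_mem hb ha) (inv_mem hb)) (inv_mem ha),
        h.pr_mul_C (mul_mem hb ha) (inv_mem hb), h.pr_mul_C hb ha, h.pr_inv_C hb, h.pr_inv_C ha,
        h.comm_W hbW haW]
      group
    have hka := h.ker_central hk hk1 ha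
    have hkb := h.ker_central hk hk1 hb
    have hba : b * a = k * (a * b) := by rw [hkdef]; group
    -- `b` conjugates `a` to `k * a`, so `k` has order dividing four
    have hk4 : k ^ 4 = 1 := by
      have h1 : (k * a) ^ 4 = 1 := by
        rw [show k * a = b * a * b⁻¹ by rw [hkdef]; group, conj_pow, ha4]
        group
      rwa [(show Commute k a from hka).mul_pow, ha4, mul_one] at h1
    have hk2 : k * k = 1 := by
      rcases h.ker_four hk hk1 hk4 with e | e <;> rw [e]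
      exacts [one_mul _, h.hc.z_sq]
    have hsq : a * b * (a * b) = k * (a * a * (b * b)) := by
      calc a * b * (a * b) = a * (b * a) * b := by group
        _ = a * k * (a * b * b) := by rw [hba]; group
        _ = k * (a * a * (b * b)) := by rw [← hka]; group
    have hcen : ∀ q ∈ c.C, a * a * q = q * (a * a) := fun q hq => h.ker_central (mul_mem ha ha) ha2 hq
    have hcenb : ∀ q ∈ c.C, b * b * q = q * (b * b) := fun q hq => h.ker_central (mul_mem hb hb) hb2 hq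
    have hc2 : Commute (a * a) (b * b) := hcen _ (mul_mem hb hb)
    have hc1 : Commute k (a * a * (b * b)) :=
      h.ker_central hk hk1 (mul_mem (mul_mem ha ha) (mul_mem hb hb))
    rw [show (4 : ℕ) = 2 * 2 from rfl, pow_mul, pow_two (a * b), hsq, hc1.mul_pow, hc2.mul_pow,
      pow_two k, hk2, one_mul, ← pow_two a, ← pow_two b, ← pow_mul, ← pow_mul, show 2 * 2 = 4 from rfl,
      ha4, hb4, one_mul]
  inv_mem' := by
    rintro a ⟨ha, haW, ha4⟩
    exact ⟨inv_mem ha, by rw [h.pr_inv_C ha]; exact inv_mem haW, by rw [inv_pow, ha4, inv_one]⟩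

theorem mem_E5 (h : Pkg c M W) {n : G} : n ∈ h.E5 ↔ n ∈ c.C ∧ c.pr n ∈ W ∧ n ^ 4 = 1 := Iff.rfl

theorem E5_le (h : Pkg c M W) : h.E5 ≤ c.C := fun _ hn => hn.1

theorem z_mem_E5 (h : Pkg c M W) : c.z ∈ h.E5 :=
  ⟨h.hc.z_mem_C, by rw [h.hc.pr_E h.hc.z_mem]; exact one_mem _,
    by rw [pow_succ, pow_succ, pow_two, h.hc.z_sq, one_mul, h.hc.z_sq]⟩

theorem E5_surj (h : Pkg c M W) {α : A} (hα : α ∈ W) : ∃ w ∈ h.E5, c.pr w = α := by
  obtain ⟨n, hn, rfl⟩ := h.hc.C_surj h.hd (h.hW.le hα)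
  have h1 : c.pr (n * n) = 1 := by rw [h.pr_mul_C hn hn, h.sq_W hα]
  have hpr : c.pr (n * n * n) = c.pr n := by rw [h.pr_mul_C (mul_mem hn hn) hn, h1, one_mul]
  refine ⟨n * n * n, ⟨mul_mem (mul_mem hn hn) hn, hpr.symm ▸ hα, ?_⟩, hpr⟩
  obtain ⟨p, hp, e⟩ := h.ker_mem (mul_mem hn hn) h1
  have h3 : p ^ 3 = 1 := orderOf_dvd_iff_pow_eq_one.1 (h.hc.cardP ▸ orderOf_dvd_natCard c.P hp)
  have h6 : (n * n) ^ 6 = 1 := by
    rcases e with e | e <;> rw [e]
    · rw [show 6 = 3 * 2 from rfl, pow_mul, h3, one_pow]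
    · rw [(show Commute c.z p from c.mem_H.1 (h.hc.P_le hp)).mul_pow, show 6 = 3 * 2 from rfl,
        pow_mul p, h3, one_pow, mul_one, show 3 * 2 = 2 * 3 from rfl, pow_mul, pow_two,
        h.hc.z_sq, one_pow]
  rw [← pow_three' n, ← pow_mul]
  rw [← pow_two, ← pow_mul] at h6
  exact h6

theorem E5_ker (h : Pkg c M W) {w : G} (hw : w ∈ h.E5) (h1 : c.pr w = 1) : w = 1 ∨ w = c.z :=
  h.ker_four hw.1 h1 hw.2.2

theorem card_E5 (h : Pkg c M W) : Nat.card h.E5 = 32 := by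
  let φ : h.E5 →* W :=
    { toFun := fun w => ⟨c.pr w, w.2.2.1⟩
      map_one' := Subtype.ext h.hc.pr_one
      map_mul' := fun a b => Subtype.ext (h.pr_mul_C a.2.1 b.2.1) }
  have hs : Function.Surjective φ := fun α => by
    obtain ⟨w, hw, e⟩ := h.E5_surj α.2
    exact ⟨⟨w, hw⟩, Subtype.ext e⟩
  have hk : φ.ker = (zpowers c.z).subgroupOf h.E5 := by
    ext w
    rw [MonoidHom.mem_ker, mem_subgroupOf, h.hc.mem_zp]
    refine ⟨fun e => h.E5_ker w.2 (congrArg Subtype.val e), fun e => Subtype.ext ?_⟩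
    rcases e with e | e
    · show c.pr w = 1; rw [e, h.hc.pr_one]
    · show c.pr w = 1; rw [e, h.hc.pr_E h.hc.z_mem]
  have hcard := Subgroup.card_eq_card_quotient_mul_card_subgroup φ.ker
  rw [Nat.card_congr (QuotientGroup.quotientKerEquivOfSurjective φ hs).toEquiv, hk,
    Nat.card_congr (subgroupOfEquivOfLe (zpowers_le.2 h.z_mem_E5)).toEquiv, Nat.card_zpowers, h.hc.ord,
    h.hW.card] at hcard
  exact hcard

theorem E5_conj (h : Pkg c M W) {n w : G} (hn : n ∈ c.Nh)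
    (hnW : c.pr n ∈ normalizer (W : Set A)) (hw : w ∈ h.E5) : n * w * n⁻¹ ∈ h.E5 := by
  have hwH : w ∈ c.H := (mem_inf.1 hw.1).1
  have hm : n * w * n⁻¹ ∈ c.Nh := mul_mem (mul_mem hn (c.C_le_Nh hw.1)) (inv_mem hn)
  have hpr : c.pr (n * w * n⁻¹) ∈ W := by
    rw [h.hc.pr_conj hn.1 hwH]; exact (mem_normalizer_iff.1 hnW _).1 hw.2.1
  exact ⟨(h.hc.mem_C_iff h.hd hm).2 (h.hW.le hpr), hpr, by rw [conj_pow, hw.2.2]; group⟩

theorem mem_zp_or (h : Pkg c M W) {w : G} (hw : w ∈ h.E5) :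
    w * w = 1 ∨ w * w = c.z :=
  h.E5_ker (mul_mem hw hw) (by rw [h.pr_mul_C hw.1 hw.1, h.sq_W hw.2.1])

/-- `E₅` is elementary abelian. -/
theorem E5_sq (h : Pkg c M W) {w : G} (hw : w ∈ h.E5) : w * w = 1 := by
  have hzc : ∀ {x}, x ∈ h.E5 → c.z * x = x * c.z := fun hx => c.mem_H.1 (mem_inf.1 hx.1).1
  have hmulz : ∀ {x}, x ∈ h.E5 → c.z * x * (c.z * x) = x * x := fun {x} hx => by
    rw [mul_assoc, ← mul_assoc x, ← hzc hx, mul_assoc c.z x, ← mul_assoc, h.hc.z_sq, one_mul]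
  have hlift : ∀ {x y}, x ∈ h.E5 → y ∈ h.E5 → c.pr x = c.pr y → x * x = y * y := by
    intro x y hx hy e
    rcases h.E5_ker (mul_mem hx (inv_mem hy))
      (by rw [h.pr_mul_C hx.1 (inv_mem hy.1), h.pr_inv_C hy.1, e, mul_inv_cancel]) with e' | e'
    · rw [mul_inv_eq_one.1 e']
    · rw [mul_inv_eq_iff_eq_mul.1 e', hmulz hy]
  have hall : ∀ {x y}, x ∈ h.E5 → y ∈ h.E5 → c.pr x ≠ 1 → c.pr y ≠ 1 → y * y = 1 → x * x = 1 := by
    intro x y hx hy hx1 hy1 hy2
    obtain ⟨g, hg, e⟩ := h.hW.trans _ hy.2.1 _ hx.2.1 hy1 hx1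
    obtain ⟨n, hn, rfl⟩ := h.hc.C_surj h.hd (mem_inf.1 hg).1
    have hc' := h.E5_conj (c.C_le_Nh hn) (mem_inf.1 hg).2 hy
    rw [hlift hx hc' (by rw [h.hc.pr_conj (mem_inf.1 hn).1 (mem_inf.1 hy.1).1, e]),
      show n * y * n⁻¹ * (n * y * n⁻¹) = n * (y * y) * n⁻¹ by group, hy2]
    group
  by_cases hw1 : c.pr w = 1
  · rcases h.E5_ker hw hw1 with rfl | rfl
    exacts [one_mul _, h.hc.z_sq]
  by_contra hne
  have hz : ∀ {x}, x ∈ h.E5 → c.pr x ≠ 1 → x * x = c.z := fun {x} hx hx1 =>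
    (h.mem_zp_or hx).resolve_left fun e => hne (hall hw hx hw1 hx1 e)
  have hanti : ∀ {x y}, x ∈ h.E5 → y ∈ h.E5 → c.pr x ≠ 1 → c.pr y ≠ 1 → c.pr x ≠ c.pr y →
      x * y = c.z * (y * x) := by
    intro x y hx hy hx1 hy1 hxy
    have hxy1 : c.pr (x * y) ≠ 1 := fun e => hxy (by
      rw [h.pr_mul_C hx.1 hy.1] at e
      rw [← inv_eq_of_mul_eq_one_left (h.sq_W hy.2.1)]
      exact eq_inv_of_mul_eq_one_left e)
    have e := hz (mul_mem hx hy) hxy1
    have ex := hz hx hx1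
    have ey := hz hy hy1
    calc x * y = x * y * (x * y) * (y⁻¹ * x⁻¹) := by group
      _ = c.z * ((y * y)⁻¹ * (y * x) * (x * x)⁻¹) := by
          rw [e, show (y * y)⁻¹ * (y * x) * (x * x)⁻¹ = y⁻¹ * x⁻¹ by group]
      _ = c.z * (y * x) := by
          rw [ex, ey, h.hc.z_inv, mul_assoc c.z (y * x) c.z, ← hzc (mul_mem hy hx), ← mul_assoc c.z c.z,
            h.hc.z_sq, one_mul]
  have hex : ∀ S : Finset A, S.card < 16 → ∃ α ∈ W, α ∉ S := by
    intro S hS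
    by_contra hcon
    push Not at hcon
    haveI := h.finiteA
    have h1 : Nat.card W ≤ S.card := by
      rw [← Nat.card_eq_finsetCard]
      exact Nat.card_le_card_of_injective (fun α : W => (⟨α, hcon α α.2⟩ : S))
        fun a b e => Subtype.ext (congrArg Subtype.val e :)
    rw [h.hW.card] at h1
    omega
  classical
  obtain ⟨β, hβ, hβ'⟩ := hex {1, c.pr w} (lt_of_le_of_lt Finset.card_le_two (by norm_num))
  obtain ⟨γ, hγ, hγ'⟩ := hex {1, c.pr w, β, c.pr w * β} (lt_of_le_of_lt Finset.card_le_four (by norm_num))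
  simp only [Finset.mem_insert, Finset.mem_singleton, not_or] at hβ' hγ'
  obtain ⟨b, hb, rfl⟩ := h.E5_surj hβ
  obtain ⟨d, hd, rfl⟩ := h.E5_surj hγ
  have hwb := mul_mem hw hb
  have hwb1 : c.pr (w * b) ≠ 1 := fun e => hβ'.2 (by
    rw [h.pr_mul_C hw.1 hb.1] at e
    rw [← inv_eq_of_mul_eq_one_left (h.sq_W hw.2.1)]
    exact eq_inv_of_mul_eq_one_right e)
  have hpr : c.pr (w * b) = c.pr w * c.pr b := h.pr_mul_C hw.1 hb.1
  have e1 := hanti hwb hd hwb1 hγ'.1 (fun e => hγ'.2.2.2 (e.symm.trans hpr))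
  have e2 := hanti hw hd hw1 hγ'.1 (Ne.symm hγ'.2.1)
  have e3 := hanti hb hd hβ'.1 hγ'.1 (Ne.symm hγ'.2.2.1)
  have e4 : w * b * d = d * (w * b) := by
    calc w * b * d = w * (b * d) := mul_assoc _ _ _
      _ = w * c.z * (d * b) := by rw [e3, mul_assoc]
      _ = c.z * (w * d) * b := by rw [← hzc hw]; group
      _ = c.z * c.z * (d * (w * b)) := by rw [e2]; group
      _ = d * (w * b) := by rw [h.hc.z_sq, one_mul]
  exact h.hc.z_ne (mul_eq_right.1 (e1.symm.trans e4))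

theorem E5_inv (h : Pkg c M W) {w : G} (hw : w ∈ h.E5) : w⁻¹ = w :=
  inv_eq_of_mul_eq_one_left (h.E5_sq hw)

theorem E5_comm (h : Pkg c M W) {v w : G} (hv : v ∈ h.E5) (hw : w ∈ h.E5) : v * w = w * v := by
  rw [← h.E5_inv (mul_mem hv hw), mul_inv_rev, h.E5_inv hv, h.E5_inv hw]

/-- The lift of `W` as a subgroup of `C`. -/
def E5C (h : Pkg c M W) : Subgroup c.C := h.E5.subgroupOf c.C

/-- The common fixed space. -/
noncomputable def X (h : Pkg c M W) : Submodule (ZMod 2) (Sp c) := (spForm h.hc).fixAll h.E5C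

theorem mem_normalizer_E5C (h : Pkg c M W) {n : c.C} (hn : c.pr n ∈ normalizer (W : Set A)) :
    n ∈ normalizer (h.E5C : Set c.C) := by
  refine mem_normalizer_iff.2 fun w => ⟨fun hw => ?_, fun hw => ?_⟩
  · exact h.E5_conj (c.C_le_Nh n.2) hn hw
  · have h1 : c.pr ((n⁻¹ : c.C) : G) ∈ normalizer (W : Set A) := by
      rw [InvMemClass.coe_inv, h.pr_inv_C n.2]; exact inv_mem hn
    have := h.E5_conj (c.C_le_Nh (n⁻¹).2) h1 hw
    simpa [E5C, mem_subgroupOf, mul_assoc] using this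

theorem isPGroup_E5C (h : Pkg c M W) : IsPGroup 2 h.E5C :=
  IsPGroup.of_card (n := 5) (by
    rw [E5C, Nat.card_congr (subgroupOfEquivOfLe h.E5_le).toEquiv, h.card_E5]; rfl)

/-- The preimage in `C` of the normaliser of `W`. -/
def NC (h : Pkg c M W) : Subgroup G where
  carrier := {n | n ∈ c.C ∧ c.pr n ∈ normalizer (W : Set A)}
  one_mem' := ⟨one_mem _, by rw [h.hc.pr_one]; exact one_mem _⟩
  mul_mem' := fun {a b} ha hb => ⟨mul_mem ha.1 hb.1, by
    rw [h.pr_mul_C ha.1 hb.1]; exact mul_mem ha.2 hb.2⟩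
  inv_mem' := fun {a} ha => ⟨inv_mem ha.1, by rw [h.pr_inv_C ha.1]; exact inv_mem ha.2⟩

theorem card_NC (h : Pkg c M W) :
    Nat.card h.NC = 6 * Nat.card ↥(M ⊓ normalizer (W : Set A)) := by
  let φ : h.NC →* ↥(M ⊓ normalizer (W : Set A)) :=
    { toFun := fun n => ⟨c.pr n, (h.hc.mem_C_iff h.hd (c.C_le_Nh n.2.1)).1 n.2.1, n.2.2⟩
      map_one' := Subtype.ext h.hc.pr_one
      map_mul' := fun a b => Subtype.ext (h.pr_mul_C a.2.1 b.2.1) }
  have hs : Function.Surjective φ := fun α => by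
    obtain ⟨n, hn, e⟩ := h.hc.C_surj h.hd (mem_inf.1 α.2).1
    exact ⟨⟨n, hn, e ▸ (mem_inf.1 α.2).2⟩, Subtype.ext e⟩
  let ψ : c.C →* A := h.hc.prHom.comp (inclusion (inf_le_left : c.C ≤ c.H))
  have hk : φ.ker.map h.NC.subtype = ψ.ker.map c.C.subtype := by
    ext n
    simp only [mem_map, MonoidHom.mem_ker, coe_subtype]
    constructor
    · rintro ⟨x, hx, rfl⟩
      exact ⟨⟨x, x.2.1⟩, congrArg Subtype.val hx, rfl⟩
    · rintro ⟨x, hx, rfl⟩
      have hx' : c.pr x = 1 := hx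
      exact ⟨⟨x, x.2, by rw [hx']; exact one_mem _⟩, Subtype.ext hx', rfl⟩
  have hr : ψ.range = M := by
    ext α
    constructor
    · rintro ⟨n, rfl⟩; exact (h.hc.mem_C_iff h.hd (c.C_le_Nh n.2)).1 n.2
    · intro hα; obtain ⟨n, hn, e⟩ := h.hc.C_surj h.hd hα; exact ⟨⟨n, hn⟩, e⟩
  have hψ : Nat.card ψ.ker = 6 := by
    have h1 := Subgroup.card_eq_card_quotient_mul_card_subgroup ψ.ker
    rw [Nat.card_congr (QuotientGroup.quotientKerEquivRange ψ).toEquiv, hr, h.hd.card_M,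
      h.hc.card_C h.hd] at h1
    omega
  have hcard := Subgroup.card_eq_card_quotient_mul_card_subgroup φ.ker
  have e1 : Nat.card (φ.ker.map h.NC.subtype) = Nat.card φ.ker :=
    Subgroup.card_map_of_injective h.NC.subtype_injective
  rw [Nat.card_congr (QuotientGroup.quotientKerEquivOfSurjective φ hs).toEquiv, ← e1, hk,
    Subgroup.card_map_of_injective c.C.subtype_injective, hψ] at hcard
  rw [hcard, mul_comm]

theorem card_norm_inner (h : Pkg c M W) : Nat.card ↥(M ⊓ normalizer (W : Set A)) = 5760 := by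
  haveI := h.finiteA
  set N := normalizer (W : Set A)
  have h2 := card_mul_index (M.subgroupOf N)
  have hi : (M.subgroupOf N).index ∣ 2 := by
    haveI := h.hd.normal
    rw [← h.hd.index]
    exact relIndex_dvd_index_of_normal M N
  have hM : Nat.card (M.subgroupOf N) = Nat.card ↥(M ⊓ N) := by
    rw [← inf_subgroupOf_right]
    exact Nat.card_congr (subgroupOfEquivOfLe inf_le_right).toEquiv
  have hne : (M.subgroupOf N).index ≠ 1 := by
    intro e
    have hle : N ≤ M := fun x hx => by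
      have : (⟨x, hx⟩ : N) ∈ M.subgroupOf N := (index_eq_one.1 e) ▸ mem_top _
      exact this
    have hd := card_dvd_of_le hle
    rw [h.hW.card_norm, h.hd.card_M] at hd
    norm_num at hd
  rcases (Nat.dvd_prime Nat.prime_two).1 hi with e | e
  · exact absurd e hne
  · rw [e, hM, h.hW.card_norm] at h2
    omega

/-- A copy of `3 ^ (1 + 2)` normalising `E₅`. -/
theorem exists_half' (h : Pkg c M W) : ∃ (R : Subgroup c.C) (x y : c.C),
    (∀ r ∈ R, c.pr (r : G) ∈ normalizer (W : Set A)) ∧ IsPGroup 3 R ∧ x ∈ R ∧ y ∈ R ∧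
      (spForm h.hc).p ∈ R ∧ Form.HalfHyp (spForm h.hc) x y h.E5C := by
  classical
  haveI : Fact (Nat.Prime 3) := ⟨Nat.prime_three⟩
  let S : Sylow 3 h.NC := default
  set R := (S : Subgroup h.NC).map h.NC.subtype with hR
  have hRN : R ≤ h.NC := map_subtype_le _
  have hRC : c.IsRThree R := by
    refine ⟨hRN.trans fun n hn => hn.1, ?_⟩
    rw [hR, Subgroup.card_map_of_injective h.NC.subtype_injective, S.card_eq_multiplicity, h.card_NC,
      h.card_norm_inner, show 6 * 5760 = 3 ^ 3 * 1280 by norm_num,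
      Nat.factorization_mul (by norm_num) (by norm_num), Nat.factorization_pow]
    simp [Nat.prime_three.factorization, Nat.factorization_eq_zero_of_not_dvd]
  obtain ⟨a, ha, b, hb, hab⟩ := h.hc.rThree_nonabelian h.hd hRC
  set k := a * b * a⁻¹ * b⁻¹ with hkdef
  have hkP : k ∈ c.P := h.hc.R_comm_mem h.hd hRC ha hb (h.hc.R_pr_commute h.hd hRC ha hb)
  have hk1 : k ≠ 1 := fun e => hab (by
    calc a * b = k * (b * a) := by rw [hkdef]; group
      _ = b * a := by rw [e, one_mul])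
  obtain ⟨hpP, hp1⟩ := spForm_p_mem h.hc
  set p : G := ((spForm h.hc).p : G) with hp
  have hbC := hRC.1 hb
  have haC := hRC.1 ha
  have hcases : k = p ∨ k⁻¹ = p := by
    have h3 : p ^ 3 = 1 := orderOf_dvd_iff_pow_eq_one.1 (h.hc.cardP ▸ orderOf_dvd_natCard c.P hpP)
    have hk := hkP
    rw [← PGroups.zpowers_eq_of_card_eq h.hc.cardP hpP hp1, mem_zpowers_iff] at hk
    obtain ⟨i, hi⟩ := hk
    have hord : orderOf p = 3 := by
      rw [← Nat.card_zpowers, PGroups.zpowers_eq_of_card_eq h.hc.cardP hpP hp1, h.hc.cardP]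
    rw [← zpow_mod_orderOf, hord] at hi
    rcases (by omega : i % 3 = 0 ∨ i % 3 = 1 ∨ i % 3 = 2) with e | e | e <;>
      rw [show ((3 : ℕ) : ℤ) = 3 from rfl, e] at hi
    · exact absurd (by rw [← hi, zpow_zero]) hk1
    · exact Or.inl (by rw [← hi, zpow_one])
    · refine Or.inr (inv_eq_of_mul_eq_one_left ?_)
      rw [← hi, zpow_ofNat, pow_two, ← mul_assoc, ← pow_three']
      exact h3
  obtain ⟨a', ha', hrel⟩ : ∃ a' ∈ R, a' * b * a'⁻¹ = b * p := by
    rcases hcases with e | e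
    · refine ⟨a, ha, ?_⟩
      rw [show a * b * a⁻¹ = k * b by rw [hkdef]; group, e, h.hc.P_central hpP hbC]
    · refine ⟨a⁻¹, inv_mem ha, ?_⟩
      rw [← e, ← h.hc.P_central (inv_mem hkP) hbC, inv_inv]
      calc a⁻¹ * b * a = a⁻¹ * (k⁻¹ * (a * b * a⁻¹)) * a := by rw [hkdef]; group
        _ = k⁻¹ * a⁻¹ * (a * b * a⁻¹) * a := by
            rw [h.hc.P_central (inv_mem hkP) (inv_mem haC)]; group
        _ = k⁻¹ * b := by group
  have hR3 : IsPGroup 3 (R.subgroupOf c.C) := IsPGroup.of_card (n := 3)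
    (by rw [Nat.card_congr (subgroupOfEquivOfLe hRC.1).toEquiv, hRC.2]; rfl)
  refine ⟨R.subgroupOf c.C, ⟨a', hRC.1 ha'⟩, ⟨b, hbC⟩, fun r hr => (hRN hr).2, hR3, ha', hb,
    h.hc.P_le_R h.hd hRC hpP, finrank_sp h.hc, ?_, ?_,
    h.mem_normalizer_E5C (hRN ha').2, h.mem_normalizer_E5C (hRN hb).2, h.isPGroup_E5C, ?_⟩
  · exact Subtype.ext (h.hc.R_exp h.hd hRC hb)
  · exact Subtype.ext hrel
  · haveI := h.finiteA
    obtain ⟨α, hα, hα1⟩ := (Subgroup.bot_or_exists_ne_one W).resolve_left fun e => by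
      have := h.hW.card; rw [e, card_bot] at this; omega
    obtain ⟨w, hw, rfl⟩ := h.E5_surj hα
    refine ⟨⟨w, hw.1⟩, hw, fun e => hα1 ?_⟩
    rcases eq_of_rep_eq_one h.hc e with e' | e' <;> simp only at e' <;> rw [e']
    exacts [h.hc.pr_one, h.hc.pr_E h.hc.z_mem]

/-- A copy of `3 ^ (1 + 2)` normalising `E₅`. -/
theorem exists_half (h : Pkg c M W) : ∃ x y : c.C,
    c.pr x ∈ normalizer (W : Set A) ∧ c.pr y ∈ normalizer (W : Set A) ∧
    Form.HalfHyp (spForm h.hc) x y h.E5C := by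
  obtain ⟨R, x, y, hR, -, hx, hy, -, hh⟩ := h.exists_half'
  exact ⟨x, y, hR x hx, hR y hy, hh⟩

theorem finrank_X (h : Pkg c M W) : finrank (ZMod 2) h.X = 6 := by
  obtain ⟨x, y, -, -, hh⟩ := h.exists_half
  haveI := finite_sp h.hc
  exact hh.finrank_fixAll

theorem orthogonal_X (h : Pkg c M W) : (spForm h.hc).β.orthogonal h.X = h.X := by
  obtain ⟨x, y, -, -, hh⟩ := h.exists_half
  haveI := finite_sp h.hc
  exact hh.orthogonal_fixAll

/-- Elements of `E₅` act trivially modulo the common fixed space. -/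
theorem add_mem_X (h : Pkg c M W) {w : G} (hw : w ∈ h.E5) (v : Sp c) :
    (spForm h.hc).ρ ⟨w, hw.1⟩ v + v ∈ h.X := by
  obtain ⟨x, y, -, -, hh⟩ := h.exists_half
  haveI := finite_sp h.hc
  exact hh.add_mem (w := (⟨w, hw.1⟩ : c.C)) hw v

/-- The elementary abelian subgroup of order `2 ^ 7`. -/
def A7 (h : Pkg c M W) : Subgroup G := c.E ⊓ centralizer (h.E5 : Set G)

theorem P_surj_X (h : Pkg c M W) {u : Sp c} (hu : u ∈ h.X) :
    ∃ v ∈ h.X, (spForm h.hc).ρ (spForm h.hc).p v + v = u := by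
  haveI := finite_sp h.hc
  let φ : h.X → h.X := fun v => ⟨(spForm h.hc).ρ (spForm h.hc).p v + v,
    h.X.add_mem ((spForm h.hc).inv_p_fixAll _ _ v.2) v.2⟩
  have hinj : Function.Injective φ := by
    intro a b e
    have e' : (spForm h.hc).ρ (spForm h.hc).p a + a = (spForm h.hc).ρ (spForm h.hc).p b + b :=
      congrArg Subtype.val e
    refine Subtype.ext ?_
    have h0 : (spForm h.hc).ρ (spForm h.hc).p ((a : Sp c) + b) = (a : Sp c) + b := by
      rw [map_add]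
      calc _ = ((spForm h.hc).ρ (spForm h.hc).p a + a) + ((spForm h.hc).ρ (spForm h.hc).p b + b) +
            (a + b) := by
              rw [show ∀ r s t u : Sp c, r + t + (s + u) + (t + u) = r + s + (t + t) + (u + u) from
                fun _ _ _ _ => by abel, add_self_sp, add_self_sp, add_zero, add_zero]
        _ = a + b := by rw [e', add_self_sp, zero_add]
    have := (spForm h.hc).fpf _ h0
    rw [← add_zero (a : Sp c), ← add_self_sp c (b : Sp c), ← add_assoc, this, zero_add]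
  obtain ⟨v, hv⟩ := (Finite.injective_iff_surjective.1 hinj) ⟨u, hu⟩
  exact ⟨v, v.2, congrArg Subtype.val hv⟩

theorem vec_fixed (h : Pkg c M W) {a w : G} (ha : a ∈ c.E) (hau : vec c a ∈ h.X) (hw : w ∈ h.E5) :
    vec c (w * a * w⁻¹) = vec c a := by
  rw [← spForm_ρ h.hc ⟨w, hw.1⟩ ha]
  exact (spForm h.hc).mem_fixAll.1 hau ⟨w, hw.1⟩ hw

/-- The preimage of the common fixed space centralises `E₅`. -/
theorem A7_eq_pre (h : Pkg c M W) : h.A7 = pre c h.X := by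
  ext a
  constructor
  · intro ha
    obtain ⟨haE, hac⟩ := mem_inf.1 ha
    refine ⟨haE, (spForm h.hc).mem_fixAll.2 fun w hw => ?_⟩
    rw [spForm_ρ h.hc w haE]
    have e : (w : G) * a = a * w := mem_centralizer_iff.1 hac _ hw
    rw [e, mul_inv_cancel_right]
  · rintro ⟨haE, hau⟩
    refine mem_inf.2 ⟨haE, mem_centralizer_iff.2 fun w hw => ?_⟩
    obtain ⟨v, hv, e⟩ := h.P_surj_X hau
    obtain ⟨b, hb, rfl⟩ := vec_surj c v
    obtain ⟨hpP, -⟩ := spForm_p_mem h.hc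
    set p : G := ((spForm h.hc).p : G)
    have hpb := h.hc.conjE (h.hc.P_le hpP) hb
    rw [spForm_ρ h.hc _ hb, ← vec_mul c hpb hb] at e
    have hwz : c.z * w = w * c.z := c.mem_H.1 (mem_inf.1 hw.1).1
    have hpw : p * w = w * p := h.hc.P_central hpP hw.1
    have hpz : c.z * p = p * c.z := c.mem_H.1 (h.hc.P_le hpP)
    have key : w * (p * b * p⁻¹ * b) * w⁻¹ = p * b * p⁻¹ * b := by
      have h1 : w * (p * b * p⁻¹) * w⁻¹ = p * (w * b * w⁻¹) * p⁻¹ := by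
        calc w * (p * b * p⁻¹) * w⁻¹ = (w * p) * b * (w * p)⁻¹ := by group
          _ = (p * w) * b * (p * w)⁻¹ := by rw [hpw]
          _ = _ := by group
      rw [show w * (p * b * p⁻¹ * b) * w⁻¹ = w * (p * b * p⁻¹) * w⁻¹ * (w * b * w⁻¹) by group, h1]
      rcases (vec_eq_iff h.hc (h.hc.conjE (mem_inf.1 hw.1).1 hb) hb).1 (h.vec_fixed hb hv hw) with
        e1 | e1 <;> rw [e1]
      calc p * (c.z * b) * p⁻¹ * (c.z * b) = c.z * (p * b * p⁻¹) * (c.z * b) := by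
            rw [← mul_assoc p, ← hpz]; group
        _ = c.z * ((p * b * p⁻¹) * c.z) * b := by group
        _ = p * b * p⁻¹ * b := by rw [← h.hc.z_comm hpb, ← mul_assoc, h.hc.z_sq, one_mul]
    have hab : w * (p * b * p⁻¹ * b) = p * b * p⁻¹ * b * w := by
      calc w * (p * b * p⁻¹ * b) = w * (p * b * p⁻¹ * b) * w⁻¹ * w := by group
        _ = _ := by rw [key]
    rcases (vec_eq_iff h.hc haE (mul_mem hpb hb)).1 e.symm with rfl | rfl
    · exact hab
    · rw [← mul_assoc w, ← hwz, mul_assoc, hab, ← mul_assoc c.z]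

theorem card_A7 (h : Pkg c M W) : Nat.card h.A7 = 2 ^ 7 := by
  rw [h.A7_eq_pre, card_pre h.hc, h.finrank_X]; rfl

theorem z_mem_A7 (h : Pkg c M W) : c.z ∈ h.A7 := by
  rw [h.A7_eq_pre]; exact z_mem_pre h.hc _

theorem A7_cent (h : Pkg c M W) : c.E ⊓ centralizer (h.A7 : Set G) = h.A7 := by
  rw [h.A7_eq_pre, ← pre_orthogonal h.hc, h.orthogonal_X]

theorem A7_comm (h : Pkg c M W) {a b : G} (ha : a ∈ h.A7) (hb : b ∈ h.A7) : a * b = b * a := by
  have h1 : a ∈ c.E ⊓ centralizer (h.A7 : Set G) := h.A7_cent.symm ▸ ha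
  exact (mem_centralizer_iff.1 (mem_inf.1 h1).2 b hb).symm

theorem A7_sq (h : Pkg c M W) {a : G} (ha : a ∈ h.A7) : a * a = 1 := by
  have ha' := ha
  rw [h.A7_eq_pre] at ha'
  obtain ⟨v, hv, e⟩ := h.P_surj_X ha'.2
  obtain ⟨b, hb, rfl⟩ := vec_surj c v
  obtain ⟨hpP, -⟩ := spForm_p_mem h.hc
  set p : G := ((spForm h.hc).p : G)
  have hpb := h.hc.conjE (h.hc.P_le hpP) hb
  have hpbX : vec c (p * b * p⁻¹) ∈ h.X := by
    have := (spForm h.hc).inv_p_fixAll h.E5C _ hv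
    rwa [spForm_ρ h.hc _ hb] at this
  rw [spForm_ρ h.hc _ hb, ← vec_mul c hpb hb] at e
  have hbA : b ∈ h.A7 := by rw [h.A7_eq_pre]; exact ⟨hb, hv⟩
  have hpbA : p * b * p⁻¹ ∈ h.A7 := by rw [h.A7_eq_pre]; exact ⟨hpb, hpbX⟩
  have hcomm := h.A7_comm hpbA hbA
  have hpz : c.z * p = p * c.z := c.mem_H.1 (h.hc.P_le hpP)
  have hm : p * b * p⁻¹ * b * (p * b * p⁻¹ * b) = 1 := by
    calc p * b * p⁻¹ * b * (p * b * p⁻¹ * b) = p * b * p⁻¹ * (b * (p * b * p⁻¹)) * b := by group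
      _ = p * (b * b) * p⁻¹ * (b * b) := by rw [← hcomm]; group
      _ = 1 := by
        rcases h.hc.sq_mem hb with e1 | e1 <;> rw [e1]
        · group
        · rw [← hpz, mul_inv_cancel_right, h.hc.z_sq]
  rcases (vec_eq_iff h.hc ha'.1 (mul_mem hpb hb)).1 e.symm with rfl | rfl
  · exact hm
  · rw [mul_assoc, ← mul_assoc _ c.z, ← h.hc.z_comm (mul_mem hpb hb), mul_assoc c.z _ (p * b * p⁻¹ * b),
      hm, mul_one, h.hc.z_sq]

theorem A7_inv (h : Pkg c M W) {a : G} (ha : a ∈ h.A7) : a⁻¹ = a :=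
  inv_eq_of_mul_eq_one_left (h.A7_sq ha)

theorem E5_A7 (h : Pkg c M W) {w a : G} (hw : w ∈ h.E5) (ha : a ∈ h.A7) : w * a = a * w :=
  mem_centralizer_iff.1 (mem_inf.1 ha).2 w hw

/-- The elementary abelian subgroup of order `2 ^ 11`. -/
def V (h : Pkg c M W) : Subgroup G where
  carrier := {x | ∃ a ∈ h.A7, ∃ w ∈ h.E5, x = a * w}
  one_mem' := ⟨1, one_mem _, 1, one_mem _, (one_mul 1).symm⟩
  mul_mem' := by
    rintro _ _ ⟨a, ha, w, hw, rfl⟩ ⟨b, hb, v, hv, rfl⟩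
    refine ⟨a * b, mul_mem ha hb, w * v, mul_mem hw hv, ?_⟩
    calc a * w * (b * v) = a * (w * b) * v := by group
      _ = a * b * (w * v) := by rw [h.E5_A7 hw hb]; group
  inv_mem' := by
    rintro _ ⟨a, ha, w, hw, rfl⟩
    exact ⟨a⁻¹, inv_mem ha, w⁻¹, inv_mem hw,
      by rw [mul_inv_rev, h.E5_A7 (inv_mem hw) (inv_mem ha)]⟩

theorem mem_V (h : Pkg c M W) {x : G} : x ∈ h.V ↔ ∃ a ∈ h.A7, ∃ w ∈ h.E5, x = a * w := Iff.rfl

theorem A7_le_V (h : Pkg c M W) : h.A7 ≤ h.V := fun a ha => ⟨a, ha, 1, one_mem _, (mul_one a).symm⟩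

theorem E5_le_V (h : Pkg c M W) : h.E5 ≤ h.V := fun w hw => ⟨1, one_mem _, w, hw, (one_mul w).symm⟩

theorem z_mem_V (h : Pkg c M W) : c.z ∈ h.V := h.A7_le_V h.z_mem_A7

theorem V_le_H (h : Pkg c M W) : h.V ≤ c.H := by
  rintro _ ⟨a, ha, w, hw, rfl⟩
  exact mul_mem (h.hc.le_H (mem_inf.1 ha).1) (mem_inf.1 hw.1).1

theorem pr_V (h : Pkg c M W) {a w : G} (ha : a ∈ h.A7) (hw : w ∈ h.E5) :
    c.pr (a * w) = c.pr w := by
  rw [h.hc.pr_mul _ (h.hc.le_H (mem_inf.1 ha).1) _ (mem_inf.1 hw.1).1, h.hc.pr_E (mem_inf.1 ha).1,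
    one_mul]

theorem V_inf_E (h : Pkg c M W) : h.V ⊓ c.E = h.A7 := by
  refine le_antisymm ?_ (le_inf h.A7_le_V inf_le_left)
  intro x hx
  obtain ⟨hxV, hxE⟩ := mem_inf.1 hx
  obtain ⟨a, ha, w, hw, rfl⟩ := hxV
  have h1 : c.pr w = 1 := by rw [← h.pr_V ha hw]; exact h.hc.pr_E hxE
  rcases h.E5_ker hw h1 with rfl | rfl
  · rwa [mul_one]
  · exact mul_mem ha h.z_mem_A7

theorem V_comm (h : Pkg c M W) {x y : G} (hx : x ∈ h.V) (hy : y ∈ h.V) : x * y = y * x := by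
  obtain ⟨a, ha, w, hw, rfl⟩ := hx
  obtain ⟨b, hb, v, hv, rfl⟩ := hy
  calc a * w * (b * v) = a * (w * b) * v := by group
    _ = a * b * (w * v) := by rw [h.E5_A7 hw hb]; group
    _ = b * a * (v * w) := by rw [h.A7_comm ha hb, h.E5_comm hw hv]
    _ = b * (a * v) * w := by group
    _ = b * v * (a * w) := by rw [← h.E5_A7 hv ha]; group

theorem V_sq (h : Pkg c M W) {x : G} (hx : x ∈ h.V) : x * x = 1 := by
  obtain ⟨a, ha, w, hw, rfl⟩ := hx
  calc a * w * (a * w) = a * (w * a) * w := by group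
    _ = (a * a) * (w * w) := by rw [h.E5_A7 hw ha]; group
    _ = 1 := by rw [h.A7_sq ha, h.E5_sq hw, one_mul]

theorem elem_V (h : Pkg c M W) : Cfsg.IsElementaryAbelian 2 h.V :=
  ⟨⟨⟨fun a b => Subtype.ext (h.V_comm a.2 b.2)⟩⟩, fun a ha => by rw [pow_two]; exact h.V_sq ha⟩

theorem card_V (h : Pkg c M W) : Nat.card h.V = 2 ^ 11 := by
  let φ : h.V →* W :=
    { toFun := fun x => ⟨c.pr x, by
        obtain ⟨a, ha, w, hw, e⟩ := x.2
        rw [e, h.pr_V ha hw]; exact hw.2.1⟩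
      map_one' := Subtype.ext h.hc.pr_one
      map_mul' := fun a b => Subtype.ext (h.hc.pr_mul _ (h.V_le_H a.2) _ (h.V_le_H b.2)) }
  have hs : Function.Surjective φ := fun α => by
    obtain ⟨w, hw, e⟩ := h.E5_surj α.2
    exact ⟨⟨w, h.E5_le_V hw⟩, Subtype.ext e⟩
  have hk : φ.ker = h.A7.subgroupOf h.V := by
    ext x
    rw [MonoidHom.mem_ker, mem_subgroupOf]
    refine ⟨fun e => ?_, fun e => Subtype.ext (h.hc.pr_E (mem_inf.1 e).1)⟩
    obtain ⟨a, ha, w, hw, ex⟩ := x.2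
    have e' : c.pr x = 1 := congrArg Subtype.val e
    rw [ex, h.pr_V ha hw] at e'
    rw [ex]
    rcases h.E5_ker hw e' with rfl | rfl
    · rwa [mul_one]
    · exact mul_mem ha h.z_mem_A7
  have hcard := Subgroup.card_eq_card_quotient_mul_card_subgroup φ.ker
  rw [Nat.card_congr (QuotientGroup.quotientKerEquivOfSurjective φ hs).toEquiv, hk,
    Nat.card_congr (subgroupOfEquivOfLe h.A7_le_V).toEquiv, h.card_A7, h.hW.card] at hcard
  rw [hcard]; norm_num

/-- The preimage of the normaliser of `W`. -/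
def NH (h : Pkg c M W) : Subgroup G where
  carrier := {x | x ∈ c.H ∧ c.pr x ∈ normalizer (W : Set A)}
  one_mem' := ⟨one_mem _, by rw [h.hc.pr_one]; exact one_mem _⟩
  mul_mem' := fun {a b} ha hb => ⟨mul_mem ha.1 hb.1, by
    rw [h.hc.pr_mul _ ha.1 _ hb.1]; exact mul_mem ha.2 hb.2⟩
  inv_mem' := fun {a} ha => ⟨inv_mem ha.1, by rw [h.hc.pr_inv ha.1]; exact inv_mem ha.2⟩

theorem E_conj_V (h : Pkg c M W) {e x : G} (he : e ∈ c.E) (hx : x ∈ h.V) : e * x * e⁻¹ ∈ h.V := by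
  obtain ⟨a, ha, w, hw, rfl⟩ := hx
  rw [show e * (a * w) * e⁻¹ = e * a * e⁻¹ * (e * w * e⁻¹) by group]
  refine mul_mem ?_ ?_
  · refine h.A7_le_V ?_
    rcases h.hc.swap he (mem_inf.1 ha).1 with e1 | e1 <;> rw [e1]
    · rwa [mul_inv_cancel_right]
    · rw [mul_assoc c.z, mul_inv_cancel_right]; exact mul_mem h.z_mem_A7 ha
  · have hm : e * (w * e⁻¹ * w⁻¹) ∈ c.E := mul_mem he (h.hc.conjE (mem_inf.1 hw.1).1 (inv_mem he))
    have hA : e * (w * e⁻¹ * w⁻¹) ∈ h.A7 := by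
      rw [h.A7_eq_pre]
      refine ⟨hm, ?_⟩
      have hv : vec c e⁻¹ = vec c e :=
        (vec_eq_iff h.hc (inv_mem he) he).2 (by
          rcases h.hc.sq_mem he with e2 | e2
          · exact Or.inl (inv_eq_of_mul_eq_one_left e2)
          · exact Or.inr (inv_eq_of_mul_eq_one_left (by rw [mul_assoc, e2, h.hc.z_sq])))
      rw [vec_mul c he (h.hc.conjE (mem_inf.1 hw.1).1 (inv_mem he)),
        ← spForm_ρ h.hc ⟨w, hw.1⟩ (inv_mem he), hv, add_comm]
      exact h.add_mem_X hw _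
    rw [show e * w * e⁻¹ = e * (w * e⁻¹ * w⁻¹) * w by group]
    exact ⟨_, hA, w, hw, rfl⟩

theorem A7_conj (h : Pkg c M W) {n a : G} (hn : n ∈ c.Nh) (hnW : c.pr n ∈ normalizer (W : Set A))
    (ha : a ∈ h.A7) : n * a * n⁻¹ ∈ h.A7 := by
  refine mem_inf.2 ⟨h.hc.conjE hn.1 (mem_inf.1 ha).1, mem_centralizer_iff.2 fun w hw => ?_⟩
  have hi : c.pr n⁻¹ ∈ normalizer (W : Set A) := by rw [h.hc.pr_inv hn.1]; exact inv_mem hnW
  have h1 := h.E5_A7 (h.E5_conj (inv_mem hn) hi hw) ha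
  rw [inv_inv] at h1
  calc w * (n * a * n⁻¹) = n * (n⁻¹ * w * n * a) * n⁻¹ := by group
    _ = n * a * n⁻¹ * w := by rw [h1]; group

theorem NH_conj_V (h : Pkg c M W) {g x : G} (hg : g ∈ h.NH) (hx : x ∈ h.V) : g * x * g⁻¹ ∈ h.V := by
  obtain ⟨e, he, n, hn, rfl⟩ := h.hc.frattini hg.1
  have hnW : c.pr n ∈ normalizer (W : Set A) := by
    have := hg.2
    rwa [h.hc.pr_mul _ (h.hc.le_H he) _ hn.1, h.hc.pr_E he, one_mul] at this
  obtain ⟨a, ha, w, hw, rfl⟩ := hx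
  rw [show e * n * (a * w) * (e * n)⁻¹ = e * ((n * a * n⁻¹) * (n * w * n⁻¹)) * e⁻¹ by group]
  exact h.E_conj_V he ⟨_, h.A7_conj hn hnW ha, _, h.E5_conj hn hnW hw, rfl⟩

theorem pr_mem_of_normalizes (h : Pkg c M W) {g : G} (hg : g ∈ c.H)
    (hV : ∀ x ∈ h.V, g * x * g⁻¹ ∈ h.V) : c.pr g ∈ normalizer (W : Set A) := by
  have key : ∀ α ∈ W, c.pr g * α * (c.pr g)⁻¹ ∈ W := by
    intro α hα
    obtain ⟨w, hw, rfl⟩ := h.E5_surj hα
    rw [← h.hc.pr_conj hg (mem_inf.1 hw.1).1]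
    obtain ⟨a, ha, v, hv, e⟩ := hV w (h.E5_le_V hw)
    rw [e, h.pr_V ha hv]
    exact hv.2.1
  haveI := h.finiteA
  refine mem_normalizer_iff.2 fun α => ⟨key α, fun hα => ?_⟩
  have himg : W.map (MulAut.conj (c.pr g)).toMonoidHom = W := by
    refine eq_of_le_of_card_ge ?_ (Subgroup.card_map_of_injective (MulAut.conj _).injective).ge
    rintro _ ⟨β, hβ, rfl⟩
    exact key β hβ
  rw [← himg] at hα
  obtain ⟨β, hβ, e⟩ := hα
  rwa [show α = β from (MulAut.conj (c.pr g)).injective e.symm]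

theorem NH_eq (h : Pkg c M W) : h.NH = c.H ⊓ normalizer (h.V : Set G) := by
  ext g
  constructor
  · intro hg
    refine mem_inf.2 ⟨hg.1, mem_normalizer_iff.2 fun x => ⟨h.NH_conj_V hg, fun hx => ?_⟩⟩
    simpa [mul_assoc] using h.NH_conj_V (inv_mem hg) hx
  · intro hg
    obtain ⟨hgH, hgn⟩ := mem_inf.1 hg
    exact ⟨hgH, h.pr_mem_of_normalizes hgH fun x hx => (mem_normalizer_iff.1 hgn x).1 hx⟩

theorem E_le_NH (h : Pkg c M W) : c.E ≤ h.NH :=
  fun e he => ⟨h.hc.le_H he, by rw [h.hc.pr_E he]; exact one_mem _⟩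

theorem card_NH (h : Pkg c M W) : Nat.card h.NH = 3 * 2 ^ 13 * 11520 := by
  let φ : h.NH →* normalizer (W : Set A) :=
    { toFun := fun g => ⟨c.pr g, g.2.2⟩
      map_one' := Subtype.ext h.hc.pr_one
      map_mul' := fun a b => Subtype.ext (h.hc.pr_mul _ a.2.1 _ b.2.1) }
  have hs : Function.Surjective φ := fun α => by
    obtain ⟨g, hg, e⟩ := h.hc.pr_surj α
    exact ⟨⟨g, hg, e ▸ α.2⟩, Subtype.ext e⟩
  have hle : c.E ⊔ c.P ≤ h.NH := fun g hg =>
    ⟨h.hc.N_le hg, by rw [(h.hc.pr_ker g (h.hc.N_le hg)).2 hg]; exact one_mem _⟩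
  have hk : φ.ker = (c.E ⊔ c.P).subgroupOf h.NH := by
    ext g
    rw [MonoidHom.mem_ker, mem_subgroupOf, ← h.hc.pr_ker g g.2.1]
    exact ⟨fun e => congrArg Subtype.val e, fun e => Subtype.ext e⟩
  have hcard := Subgroup.card_eq_card_quotient_mul_card_subgroup φ.ker
  rw [Nat.card_congr (QuotientGroup.quotientKerEquivOfSurjective φ hs).toEquiv, hk,
    Nat.card_congr (subgroupOfEquivOfLe hle).toEquiv, h.hc.cardN, h.hW.card_norm] at hcard
  rw [hcard, mul_comm]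

/-- An element of `C` normalising `W` and fixing the half pointwise lies over `W`. -/
theorem pr_mem_W (h : Pkg c M W) {n : c.C} (hnW : c.pr n ∈ normalizer (W : Set A))
    (hfix : ∀ u ∈ h.X, (spForm h.hc).ρ n u = u) : c.pr n ∈ W := by
  haveI := finite_sp h.hc
  obtain ⟨x, y, -, -, hh⟩ := h.exists_half
  refine (le_of_eq h.hW.cent) (mem_centralizer_iff.2 fun α hα => ?_)
  obtain ⟨w, hw, rfl⟩ := h.E5_surj hα
  have hd := hh.conj_apply_eq (n := n) hfix (w := (⟨w, hw.1⟩ : c.C)) hw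
  have h1 : (spForm h.hc).ρ (n * ⟨w, hw.1⟩ * n⁻¹ * (⟨w, hw.1⟩ : c.C)⁻¹) = 1 := by
    rw [map_mul, hd, ← map_mul, mul_inv_cancel, map_one]
  have hH := (mem_inf.1 n.2).1
  have hwH := (mem_inf.1 hw.1).1
  have h2 : c.pr ((n : G) * w * (n : G)⁻¹ * w⁻¹) = 1 := by
    rcases eq_of_rep_eq_one h.hc h1 with e | e <;>
      simp only [MulMemClass.coe_mul, InvMemClass.coe_inv] at e <;> rw [e]
    exacts [h.hc.pr_one, h.hc.pr_E h.hc.z_mem]
  rw [h.hc.pr_mul _ (mul_mem (mul_mem hH hwH) (inv_mem hH)) _ (inv_mem hwH), h.hc.pr_conj hH hwH,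
    h.hc.pr_inv hwH, mul_inv_eq_one, mul_inv_eq_iff_eq_mul] at h2
  exact h2.symm

/-- The centraliser of `A₇` inside `N_H(V)` is `V`. -/
theorem mem_V_of_centralizes (h : Pkg c M W) {g : G} (hg : g ∈ h.NH)
    (hc' : ∀ a ∈ h.A7, g * a = a * g) : g ∈ h.V := by
  obtain ⟨e, he, n, hn, rfl⟩ := h.hc.frattini hg.1
  have hnW : c.pr n ∈ normalizer (W : Set A) := by
    have := hg.2
    rwa [h.hc.pr_mul _ (h.hc.le_H he) _ hn.1, h.hc.pr_E he, one_mul] at this
  -- the action of `n` on the half is trivial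
  have hfix : ∀ a ∈ h.A7, vec c (n * a * n⁻¹) = vec c a := by
    intro a ha
    have haE := (mem_inf.1 ha).1
    have h1 : e * n * a * (e * n)⁻¹ = a := by rw [hc' a ha, mul_inv_cancel_right]
    have hnaE := h.hc.conjE hn.1 haE
    refine (vec_eq_iff h.hc hnaE haE).2 ?_
    have hea : e * (n * a * n⁻¹) * e⁻¹ = a := by
      calc e * (n * a * n⁻¹) * e⁻¹ = e * n * a * (e * n)⁻¹ := by group
        _ = a := h1
    rcases h.hc.swap he hnaE with e1 | e1
    · refine Or.inl ?_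
      rwa [e1, mul_inv_cancel_right] at hea
    · refine Or.inr ?_
      rw [e1, mul_assoc c.z, mul_inv_cancel_right] at hea
      calc n * a * n⁻¹ = c.z * (c.z * (n * a * n⁻¹)) := by rw [← mul_assoc c.z c.z, h.hc.z_sq, one_mul]
        _ = c.z * a := by rw [hea]
  have hnC : n ∈ c.C := by
    by_contra hnC
    obtain ⟨hpP, -⟩ := spForm_p_mem h.hc
    set p : G := ((spForm h.hc).p : G) with hp
    haveI := finite_sp h.hc
    obtain ⟨u, hu, hu0⟩ := Submodule.exists_mem_ne_zero_of_ne_bot (p := h.X) fun e0 => by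
      have := h.finrank_X; rw [e0, finrank_bot] at this; omega
    obtain ⟨a, ha, rfl⟩ := vec_surj c u
    have haA : a ∈ h.A7 := by rw [h.A7_eq_pre]; exact ⟨ha, hu⟩
    have hpa := h.hc.conjE (h.hc.P_le hpP) ha
    have hpaA : p * a * p⁻¹ ∈ h.A7 := by
      rw [h.A7_eq_pre]
      refine ⟨hpa, ?_⟩
      have := (spForm h.hc).inv_p_fixAll h.E5C _ hu
      rwa [spForm_ρ h.hc _ ha] at this
    have e1 := hfix _ hpaA
    rw [show n * (p * a * p⁻¹) * n⁻¹ = n * p * n⁻¹ * (n * a * n⁻¹) * (n * p * n⁻¹)⁻¹ by group,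
      h.hc.inverts hn hnC hpP] at e1
    have e2 : vec c (p⁻¹ * (n * a * n⁻¹) * p⁻¹⁻¹) = vec c (p⁻¹ * a * p⁻¹⁻¹) :=
      conj_vec_congr h.hc (inv_mem (h.hc.P_le hpP)) (h.hc.conjE hn.1 ha) ha (hfix a haA)
    rw [e2] at e1
    refine hu0 ((spForm h.hc).fpf _ ?_)
    have e3 : (spForm h.hc).ρ (spForm h.hc).p⁻¹ (vec c a) =
        (spForm h.hc).ρ (spForm h.hc).p (vec c a) := by
      rw [spForm_ρ h.hc _ ha, spForm_ρ h.hc _ ha, InvMemClass.coe_inv]
      exact e1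
    calc (spForm h.hc).ρ (spForm h.hc).p (vec c a) = (spForm h.hc).ρ (spForm h.hc).p⁻¹ (vec c a) :=
          e3.symm
      _ = (spForm h.hc).ρ (spForm h.hc).p ((spForm h.hc).ρ (spForm h.hc).p (vec c a)) := by
          rw [← (spForm h.hc).mul_apply]
          congr 2
          exact inv_eq_of_mul_eq_one_left (by rw [← pow_three']; exact (spForm h.hc).p_cube)
      _ = (spForm h.hc).ρ (spForm h.hc).p ((spForm h.hc).ρ (spForm h.hc).p⁻¹ (vec c a)) := by rw [e3]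
      _ = vec c a := (spForm h.hc).cancel_inv _ _
  have hfixX : ∀ u ∈ h.X, (spForm h.hc).ρ ⟨n, hnC⟩ u = u := by
    intro u hu
    obtain ⟨a, ha, rfl⟩ := vec_surj c u
    rw [spForm_ρ h.hc _ ha]
    exact hfix a (by rw [h.A7_eq_pre]; exact ⟨ha, hu⟩)
  obtain ⟨w, hw, hwe⟩ := h.E5_surj (h.pr_mem_W (n := ⟨n, hnC⟩) hnW hfixX)
  obtain ⟨q, hq, hq'⟩ := h.ker_mem (n := n * w⁻¹) (mul_mem hnC (inv_mem hw.1))
    (by rw [h.pr_mul_C hnC (inv_mem hw.1), h.pr_inv_C hw.1, hwe, mul_inv_cancel])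
  have hq1 : q = 1 := by
    by_contra hq1
    haveI := finite_sp h.hc
    obtain ⟨u, hu, hu0⟩ := Submodule.exists_mem_ne_zero_of_ne_bot (p := h.X) fun e0 => by
      have := h.finrank_X; rw [e0, finrank_bot] at this; omega
    obtain ⟨a, ha, rfl⟩ := vec_surj c u
    have haA : a ∈ h.A7 := by rw [h.A7_eq_pre]; exact ⟨ha, hu⟩
    have h2 : vec c (q * a * q⁻¹) = vec c a := by
      rw [← hfix a haA]
      have hwa : w * a * w⁻¹ = a := by rw [h.E5_A7 hw haA, mul_inv_cancel_right]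
      have hzq := h.hc.z_comm (h.hc.conjE (h.hc.P_le hq) ha)
      rcases hq' with hn' | hn'
      · congr 1
        rw [show n = q * w by rw [← hn']; group]
        calc q * a * q⁻¹ = q * (w * a * w⁻¹) * q⁻¹ := by rw [hwa]
          _ = _ := by group
      · congr 1
        rw [show n = c.z * q * w by rw [← hn']; group]
        calc q * a * q⁻¹ = c.z * (q * a * q⁻¹) * c.z⁻¹ := by rw [hzq, mul_inv_cancel_right]
          _ = c.z * (q * (w * a * w⁻¹) * q⁻¹) * c.z⁻¹ := by rw [hwa]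
          _ = _ := by group
    have h3 := h.hc.fixP a ha fun r hr => by
      have hqa : q * a = a * q := by
        rcases (vec_eq_iff h.hc (h.hc.conjE (h.hc.P_le hq) ha) ha).1 h2 with e1 | e1
        · calc q * a = q * a * q⁻¹ * q := by group
            _ = a * q := by rw [e1]
        · exfalso
          have h3' : q ^ 3 = 1 :=
            orderOf_dvd_iff_pow_eq_one.1 (h.hc.cardP ▸ orderOf_dvd_natCard c.P hq)
          have hzq : c.z * q = q * c.z := c.mem_H.1 (h.hc.P_le hq)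
          have s1 : q * (c.z * a) * q⁻¹ = a := by
            rw [← mul_assoc q, ← hzq, mul_assoc c.z, mul_assoc c.z, e1, ← mul_assoc, h.hc.z_sq, one_mul]
          have s2 : q ^ 3 * a * (q ^ 3)⁻¹ = c.z * a := by
            calc q ^ 3 * a * (q ^ 3)⁻¹ = q * (q * (q * a * q⁻¹) * q⁻¹) * q⁻¹ := by
                  rw [pow_three']; group
              _ = c.z * a := by rw [e1, s1, e1]
          rw [h3', inv_one, mul_one, one_mul] at s2
          exact h.hc.z_ne (mul_eq_right.1 s2.symm)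
      rw [← PGroups.zpowers_eq_of_card_eq h.hc.cardP hq hq1, mem_zpowers_iff] at hr
      obtain ⟨k, rfl⟩ := hr
      exact ((show Commute q a from hqa).zpow_left k).eq
    exact hu0 ((vec_eq_zero h.hc ha).2 (h.hc.mem_zp.1 h3))
  subst hq1
  have hnV : n ∈ h.V := by
    rcases hq' with hn' | hn'
    · rw [mul_inv_eq_iff_eq_mul.1 hn', one_mul]; exact h.E5_le_V hw
    · rw [mul_inv_eq_iff_eq_mul.1 hn', mul_one]; exact mul_mem h.z_mem_V (h.E5_le_V hw)
  refine mul_mem (h.A7_le_V ?_) hnV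
  rw [← h.A7_cent]
  refine mem_inf.2 ⟨he, mem_centralizer_iff.2 fun a ha => ?_⟩
  have h4 := hc' a ha
  have h5 : n * a = a * n := h.V_comm hnV (h.A7_le_V ha)
  rw [mul_assoc e, h5, ← mul_assoc, ← mul_assoc] at h4
  exact (mul_right_cancel h4).symm

/-- `V` is its own centraliser. -/
theorem cent_V (h : Pkg c M W) : centralizer (h.V : Set G) = h.V := by
  refine le_antisymm (fun g hg => ?_) fun x hx => mem_centralizer_iff.2 fun y hy => h.V_comm hy hx
  rw [mem_centralizer_iff] at hg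
  have hgH : g ∈ c.H := c.mem_H.2 (hg _ h.z_mem_V)
  refine h.mem_V_of_centralizes ⟨hgH, h.pr_mem_of_normalizes hgH fun x hx => ?_⟩
    fun a ha => (hg a (h.A7_le_V ha)).symm
  rw [← hg x hx, mul_inv_cancel_right]; exact hx

end Pkg

end Cfsg.Agent.H98.JFour
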