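import Cfsg.Agent.H98.JFour.Module
import Cfsg.Agent.H98.JFour.HexData

/-!
The fixed space of an elementary abelian group of order `16` normalised by `3 ^ (1 + 2)`: it is a
totally singular half of the module, and its nontrivial elements are told apart by their fixed spaces.
-/

set_option autoImplicit false
set_option linter.style.haveILetI false

namespace Cfsg.Agent.H98.JFour

open Module

variable {K V : Type*} [Group K] [AddCommGroup V] [Module (ZMod 2) V]

namespace Form

variable (f : Form K V)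

/-- The common fixed space of a subgroup. -/
def fixAll (W : Subgroup K) : Submodule (ZMod 2) V := ⨅ w : W, f.fix (w : K)

theorem mem_fixAll {W : Subgroup K} {v : V} : v ∈ f.fixAll W ↔ ∀ w ∈ W, f.ρ w v = v := by
  simp [fixAll, Submodule.mem_iInf, f.mem_fix]

theorem fixAll_le_fix {W : Subgroup K} {w : K} (hw : w ∈ W) : f.fixAll W ≤ f.fix w :=
  iInf_le (fun u : W => f.fix (u : K)) ⟨w, hw⟩

theorem inv_fixAll {W : Subgroup K} {k : K} (hk : ∀ w ∈ W, k⁻¹ * w * k ∈ W) :
    f.Inv k (f.fixAll W) := fun u hu => by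
  rw [f.mem_fixAll] at hu ⊢
  intro w hw
  have h := congrArg (f.ρ k) (hu _ (hk w hw))
  rw [← f.mul_apply, show k * (k⁻¹ * w * k) = w * k by group, f.mul_apply] at h
  exact h

theorem inv_p_fixAll (W : Subgroup K) : f.Inv f.p (f.fixAll W) := by
  refine f.inv_fixAll fun w hw => ?_
  rw [mul_assoc, f.cen w, inv_mul_cancel_left]
  exact hw

/-- Fixed points of an element of prime order, counted modulo that prime. -/
theorem pow_finrank_modEq [FiniteDimensional (ZMod 2) V] {q : ℕ} [hq : Fact q.Prime] {s : K}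
    (hs : s ^ q = 1) {U : Submodule (ZMod 2) V} (hU : f.Inv s U) :
    2 ^ finrank (ZMod 2) U ≡ 2 ^ finrank (ZMod 2) ↥(U ⊓ f.fix s) [MOD q] := by
  classical
  haveI : Finite V := Module.finite_of_finite (ZMod 2)
  have hinv : ∀ g ∈ Subgroup.zpowers s, ∀ u ∈ U, f.ρ g u ∈ U := by
    intro g hg u hu
    obtain ⟨n, rfl⟩ := Subgroup.mem_zpowers_iff.1 hg
    have hmod : s ^ n = s ^ (n % (q : ℤ)).toNat := by
      rw [← zpow_natCast, Int.toNat_of_nonneg (Int.emod_nonneg _ (by exact_mod_cast hq.out.ne_zero))]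
      conv_lhs => rw [← Int.emod_add_mul_ediv n q, zpow_add, zpow_mul, zpow_natCast, hs, one_zpow, mul_one]
    rw [hmod]
    exact f.inv_pow hU _ u hu
  letI : MulAction (Subgroup.zpowers s) U :=
    { smul := fun g u => ⟨f.ρ g u, hinv g g.2 u u.2⟩
      one_smul := fun u => Subtype.ext (f.one_apply _)
      mul_smul := fun g h u => Subtype.ext (f.mul_apply _ _ _) }
  have hP : IsPGroup q (Subgroup.zpowers s) := by
    intro x
    obtain ⟨x, hx⟩ := x
    obtain ⟨n, rfl⟩ := Subgroup.mem_zpowers_iff.1 hx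
    refine ⟨1, Subtype.ext ?_⟩
    show (s ^ n) ^ (q ^ 1) = 1
    rw [pow_one, ← zpow_natCast, ← zpow_mul, mul_comm, zpow_mul, zpow_natCast, hs, one_zpow]
  have hm := hP.card_modEq_card_fixedPoints U
  have e : MulAction.fixedPoints (Subgroup.zpowers s) U ≃ ↥(U ⊓ f.fix s) :=
    { toFun := fun u => ⟨(u : U), (u : U).2,
        f.mem_fix.2 (congrArg Subtype.val (u.2 ⟨s, Subgroup.mem_zpowers s⟩))⟩
      invFun := fun u => ⟨⟨u, u.2.1⟩, fun g => by
        obtain ⟨g, hg⟩ := g
        refine Subtype.ext ?_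
        show f.ρ g (u : V) = u
        have hs' := f.mem_fix.1 u.2.2
        let S : Subgroup K :=
          { carrier := {k | f.ρ k (u : V) = u}
            one_mem' := f.one_apply _
            mul_mem' := fun {a b} ha hb => by
              show f.ρ (a * b) _ = _
              rw [f.mul_apply, hb, ha]
            inv_mem' := fun {a} ha => by
              show f.ρ a⁻¹ _ = _
              conv_lhs => rw [← ha]
              exact f.inv_cancel a _ }
        exact (Subgroup.zpowers_le.2 (show s ∈ S from hs')) hg⟩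
      left_inv := fun u => rfl
      right_inv := fun u => rfl }
  rw [Nat.card_congr e, Module.natCard_eq_pow_finrank (K := ZMod 2) (V := U),
    Module.natCard_eq_pow_finrank (K := ZMod 2) (V := ↥(U ⊓ f.fix s)), Nat.card_zmod] at hm
  exact hm

/-- A two-group has a nonzero fixed point on every nonzero invariant submodule. -/
theorem exists_fixed [FiniteDimensional (ZMod 2) V] {W : Subgroup K} (hW : IsPGroup 2 W)
    {U : Submodule (ZMod 2) V} (hU : ∀ w ∈ W, f.Inv w U) (hU0 : U ≠ ⊥) :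
    f.fixAll W ⊓ U ≠ ⊥ := by
  classical
  haveI : Finite V := Module.finite_of_finite (ZMod 2)
  haveI : Fact (Nat.Prime 2) := ⟨Nat.prime_two⟩
  letI : MulAction W U :=
    { smul := fun g u => ⟨f.ρ g u, hU g g.2 u u.2⟩
      one_smul := fun u => Subtype.ext (f.one_apply _)
      mul_smul := fun g h u => Subtype.ext (f.mul_apply _ _ _) }
  have hd : 2 ∣ Nat.card U := by
    rw [Module.natCard_eq_pow_finrank (K := ZMod 2), Nat.card_zmod]
    exact dvd_pow_self 2 fun h => hU0 (Submodule.finrank_eq_zero.1 h)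
  have h0 : (0 : U) ∈ MulAction.fixedPoints W U := fun g => Subtype.ext (map_zero (f.ρ (g : K)))
  obtain ⟨b, hb, hb0⟩ := hW.exists_fixed_point_of_prime_dvd_card_of_fixed_point U hd h0
  intro h
  refine hb0 (Subtype.ext ?_).symm
  have hm : (b : V) ∈ f.fixAll W ⊓ U :=
    ⟨f.mem_fixAll.2 fun w hw => congrArg Subtype.val (hb ⟨w, hw⟩), b.2⟩
  rw [h] at hm
  exact (Submodule.mem_bot _).1 hm

section Half

variable [Finite K] [FiniteDimensional (ZMod 2) V] {x y : K} {W : Subgroup K}

/-- The hypotheses: `W` is a two-group acting nontrivially, normalised by `3 ^ (1 + 2)`. -/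
structure HalfHyp (f : Form K V) (x y : K) (W : Subgroup K) : Prop where
  dim : finrank (ZMod 2) V = 12
  y_cube : y ^ 3 = 1
  rel : x * y * x⁻¹ = y * f.p
  norm_x : x ∈ Subgroup.normalizer (W : Set K)
  norm_y : y ∈ Subgroup.normalizer (W : Set K)
  two : IsPGroup 2 W
  moved : ∃ w ∈ W, f.ρ w ≠ 1

variable {f}

theorem HalfHyp.inv_of_normalizer {k : K} (hk : k ∈ Subgroup.normalizer (W : Set K)) :
    f.Inv k (f.fixAll W) :=
  f.inv_fixAll fun w hw => by
    simpa using (Subgroup.mem_normalizer_iff.1 (inv_mem hk) w).1 hw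

theorem HalfHyp.finrank_fixAll (h : HalfHyp f x y W) : finrank (ZMod 2) (f.fixAll W) = 6 := by
  obtain ⟨m, hm⟩ := f.six_dvd h.y_cube h.rel (inv_of_normalizer h.norm_x) (inv_of_normalizer h.norm_y)
    (f.inv_p_fixAll W)
  have h0 : f.fixAll W ≠ ⊥ := fun e => by
    refine f.exists_fixed h.two (U := ⊤) (fun w _ u _ => Submodule.mem_top) ?_ (by rw [e, bot_inf_eq])
    intro ht
    have := h.dim
    rw [← finrank_top (ZMod 2) V, ht, finrank_bot] at this
    omega
  have h1 : f.fixAll W ≠ ⊤ := fun e => by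
    obtain ⟨w, hw, hne⟩ := h.moved
    refine hne (LinearMap.ext fun v => ?_)
    exact f.mem_fixAll.1 (e ▸ Submodule.mem_top) w hw
  have hlt := Submodule.finrank_lt h1
  have hne : finrank (ZMod 2) (f.fixAll W) ≠ 0 := fun e => h0 (Submodule.finrank_eq_zero.1 e)
  rw [h.dim] at hlt
  omega

theorem HalfHyp.orthogonal_fixAll (h : HalfHyp f x y W) :
    f.β.orthogonal (f.fixAll W) = f.fixAll W := by
  set X := f.fixAll W with hX
  have hx := inv_of_normalizer (f := f) h.norm_x
  have hy := inv_of_normalizer (f := f) h.norm_y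
  have hxi := inv_of_normalizer (f := f) (inv_mem h.norm_x)
  have hyi := inv_of_normalizer (f := f) (inv_mem h.norm_y)
  have hW : ∀ w ∈ W, f.Inv w (f.β.orthogonal X) := fun w hw =>
    f.inv_orthogonal fun u hu => by
      rw [f.mem_fixAll.1 hu _ (inv_mem hw)]; exact hu
  have hdim : finrank (ZMod 2) (f.β.orthogonal X) = 6 := by
    have h2 := f.finrank_orthogonal X
    rw [h.finrank_fixAll, h.dim] at h2
    omega
  have hne : f.fixAll W ⊓ f.β.orthogonal X ≠ ⊥ := f.exists_fixed h.two hW fun e => by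
    rw [e, finrank_bot] at hdim; omega
  obtain ⟨m, hm⟩ := f.six_dvd h.y_cube h.rel (f.inv_inf hx (f.inv_orthogonal hxi))
    (f.inv_inf hy (f.inv_orthogonal hyi))
    (f.inv_inf (f.inv_p_fixAll W) (f.inv_orthogonal (f.inv_inv (f.inv_p_fixAll W))))
  have hm' : finrank (ZMod 2) ↥(X ⊓ f.β.orthogonal X) = 6 * m := hm
  have hle : finrank (ZMod 2) ↥(X ⊓ f.β.orthogonal X) ≤ 6 :=
    hdim ▸ Submodule.finrank_mono inf_le_right
  have hpos : finrank (ZMod 2) ↥(X ⊓ f.β.orthogonal X) ≠ 0 :=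
    fun e => hne (Submodule.finrank_eq_zero.1 e)
  have e1 : X ⊓ f.β.orthogonal X = X :=
    Submodule.eq_of_le_of_finrank_eq inf_le_left (by rw [h.finrank_fixAll]; omega)
  have e2 : X ⊓ f.β.orthogonal X = f.β.orthogonal X :=
    Submodule.eq_of_le_of_finrank_eq inf_le_right (by omega)
  rw [← e2, e1]

theorem HalfHyp.mov_le (h : HalfHyp f x y W) {w : K} (hw : w ∈ W) : f.mov w ≤ f.fixAll W := by
  rw [f.mov_eq_orthogonal, ← h.orthogonal_fixAll]
  exact LinearMap.BilinForm.orthogonal_le (f.fixAll_le_fix hw)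

theorem HalfHyp.add_mem (h : HalfHyp f x y W) {w : K} (hw : w ∈ W) (v : V) :
    f.ρ w v + v ∈ f.fixAll W :=
  h.mov_le hw (f.mem_mov.2 ⟨v, rfl⟩)

/-- Two elements either cut out exactly the common fixed space or have the same fixed space. -/
theorem HalfHyp.dichotomy (h : HalfHyp f x y W) {a b : K} (ha : a ∈ W) (hb : b ∈ W)
    (ha8 : finrank (ZMod 2) (f.fix a) = 8) (hb8 : finrank (ZMod 2) (f.fix b) = 8) :
    f.fix a ⊓ f.fix b = f.fixAll W ∨ f.fix a = f.fix b := by
  obtain ⟨m, hm⟩ := f.even_finrank (f.inv_inf (f.inv_p_fix a) (f.inv_p_fix b))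
  have hle : f.fixAll W ≤ f.fix a ⊓ f.fix b := le_inf (f.fixAll_le_fix ha) (f.fixAll_le_fix hb)
  have h6 := Submodule.finrank_mono hle
  rw [h.finrank_fixAll] at h6
  have h8 := Submodule.finrank_mono (inf_le_left : f.fix a ⊓ f.fix b ≤ f.fix a)
  rw [ha8] at h8
  rcases (by omega : finrank (ZMod 2) ↥(f.fix a ⊓ f.fix b) = 6 ∨
      finrank (ZMod 2) ↥(f.fix a ⊓ f.fix b) = 8) with e | e
  · exact Or.inl (Submodule.eq_of_le_of_finrank_eq hle (by rw [h.finrank_fixAll, e])).symm
  · right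
    rw [← Submodule.eq_of_le_of_finrank_eq (inf_le_left : f.fix a ⊓ f.fix b ≤ f.fix a) (by omega)]
    exact Submodule.eq_of_le_of_finrank_eq inf_le_right (by omega)

/-- An element normalising `W` and fixing the half pointwise acts on `W` trivially. -/
theorem HalfHyp.conj_apply_eq (h : HalfHyp f x y W) {n : K}
    (hn : ∀ u ∈ f.fixAll W, f.ρ n u = u) {w : K} (hw : w ∈ W) :
    f.ρ (n * w * n⁻¹) = f.ρ w := by
  refine LinearMap.ext fun u => ?_
  obtain ⟨v, rfl⟩ : ∃ v, f.ρ n v = u := ⟨_, f.cancel_inv n u⟩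
  rw [f.mul_apply, f.mul_apply, f.inv_cancel]
  have hd : f.ρ w v + v ∈ f.fixAll W := h.add_mem hw v
  have h1 : f.ρ n (f.ρ w v) = f.ρ n v + (f.ρ w v + v) := by
    conv_lhs => rw [show f.ρ w v = (f.ρ w v + v) + v by rw [add_assoc, add_self, add_zero]]
    rw [map_add, hn _ hd, add_comm]
  have h2 : f.ρ n v + v ∈ f.fixAll W := by
    have hm : f.ρ n v + v ∈ f.β.orthogonal (f.fix n) := f.mov_le_orthogonal n (f.mem_mov.2 ⟨v, rfl⟩)
    rw [← h.orthogonal_fixAll]
    exact LinearMap.BilinForm.orthogonal_le (fun u hu => f.mem_fix.2 (hn u hu)) hm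
  have h3 := f.mem_fixAll.1 h2 w hw
  rw [map_add] at h3
  rw [h1]
  calc f.ρ n v + (f.ρ w v + v) = (f.ρ n v + v) + f.ρ w v := by abel
    _ = f.ρ w (f.ρ n v) := by rw [← h3, add_assoc, add_self, add_zero]

/-- An element of order five fixes a subspace of dimension two of the half. -/
theorem HalfHyp.finrank_fix_five (h : HalfHyp f x y W) {c : K}
    (hc : c ∈ Subgroup.normalizer (W : Set K)) (h5 : c ^ 5 = 1)
    (hne : ∃ u ∈ f.fixAll W, f.ρ c u ≠ u) :
    finrank (ZMod 2) ↥(f.fixAll W ⊓ f.fix c) = 2 := by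
  haveI : Fact (Nat.Prime 5) := ⟨by norm_num⟩
  have hm := f.pow_finrank_modEq h5 (inv_of_normalizer (f := f) hc)
  obtain ⟨m, hm2⟩ := f.even_finrank (f.inv_inf (f.inv_p_fixAll W) (f.inv_p_fix c))
  have hlt : finrank (ZMod 2) ↥(f.fixAll W ⊓ f.fix c) < 6 := by
    have hle := Submodule.finrank_mono (inf_le_left : f.fixAll W ⊓ f.fix c ≤ f.fixAll W)
    rw [h.finrank_fixAll] at hle
    refine lt_of_le_of_ne hle fun e => ?_
    obtain ⟨u, hu, hu'⟩ := hne
    have := Submodule.eq_of_le_of_finrank_eq (inf_le_left : f.fixAll W ⊓ f.fix c ≤ f.fixAll W)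
      (e.trans h.finrank_fixAll.symm)
    rw [← this] at hu
    exact hu' (f.mem_fix.1 hu.2)
  rw [h.finrank_fixAll, hm2] at hm
  rw [hm2] at hlt ⊢
  rcases (by omega : m = 0 ∨ m = 1 ∨ m = 2) with rfl | rfl | rfl
  · exact absurd hm (by decide)
  · rfl
  · exact absurd hm (by decide)

/-- `3 ^ (1 + 2)` fixes no point of the half. -/
theorem HalfHyp.not_point (h : HalfHyp f x y W) {u : V} (hu : u ≠ 0) :
    ¬ ((∃ i : ℕ, f.ρ x u = f.ρ (f.p ^ i) u) ∧ ∃ j : ℕ, f.ρ y u = f.ρ (f.p ^ j) u) := by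
  rintro ⟨⟨i, hi⟩, ⟨j, hj⟩⟩
  set U : Submodule (ZMod 2) V := Submodule.span (ZMod 2) {u, f.ρ f.p u}
  have hu1 : u ∈ U := Submodule.subset_span (Or.inl rfl)
  have hpu : f.ρ f.p u ∈ U := Submodule.subset_span (Or.inr rfl)
  have hp2 : f.ρ f.p (f.ρ f.p u) ∈ U := by
    have := f.p_sum u
    rw [show f.ρ f.p (f.ρ f.p u) = u + f.ρ f.p u by
      rw [← sub_eq_zero, sub_eq_add, add_comm]; exact this]
    exact U.add_mem hu1 hpu
  have key : ∀ k : K, k * f.p = f.p * k → f.ρ k u ∈ U → f.ρ k (f.ρ f.p u) ∈ U → f.Inv k U := by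
    intro k _ h1 h2 v hv
    exact (Submodule.span_le (p := U.comap (f.ρ k))).2 (by
      rintro w (rfl | rfl)
      exacts [h1, h2]) hv
  have hpI : f.Inv f.p U := key _ rfl hpu hp2
  have hI : ∀ (k : K) (i : ℕ), f.ρ k u = f.ρ (f.p ^ i) u → f.Inv k U := fun k i hk =>
    key k (f.cen k) (hk ▸ f.inv_pow hpI i u hu1)
      (by rw [f.p_comm, hk]; exact hpI _ (f.inv_pow hpI i u hu1))
  have hd := f.six_dvd h.y_cube h.rel (hI x i hi) (hI y j hj) hpI
  have h2 : finrank (ZMod 2) U ≤ 2 := by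
    classical
    have : U = Submodule.span (ZMod 2) (↑({u, f.ρ f.p u} : Finset V)) := by simp [U]
    rw [this]
    exact (finrank_span_finset_le_card _).trans Finset.card_le_two
  have h1 : finrank (ZMod 2) U ≠ 0 := fun e => hu (by
    have := Submodule.finrank_eq_zero.1 e
    rw [this] at hu1
    exact (Submodule.mem_bot _).1 hu1)
  have := Nat.le_of_dvd (by omega) hd
  omega

end Half

end Form

section Line

variable {A : Type*} [Group A] [Finite A] {M W : Subgroup A}

/-- A map on the nontrivial elements of a hexad group compatible with products and conjugation is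
constant or injective. -/
theorem HexData.inj_of_mul {α : Type*} (hW : HexData A M W) (φ : A → α)
    (hmul : ∀ a ∈ W, ∀ b ∈ W, a ≠ 1 → b ≠ 1 → a ≠ b → φ a = φ b → φ (a * b) = φ a)
    (hequiv : ∀ g ∈ M ⊓ Subgroup.normalizer (W : Set A), ∀ a ∈ W, ∀ b ∈ W, φ a = φ b →
      φ (g * a * g⁻¹) = φ (g * b * g⁻¹))
    (hnc : ∃ a ∈ W, ∃ b ∈ W, a ≠ 1 ∧ b ≠ 1 ∧ φ a ≠ φ b) {a b : A} (ha : a ∈ W) (hb : b ∈ W)
    (ha1 : a ≠ 1) (hb1 : b ≠ 1) (hφ : φ a = φ b) : a = b := by
  classical
  by_contra hab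
  have hsq : ∀ x ∈ W, x * x = 1 := fun x hx => by
    rw [← pow_two]; exact hW.elem.2 x hx
  have hconj : ∀ g ∈ M ⊓ Subgroup.normalizer (W : Set A), ∀ x ∈ W, g * x * g⁻¹ ∈ W :=
    fun g hg x hx => (Subgroup.mem_normalizer_iff.1 (Subgroup.mem_inf.1 hg).2 x).1 hx
  -- the class of a value, with the identity, is a subgroup
  let S : α → Subgroup A := fun v =>
    { carrier := {x | x ∈ W ∧ (x = 1 ∨ φ x = v)}
      one_mem' := ⟨one_mem _, Or.inl rfl⟩
      mul_mem' := by
        rintro x y ⟨hx, hx'⟩ ⟨hy, hy'⟩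
        refine ⟨mul_mem hx hy, ?_⟩
        rcases eq_or_ne x 1 with rfl | hx1
        · rwa [one_mul]
        rcases eq_or_ne y 1 with rfl | hy1
        · rwa [mul_one]
        rcases eq_or_ne x y with rfl | hxy
        · exact Or.inl (hsq x hx)
        refine Or.inr ?_
        rw [hmul x hx y hy hx1 hy1 hxy ((hx'.resolve_left hx1).trans (hy'.resolve_left hy1).symm)]
        exact hx'.resolve_left hx1
      inv_mem' := by
        rintro x ⟨hx, hx'⟩
        rw [inv_eq_of_mul_eq_one_left (hsq x hx)]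
        exact ⟨hx, hx'⟩ }
  have hba : a * b ≠ 1 := fun e => hab (by
    rw [← inv_eq_of_mul_eq_one_left (hsq b hb)]; exact eq_inv_of_mul_eq_one_left e)
  let L : Subgroup A := Subgroup.closure {a, b}
  have hLS : L ≤ S (φ a) := (Subgroup.closure_le _).2 (by
    rintro x (rfl | rfl)
    exacts [⟨ha, Or.inr rfl⟩, ⟨hb, Or.inr hφ.symm⟩])
  have hL4 : Nat.card L = 4 := by
    have hcomm : a * b = b * a := by
      have := hW.elem.1
      exact congrArg Subtype.val (mul_comm' (⟨a, ha⟩ : W) ⟨b, hb⟩)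
    let T : Subgroup A :=
      { carrier := {x | x = 1 ∨ x = a ∨ x = b ∨ x = a * b}
        one_mem' := Or.inl rfl
        mul_mem' := by
          have e1 := hsq a ha
          have e2 := hsq b hb
          rintro x y (rfl | rfl | rfl | rfl) (rfl | rfl | rfl | rfl) <;>
            simp only [one_mul, mul_one, Set.mem_ofPred_eq, true_or, or_true, e1, e2]
          · exact Or.inr (Or.inr (Or.inl (by rw [← mul_assoc, e1, one_mul])))
          · exact Or.inr (Or.inr (Or.inr hcomm.symm))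
          · exact Or.inr (Or.inl (by rw [← mul_assoc, ← hcomm, mul_assoc, e2, mul_one]))
          · exact Or.inr (Or.inr (Or.inl (by rw [hcomm, mul_assoc, e1, mul_one])))
          · exact Or.inr (Or.inl (by rw [mul_assoc, e2, mul_one]))
          · exact Or.inl (hsq _ (mul_mem ha hb))
        inv_mem' := by
          rintro x (rfl | rfl | rfl | rfl)
          · exact Or.inl inv_one
          · exact Or.inr (Or.inl (inv_eq_of_mul_eq_one_left (hsq _ ha)))
          · exact Or.inr (Or.inr (Or.inl (inv_eq_of_mul_eq_one_left (hsq _ hb))))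
          · exact Or.inr (Or.inr (Or.inr (inv_eq_of_mul_eq_one_left (hsq _ (mul_mem ha hb))))) }
    have hLT : L = T := le_antisymm ((Subgroup.closure_le _).2 (by
        rintro x (rfl | rfl)
        exacts [Or.inr (Or.inl rfl), Or.inr (Or.inr (Or.inl rfl))])) (by
      rintro x (rfl | rfl | rfl | rfl)
      exacts [one_mem _, Subgroup.subset_closure (Or.inl rfl), Subgroup.subset_closure (Or.inr rfl),
        mul_mem (Subgroup.subset_closure (Or.inl rfl)) (Subgroup.subset_closure (Or.inr rfl))])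
    have hset : (T : Set A) = ↑({1, a, b, a * b} : Finset A) := by ext x; simp [T]
    rw [hLT, ← SetLike.coe_sort_coe, hset]
    rw [Nat.card_coe_set_eq, Set.ncard_coe_finset]
    have hb' : a * b ≠ a := fun e => hb1 (mul_left_cancel (a := a) (by rw [e, mul_one]))
    have ha' : a * b ≠ b := fun e => ha1 (mul_right_cancel (b := b) (by rw [e, one_mul]))
    rw [Finset.card_insert_of_notMem (by simp [ha1.symm, hb1.symm, hba.symm]),
      Finset.card_insert_of_notMem (by simp [hab, hb'.symm]),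
      Finset.card_insert_of_notMem (by simp [ha'.symm]), Finset.card_singleton]
  -- the class has at least eight elements
  have hL : L ≤ W := hLS.trans fun x hx => hx.1
  obtain ⟨g, hg, hg2⟩ := hW.line L hL hL4
  set L' := L.map (MulAut.conj g).toMonoidHom with hL'
  have hL'4 : Nat.card L' = 4 := by
    rw [hL', Subgroup.card_map_of_injective (MulAut.conj g).injective, hL4]
  obtain ⟨c, hc, hc1⟩ : ∃ c ∈ L ⊓ L', c ≠ 1 := by
    refine (Subgroup.bot_or_exists_ne_one _).resolve_left fun e => ?_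
    rw [e, Subgroup.card_bot] at hg2; omega
  have hLmem : ∀ x ∈ L, x ≠ 1 → φ x = φ a := fun x hx hx1 => (hLS hx).2.resolve_left hx1
  have hL'S : L' ≤ S (φ a) := by
    rintro _ ⟨x, hx, rfl⟩
    refine ⟨hconj g hg x (hL hx), ?_⟩
    rcases eq_or_ne x 1 with rfl | hx1
    · exact Or.inl (map_one _)
    refine Or.inr ?_
    obtain ⟨d, hd, hd'⟩ := Subgroup.mem_map.1 (Subgroup.mem_inf.1 hc).2
    have hd1 : d ≠ 1 := fun e => hc1 (by rw [← hd', e, map_one])
    have := hequiv g hg x (hL hx) d (hL hd) ((hLmem x hx hx1).trans (hLmem d hd hd1).symm)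
    show φ (g * x * g⁻¹) = φ a
    rw [this, show g * d * g⁻¹ = c from hd']
    exact hLmem c (Subgroup.mem_inf.1 hc).1 hc1
  have h8 : ∀ v, (∃ u ∈ W, u ≠ 1 ∧ φ u = v) → 8 ≤ Nat.card (S v) := by
    rintro v ⟨u, hu, hu1, rfl⟩
    have hSa : 8 ≤ Nat.card (S (φ a)) := by
      have hd : Nat.card (S (φ a)) ∣ 16 := hW.card ▸ Subgroup.card_dvd_of_le (fun x hx => hx.1)
      have h4 : 4 < Nat.card (S (φ a)) := by
        refine lt_of_le_of_ne (hL4 ▸ Subgroup.card_le_of_le hLS) fun e => ?_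
        have e1 := Subgroup.eq_of_le_of_card_ge hLS (by rw [hL4, ← e])
        have e2 := Subgroup.eq_of_le_of_card_ge hL'S (by rw [hL'4, ← e])
        rw [e2.trans e1.symm, inf_idem, hL4] at hg2
        omega
      have hle : Nat.card (S (φ a)) ≤ 16 := Nat.le_of_dvd (by norm_num) hd
      revert hd h4 hle
      generalize Nat.card (S (φ a)) = k
      intro hd h4 hle
      interval_cases k <;> omega
    obtain ⟨h, hh, e⟩ := hW.trans a ha u hu ha1 hu1
    refine hSa.trans ?_
    have hle : (S (φ a)).map (MulAut.conj h).toMonoidHom ≤ S (φ u) := by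
      rintro _ ⟨x, ⟨hx, hx'⟩, rfl⟩
      refine ⟨hconj h hh x hx, ?_⟩
      rcases hx' with rfl | hx'
      · exact Or.inl (map_one _)
      · refine Or.inr ?_
        show φ (h * x * h⁻¹) = φ u
        rw [hequiv h hh x hx a ha hx', e]
    exact (Subgroup.card_map_of_injective (MulAut.conj h).injective).ge.trans
      (Subgroup.card_le_of_le hle)
  obtain ⟨u, hu, v, hv, hu1, hv1, huv⟩ := hnc
  have key : ∀ u ∈ W, u ≠ 1 → φ u = φ a := by
    intro u hu hu1
    have h1 := h8 (φ u) ⟨u, hu, hu1, rfl⟩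
    have h2 := h8 (φ a) ⟨a, ha, ha1, rfl⟩
    by_contra hne
    have hdis : ∀ x, x ∈ S (φ u) → x ∈ S (φ a) → x = 1 := by
      rintro x ⟨-, hx⟩ ⟨-, hy⟩
      by_contra hx1
      exact hne ((hx.resolve_left hx1).symm.trans (hy.resolve_left hx1))
    have hinj : Function.Injective
        (fun q : S (φ u) × S (φ a) => (⟨q.1.1 * q.2.1, mul_mem q.1.2.1 q.2.2.1⟩ : W)) := by
      rintro ⟨⟨p, hp⟩, ⟨q, hq⟩⟩ ⟨⟨p', hp'⟩, ⟨q', hq'⟩⟩ he
      have he' : p * q = p' * q' := congrArg Subtype.val he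
      have h3 : p'⁻¹ * p = q' * q⁻¹ := by
        calc p'⁻¹ * p = p'⁻¹ * (p * q) * q⁻¹ := by group
          _ = q' * q⁻¹ := by rw [he']; group
      have h4 := hdis _ (mul_mem (inv_mem hp') hp) (h3 ▸ mul_mem hq' (inv_mem hq))
      have h5 : p = p' := (inv_mul_eq_one.1 h4).symm
      subst h5
      have h6 : q = q' := mul_left_cancel he'
      subst h6
      rfl
    have h3 := Nat.card_le_card_of_injective _ hinj
    rw [Nat.card_prod, hW.card] at h3
    nlinarith
  exact huv ((key u hu hu1).trans (key v hv hv1).symm)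

end Line

end Cfsg.Agent.H98.JFour
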