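import Cfsg.Agent.H98.JFour.ReachAll
import Cfsg.Agent.H98.JFour.CentShape
import Cfsg.Agent.H98.JFour.FullSetup
import Cfsg.Agent.H98.JFour.OrbitsConj

/-!
The centraliser of an involution outside the class of `z`, given the one of a member of `V`.
-/

set_option autoImplicit false

namespace Cfsg.Agent.H98.JFour

open Subgroup H43.JFour

universe u v

variable {G : Type u} [Group G] [Finite G] {A : Type v} [Group A]
variable {c : Ctx G A} {M W W' : Subgroup A} {a b u : A}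

theorem Pkg.nonz_shape (h : Pkg c M W) (h' : Pkg c M W') (hS : H38.JFour.SplitModel A M W W' a b u)
    (hF : HasFus c M) (hti : HexTI W) (hO : OuterInR M) [IsSimpleGroup G] (hG : ¬ IsMulCommutative G)
    (hcent : ∀ t ∈ h.V, t ≠ 1 → ¬ IsConj c.z t →
      centralizer ({t} : Set G) ≤ normalizer (h.V : Set G))
    {t : G} (ht : orderOf t = 2) (hnc : ¬ IsConj c.z t) :
    ∃ V K : Subgroup G, V ≤ centralizer ({t} : Set G) ∧ K ≤ centralizer ({t} : Set G) ∧
      centralizer ({t} : Set G) ≤ normalizer (V : Set G) ∧ Cfsg.IsElementaryAbelian 2 V ∧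
      Nat.card ↥V = 2 ^ 11 ∧ K ⊓ V = ⊥ ∧ K ⊔ V = centralizer ({t} : Set G) ∧
      Nonempty (↥K ≃* MulAut ↥Cfsg.Spor.M22) := by
  obtain ⟨s, hs⟩ := Set.nonempty_of_ncard_ne_zero (s := h.fib h.rest 1)
    (by rw [(h.rest_A7 hF).1]; norm_num)
  have hsV : s ∈ h.V := h.rest_inv.sub hs.1
  have hs1 : s ≠ 1 := hs.1.1.2
  have hsz : ¬ IsConj c.z s := fun e => hs.1.2 (h.fusion hsV e)
  obtain ⟨g, hg⟩ := isConj_iff.1 (h.conj_of_not_z hF hti hO hG ht hnc hsV hs1 hsz).symm
  obtain ⟨hVC, K, hKC, hKV, hsup, ⟨φ⟩⟩ := h.cent_shape h' hS hF hsV hs1 hsz (hcent s hsV hs1 hsz)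
  set e : G ≃* G := MulAut.conj g
  have hC : (centralizer ({s} : Set G)).map e.toMonoidHom = centralizer ({t} : Set G) := by
    rw [Ctx.map_centralizer_conj, Set.image_singleton, hg]
  refine ⟨h.V.map e.toMonoidHom, K.map e.toMonoidHom, ?_, ?_, ?_, H98.JFour.map_conj_elem h.elem_V g, ?_,
    ?_, ?_, ⟨(K.equivMapOfInjective e.toMonoidHom e.injective).symm.trans φ⟩⟩
  · rw [← hC]; exact map_mono hVC
  · rw [← hC]; exact map_mono hKC
  · rw [← hC, H85.AutM22.norm_map_e]; exact map_mono (hcent s hsV hs1 hsz)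
  · rw [Subgroup.card_map_of_injective e.injective, h.card_V]
  · rw [← map_inf _ _ _ e.injective, hKV, Subgroup.map_bot]
  · rw [← Subgroup.map_sup, hsup, hC]

end Cfsg.Agent.H98.JFour
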