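import Cfsg.Agent.H98.JFour.Reach

/-!
Every involution is conjugate into `V`: the elements of `H` outside `E`.
-/

set_option autoImplicit false
set_option linter.style.haveILetI false

namespace Cfsg.Agent.H98.JFour

open Subgroup H43.JFour
open scoped Pointwise commutatorElement

universe u v

variable {G : Type u} [Group G] [Finite G] {A : Type v} [Group A]
variable {c : Ctx G A} {M W : Subgroup A}

namespace Pkg

/-- An element of order three centralising `w` and acting trivially on `A₇` over the commutator space. -/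
theorem exists_three_triv (h : Pkg c M W) (hti : HexTI W) {w : G} (hw : w ∈ h.E5) (h1 : c.pr w ≠ 1) :
    ∃ s ∈ c.H, s ^ 3 = 1 ∧ s ≠ 1 ∧ s * w = w * s ∧ (∀ a ∈ h.A7, s * a * s⁻¹ ∈ h.A7) ∧
      ∀ a ∈ h.A7, s * a * s⁻¹ * a⁻¹ ∈ h.hc.imMod w (mem_inf.1 hw.1).1 := by
  classical
  obtain ⟨s0, hs0, hs03, hs0w, hs01, hs0N⟩ := h.exists_three hti hw h1
  set K := h.hc.imMod w (mem_inf.1 hw.1).1 with hKdef
  obtain ⟨p, hp, hp1⟩ : ∃ p ∈ c.P, p ≠ 1 :=
    (Subgroup.bot_or_exists_ne_one c.P).resolve_left fun e => by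
      have := h.hc.cardP; rw [e, card_bot] at this; omega
  have hpH := h.hc.P_le hp
  have hp3 : p ^ 3 = 1 := by rw [pow_three']; exact h.hc.P_pow hp
  have hK7 : K ≤ h.A7 := h.imMod_le_A7 hw
  have hpA : ∀ a ∈ h.A7, p * a * p⁻¹ ∈ h.A7 := fun a ha => h.A7_conj_NH (h.P_le_NH hp) ha
  have hpw : p * w = w * p := h.hc.P_central hp hw.1
  have hps : Commute p s0 := h.hc.P_central hp hs0
  have hcard7 : Nat.card K = 32 :=
    (h.hc.card_fix_inner h.hd (mem_inf.1 hw.1).1 (h.hW.le hw.2.1) h1 (Or.inl (h.E5_sq hw))).2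
  -- an element outside the commutator space and its three cosets
  obtain ⟨a, ha, haK⟩ : ∃ a ∈ h.A7, a ∉ K := by
    by_contra hall
    push Not at hall
    have := Subgroup.card_le_of_le (show h.A7 ≤ K from hall)
    rw [h.card_A7, hcard7] at this
    omega
  set a1 := p * a * p⁻¹ with ha1
  set a2 := p * a1 * p⁻¹ with ha2
  have hpa2 : p * a2 * p⁻¹ = a := by
    rw [ha2, ha1, show p * (p * (p * a * p⁻¹) * p⁻¹) * p⁻¹ = p ^ 3 * a * (p ^ 3)⁻¹ by rw [pow_three']; group,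
      hp3]; group
  have hne : ∀ {b}, b ∈ h.A7 → b ∉ K → p * b * p⁻¹ * b⁻¹ ∉ K := fun hb hbK e =>
    hbK (h.coset_P hw h1 hp hp1 hb e)
  have hpK : ∀ {k}, k ∈ K → p * k * p⁻¹ ∈ K := fun hk => h.imMod_conj _ hpH hpw hk
  have ha1A : a1 ∈ h.A7 := hpA a ha
  have ha2A : a2 ∈ h.A7 := hpA a1 ha1A
  have ha1K : a1 ∉ K := fun e => haK (by
    have := hpK (hpK e)
    rwa [← ha2, hpa2] at this)
  have ha2K : a2 ∉ K := fun e => haK (by
    have := hpK e
    rwa [hpa2] at this)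
  have h12 : a1 * a⁻¹ ∉ K := hne ha haK
  have h23 : a2 * a1⁻¹ ∉ K := hne ha1A ha1K
  have h31 : a * a2⁻¹ ∉ K := by have := hne ha2A ha2K; rwa [hpa2] at this
  -- these exhaust `A₇`
  have hcover : ∀ b ∈ h.A7, b ∈ K ∨ b * a⁻¹ ∈ K ∨ b * a1⁻¹ ∈ K ∨ b * a2⁻¹ ∈ K := by
    let f : Fin 4 × K → h.A7 := fun x => ⟨(x.2 : G) * ![1, a, a1, a2] x.1,
      mul_mem (hK7 x.2.2) (by
        rcases x with ⟨i, -⟩
        fin_cases i
        exacts [one_mem _, ha, ha1A, ha2A])⟩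
    have hd : ∀ {k k' u v : G}, k ∈ K → k' ∈ K → k * u = k' * v → u * v⁻¹ ∈ K := by
      intro k k' u v hk hk' e
      rw [show u * v⁻¹ = k⁻¹ * k' by
        rw [show u = k⁻¹ * (k * u) by group, e]; group]
      exact mul_mem (inv_mem hk) hk'
    have hf : Function.Injective f := by
      rintro ⟨i, k⟩ ⟨j, k'⟩ e
      have e' : (k : G) * ![1, a, a1, a2] i = (k' : G) * ![1, a, a1, a2] j := congrArg Subtype.val e
      have hij : i = j := by
        by_contra hij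
        fin_cases i <;> fin_cases j <;> first
          | exact hij rfl
          | (have hm := hd k.2 k'.2 e'
             simp at hm
             first
               | exact haK hm | exact ha1K hm | exact ha2K hm
               | exact h12 hm | exact h23 hm | exact h31 hm
               | exact haK (by simpa using inv_mem hm) | exact ha1K (by simpa using inv_mem hm)
               | exact ha2K (by simpa using inv_mem hm)
               | exact h12 (by simpa using inv_mem hm) | exact h23 (by simpa using inv_mem hm)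
               | exact h31 (by simpa using inv_mem hm))
      subst hij
      exact Prod.ext rfl (Subtype.ext (mul_right_cancel e'))
    have hbij : Function.Bijective f := (Nat.bijective_iff_injective_and_card f).2 ⟨hf, by
      rw [Nat.card_prod, Nat.card_eq_fintype_card, Fintype.card_fin, hcard7, h.card_A7]; norm_num⟩
    intro b hb
    obtain ⟨⟨i, k⟩, e⟩ := hbij.2 ⟨b, hb⟩
    have e' : (k : G) * ![1, a, a1, a2] i = b := congrArg Subtype.val e
    fin_cases i <;> simp at e' <;> subst e'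
    · exact Or.inl k.2
    · exact Or.inr (Or.inl (by simp))
    · exact Or.inr (Or.inr (Or.inl (by simp)))
    · exact Or.inr (Or.inr (Or.inr (by simp)))
  have hs0A : ∀ b ∈ h.A7, s0 * b * s0⁻¹ ∈ h.A7 := fun b hb => h.A7_conj (c.C_le_Nh hs0) hs0N hb
  have hs0K : ∀ {k}, k ∈ K → s0 * k * s0⁻¹ ∈ K := fun hk => h.imMod_conj _ (mem_inf.1 hs0).1 hs0w hk
  -- correct `s0` by a power of `p`
  obtain ⟨q, hq, hqa⟩ : ∃ q ∈ c.P, q * (s0 * a * s0⁻¹) * q⁻¹ * a⁻¹ ∈ K := by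
    rcases hcover _ (hs0A a ha) with e | e | e | e
    · exfalso
      refine haK ?_
      have := hs0K (hs0K e)
      rwa [show s0 * (s0 * (s0 * a * s0⁻¹) * s0⁻¹) * s0⁻¹ = s0 ^ 3 * a * (s0 ^ 3)⁻¹ by
        rw [pow_three']; group, hs03, one_mul, inv_one, mul_one] at this
    · exact ⟨1, one_mem _, by simpa using e⟩
    · refine ⟨p * p, mul_mem hp hp, ?_⟩
      have := hpK (hpK e)
      rwa [show p * (p * (s0 * a * s0⁻¹ * a1⁻¹) * p⁻¹) * p⁻¹ =
        p * p * (s0 * a * s0⁻¹) * (p * p)⁻¹ * (p * (p * a1 * p⁻¹) * p⁻¹)⁻¹ by group, ← ha2, hpa2] at this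
    · refine ⟨p, hp, ?_⟩
      have := hpK e
      rwa [show p * (s0 * a * s0⁻¹ * a2⁻¹) * p⁻¹ = p * (s0 * a * s0⁻¹) * p⁻¹ * (p * a2 * p⁻¹)⁻¹ by group,
        hpa2] at this
  set s := q * s0 with hs
  have hqs : Commute q s0 := h.hc.P_central hq hs0
  have hsp : Commute s p := Commute.mul_left (h.hc.P_central hq (h.hc.P_le_C hp)) hps.symm
  have hsH : s ∈ c.H := mul_mem (h.hc.P_le hq) (mem_inf.1 hs0).1
  have hsw : s * w = w * s :=
    (Commute.mul_left (show Commute q w from h.hc.P_central hq hw.1) hs0w).eq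
  have hsK : ∀ {k}, k ∈ K → s * k * s⁻¹ ∈ K := fun hk => h.imMod_conj _ hsH hsw hk
  refine ⟨s, hsH, ?_, fun e => hs01 ?_, hsw, fun b hb => ?_, ?_⟩
  · rw [hs, hqs.mul_pow, hs03, pow_three', h.hc.P_pow hq, one_mul]
  · rw [show s0 = q⁻¹ * s by rw [hs]; group, e, mul_one]
    exact h.hc.pr_P (inv_mem hq)
  · have := h.A7_conj_NH (h.P_le_NH hq) (hs0A b hb)
    rwa [show s * b * s⁻¹ = q * (s0 * b * s0⁻¹) * q⁻¹ by rw [hs]; group]
  intro b hb
  have hsa : s * a * s⁻¹ * a⁻¹ ∈ K := by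
    rwa [show s * a * s⁻¹ = q * (s0 * a * s0⁻¹) * q⁻¹ by rw [hs]; group]
  have hstep : ∀ {u}, s * u * s⁻¹ * u⁻¹ ∈ K →
      s * (p * u * p⁻¹) * s⁻¹ * (p * u * p⁻¹)⁻¹ ∈ K := by
    intro u hu
    have := hpK hu
    rwa [show s * (p * u * p⁻¹) * s⁻¹ * (p * u * p⁻¹)⁻¹ = p * (s * u * s⁻¹ * u⁻¹) * p⁻¹ by
      rw [show s * (p * u * p⁻¹) * s⁻¹ = (s * p) * u * (s * p)⁻¹ by group, hsp.eq]; group]
  have hgen : ∀ {u}, u ∈ h.A7 → b * u⁻¹ ∈ K → s * u * s⁻¹ * u⁻¹ ∈ K → s * b * s⁻¹ * b⁻¹ ∈ K := by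
    intro u hu hbu hsu
    rw [show s * b * s⁻¹ * b⁻¹ = s * (b * u⁻¹) * s⁻¹ * (s * u * s⁻¹ * u⁻¹) * (b * u⁻¹)⁻¹ by group]
    exact mul_mem (mul_mem (hsK hbu) hsu) (inv_mem hbu)
  rcases hcover b hb with e | e | e | e
  · exact hgen (one_mem _) (by simpa using e) (by simp)
  · exact hgen ha e hsa
  · exact hgen ha1A e (hstep hsa)
  · exact hgen ha2A e (hstep (hstep hsa))

/-- An inner involution of `H` is conjugate into `V`. -/
theorem reach_inner (h : Pkg c M W) (hti : HexTI W) [IsSimpleGroup G] (hG : ¬ IsMulCommutative G)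
    {x : G} (hx : x ∈ c.H) (h2 : x * x = 1) (hM : c.pr x ∈ M) (h1 : c.pr x ≠ 1) : h.Reach x := by
  haveI : Fact (Nat.Prime 2) := ⟨Nat.prime_two⟩
  haveI : Fact (Nat.Prime 3) := ⟨Nat.prime_three⟩
  obtain ⟨w, hw, hwM, hwo⟩ := h.exists_w
  have hw1 : c.pr w ≠ 1 := fun e => by rw [e, orderOf_one] at hwo; omega
  have hxo : orderOf (c.pr x) = 2 :=
    orderOf_eq_prime (by rw [pow_two, ← h.hc.pr_mul _ hx _ hx, h2, h.hc.pr_one]) h1
  obtain ⟨g, hg, eg⟩ := h.hd.invol _ hM _ hwM hxo hwo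
  obtain ⟨n, hn, rfl⟩ := h.hc.C_surj h.hd hg
  refine Reach.of_conj n ?_
  set y := n * x * n⁻¹ with hy
  have hyH : y ∈ c.H := mul_mem (mul_mem (mem_inf.1 hn).1 hx) (inv_mem (mem_inf.1 hn).1)
  have hy2 : y * y = 1 := by
    rw [hy, show n * x * n⁻¹ * (n * x * n⁻¹) = n * (x * x) * n⁻¹ by group, h2]; group
  have hwH := (mem_inf.1 hw.1).1
  have hypr : c.pr y = c.pr w := by rw [hy, h.hc.pr_conj (mem_inf.1 hn).1 hx, eg]
  have hker : y * w⁻¹ ∈ c.E ⊔ c.P := (h.hc.pr_ker _ (mul_mem hyH (inv_mem hwH))).1 (by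
    rw [h.hc.pr_mul _ hyH _ (inv_mem hwH), h.hc.pr_inv hwH, hypr, mul_inv_cancel])
  obtain ⟨e, he, p, hp, hep⟩ := exists_mul_of_mem_sup h.hc.P_norm hker
  have hpw : p * w = w * p := h.hc.P_central hp hw.1
  have hyep : y = e * p * w := by rw [← hep]; group
  have hp1 : p = 1 := by
    have hpH := h.hc.P_le hp
    have hm : p * p ∈ c.E := by
      have e2 : e * (p * (w * e * w⁻¹) * p⁻¹) * (p * p) = 1 := by
        calc e * (p * (w * e * w⁻¹) * p⁻¹) * (p * p) = e * p * w * e * (w⁻¹ * p) := by group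
          _ = e * p * w * e * (p * w) := by rw [h.E5_inv hw, hpw]
          _ = y * y := by rw [hyep]; group
          _ = 1 := hy2
      rw [eq_inv_of_mul_eq_one_right e2]
      exact inv_mem (mul_mem he (h.hc.conjE hpH (h.hc.conjE hwH he)))
    have h3 := h.hc.P_pow hp
    have h4 : p * p ∈ zpowers c.z := by
      rw [← h.hc.E_inf_C]; exact mem_inf.2 ⟨hm, mul_mem (h.hc.P_le_C hp) (h.hc.P_le_C hp)⟩
    rcases h.hc.mem_zp.1 h4 with e1 | e1
    · rw [e1, one_mul] at h3; exact h3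
    · exfalso
      rw [e1] at h3
      have hpz : p = c.z := by
        calc p = c.z * (c.z * p) := by rw [← mul_assoc, h.hc.z_sq, one_mul]
          _ = c.z := by rw [h3, mul_one]
      rw [hpz, h.hc.z_sq] at e1
      exact h.hc.z_ne e1.symm
  rw [hp1, mul_one] at hyep
  -- `e` is fixed modulo `z`
  have hwe : w * e * w⁻¹ = e⁻¹ := by
    rw [h.E5_inv hw]
    refine eq_inv_of_mul_eq_one_right ?_
    rw [hyep] at hy2
    calc e * (w * e * w) = e * w * (e * w) := by group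
      _ = 1 := hy2
  have hefix : e ∈ h.hc.fixMod w := ⟨he, by rw [hwe]; exact h.hc.eqz_inv_self he⟩
  obtain ⟨s, hsH, hs3, hs1, hsw, hsA, hsK⟩ := h.exists_three_triv hti hw hw1
  set K := h.hc.imMod w hwH with hKdef
  have hsK' : ∀ {k}, k ∈ K → s * k * s⁻¹ ∈ K := fun hk => h.imMod_conj hwH hsH hsw hk
  have hfixc : ∀ {f}, f ∈ h.hc.fixMod w → ∀ {k}, k ∈ K → ⁅f, k⁆ = 1 := fun hf k hk => by
    rw [h.hc.fixMod_eq hwH (h.hc.involMod_of_sq (Or.inl (h.E5_sq hw)))] at hf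
    exact commutatorElement_eq_one_iff_mul_comm.2 (mem_centralizer_iff.1 (mem_inf.1 hf).2 k hk).symm
  -- `d` lies in `A₇`
  set d := s * e * s⁻¹ * e⁻¹ with hd
  have hse : s * e * s⁻¹ ∈ c.E := h.hc.conjE hsH he
  have hdA : d ∈ h.A7 := by
    rw [← h.A7_cent]
    refine mem_inf.2 ⟨mul_mem hse (inv_mem he), mem_centralizer_iff.2 fun b hb => ?_⟩
    have hbE := (mem_inf.1 hb).1
    refine (commutatorElement_eq_one_iff_mul_comm.1 ?_).symm
    rw [hd, h.hc.bz_mul_left hse (inv_mem he) hbE,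
      h.hc.bz_congr_left he hbE (h.hc.eqz_inv_self he)]
    have hsi : s⁻¹ * b * s⁻¹⁻¹ ∈ h.A7 := by
      have h1 := hsA _ (hsA b hb)
      rwa [show s * (s * b * s⁻¹) * s⁻¹ = s⁻¹ * (s ^ 3 * b * (s ^ 3)⁻¹) * s⁻¹⁻¹ by rw [pow_three']; group,
        hs3, one_mul, inv_one, mul_one] at h1
    set b' := s⁻¹ * b * s⁻¹⁻¹ with hb'
    have hb'E := (mem_inf.1 hsi).1
    have hbb : b = s * b' * s⁻¹ := by rw [hb']; group
    have hk : s * b' * s⁻¹ * b'⁻¹ ∈ K := hsK b' hsi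
    rw [← hbb] at hk
    have hkE := mul_mem hbE (inv_mem hb'E)
    have h5 : ⁅s * e * s⁻¹, b⁆ = ⁅e, b'⁆ := by rw [hbb, h.hc.bz_conj hsH he hb'E]
    have h6 : ⁅e, b⁆ = ⁅e, b * b'⁻¹⁆ * ⁅e, b'⁆ := by
      rw [← h.hc.bz_mul_right he hkE hb'E]; simp
    rw [h5, h6, hfixc hefix hk, one_mul]
    exact h.hc.bz_sq he hb'E
  have hdK : d ∈ K := by
    have h1 : s * d * s⁻¹ * d⁻¹ ∈ K := hsK d hdA
    have hsd := hsA d hdA
    have h2 := hsA _ hsd
    have h3 : s * (s * d * s⁻¹) * s⁻¹ * (s * d * s⁻¹) * d = 1 := by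
      rw [hd, show s * (s * (s * e * s⁻¹ * e⁻¹) * s⁻¹) * s⁻¹ * (s * (s * e * s⁻¹ * e⁻¹) * s⁻¹) *
        (s * e * s⁻¹ * e⁻¹) = s ^ 3 * e * (s ^ 3)⁻¹ * e⁻¹ by rw [pow_three']; group, hs3]
      group
    have h4 : s * (s * d * s⁻¹) * s⁻¹ * (s * d * s⁻¹)⁻¹ ∈ K := by
      have := hsK' h1
      rwa [show s * (s * d * s⁻¹ * d⁻¹) * s⁻¹ = s * (s * d * s⁻¹) * s⁻¹ * (s * d * s⁻¹)⁻¹ by group] at this
    have hsq : (s * d * s⁻¹) * (s * d * s⁻¹) = 1 := h.A7_sq hsd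
    have h7 : (s * d * s⁻¹)⁻¹ = s * d * s⁻¹ := inv_eq_of_mul_eq_one_left hsq
    rw [h7] at h4
    rw [eq_inv_of_mul_eq_one_right h3]
    exact inv_mem h4
  -- the orbit of `y` is invariant
  obtain ⟨v, hv, ev⟩ := (show d ∈ h.hc.imMod w hwH from hdK)
  have hmove : ∃ v ∈ c.E, c.Eqz (v * y * v⁻¹) (s * y * s⁻¹) := by
    have hsy : s * y * s⁻¹ = d * e * w := by
      rw [hyep, hd, show s * (e * w) * s⁻¹ = s * e * s⁻¹ * (s * w * s⁻¹) by group, hsw, mul_inv_cancel_right]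
      group
    refine ⟨v, hv, ?_⟩
    rw [hsy, hyep, show v * (e * w) * v⁻¹ = v * e * v⁻¹ * (v * (w * v⁻¹ * w⁻¹)) * w by group]
    have hX := h.hc.cm_mem hwH hv
    have hve : c.Eqz (v * e * v⁻¹) e := by
      rcases h.hc.swap hv he with e1 | e1
      · exact Or.inl (by rw [e1, mul_inv_cancel_right])
      · exact h.hc.eqz_symm (Or.inr (by rw [e1, mul_assoc c.z, mul_inv_cancel_right]))
    refine h.hc.eqz_mul ?_ ?_ (Ctx.Eqz.refl c w)
    · exact h.hc.le_H (mul_mem (mul_mem (mul_mem hv he) (inv_mem hv)) hX)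
    · refine h.hc.eqz_trans (h.hc.eqz_mul (h.hc.le_H (mul_mem (mul_mem hv he) (inv_mem hv))) hve ev) ?_
      exact h.hc.eqz_comm (h.hc.eqz_mem hX ev) he
  obtain ⟨u, hu, hsu⟩ := h.exists_fixed hyH hsH hs3 hmove
  refine Reach.of_conj u (h.reach_of_three hG ?_ ?_ (orderOf_eq_prime hs3 hs1) hsu)
  · rw [show u * y * u⁻¹ * (u * y * u⁻¹) = u * (y * y) * u⁻¹ by group, hy2]; group
  · intro e1
    rw [mul_inv_eq_one] at e1
    exact hw1 (by rw [← hypr, mul_eq_left.1 e1, h.hc.pr_one])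

/-- An involution of `H` outside the inner part is conjugate into `V`. -/
theorem reach_outer (h : Pkg c M W) (hF : HasFus c M) (hti : HexTI W) (hO : OuterInR M) {x : G}
    (hx : x ∈ c.H) (h2 : x * x = 1) (hM : c.pr x ∉ M) : h.Reach x := by
  classical
  haveI : Fact (Nat.Prime 2) := ⟨Nat.prime_two⟩
  haveI := h.hd.normal
  obtain ⟨e0, he0, hez, hcj, -⟩ := id hF
  obtain ⟨g, rfl⟩ := isConj_iff.1 hcj
  have π : Ctx.Duo c (c.conj g) := ⟨h.hc, h.hc.conj g, he0, hez⟩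
  set d := c.conj g with hd
  have hdOk : d.Ok := h.hc.conj g
  have π' := π.symm h.hd
  have hR := π'.isR h.hd
  have hxo : orderOf (c.pr x) = 2 := orderOf_eq_prime
    (by rw [pow_two, ← h.hc.pr_mul _ hx _ hx, h2, h.hc.pr_one]) fun e => hM (e ▸ one_mem _)
  obtain ⟨γ, hγ⟩ := hO _ hM hxo _ hR
  obtain ⟨u, hu, hupr⟩ := (h.hc.mem_img π'.Cs_le_H).1 hγ
  obtain ⟨huE, -⟩ := π'.mem_Cs.1 hu
  have huH : u ∈ c.H := π'.Cs_le_H hu
  have hu1 : c.pr u ≠ 1 := fun e => hM (by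
    rw [hupr, mul_inv_eq_one] at e
    rw [show c.pr x = 1 from mul_eq_left.1 e]; exact one_mem _)
  obtain ⟨n, hn, rfl⟩ := h.hc.pr_surj γ
  refine Reach.of_conj n ?_
  set y := n * x * n⁻¹ with hy
  have hyH : y ∈ c.H := mul_mem (mul_mem hn hx) (inv_mem hn)
  have hy2 : y * y = 1 := by
    rw [hy, show n * x * n⁻¹ * (n * x * n⁻¹) = n * (x * x) * n⁻¹ by group, h2]; group
  have hypr : c.pr y = c.pr u := by rw [hy, h.hc.pr_conj hn hx, hupr]
  have hyM : c.pr y ∉ M := fun e => hM (by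
    rw [hy, h.hc.pr_conj hn hx] at e
    have := ‹M.Normal›.conj_mem _ e (c.pr n)⁻¹
    rwa [show (c.pr n)⁻¹ * (c.pr n * c.pr x * (c.pr n)⁻¹) * (c.pr n)⁻¹⁻¹ = c.pr x by group] at this)
  -- an involution over the image
  obtain ⟨u', hu'E, hu'H, hu'2, hu'pr⟩ : ∃ u' ∈ d.E, u' ∈ c.H ∧ u' * u' = 1 ∧ c.pr u' = c.pr u := by
    rcases hdOk.sq_mem huE with e | e
    · exact ⟨u, huE, huH, e, rfl⟩
    obtain ⟨a, ha, hau⟩ : ∃ a ∈ c.E ⊓ d.E, u * a * u⁻¹ * a⁻¹ ≠ 1 := by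
      by_contra hall
      push Not at hall
      refine hu1 (h.hc.pr_E ?_)
      have hzA : d.z ∈ c.E ⊓ d.E := mem_inf.2 ⟨π.mem, hdOk.z_mem⟩
      have hc1 := hdOk.card_cent (c.E ⊓ d.E) inf_le_right hzA
      rw [π.card_inf h.hd] at hc1
      have hle : c.E ⊓ d.E ≤ d.E ⊓ centralizer ((c.E ⊓ d.E : Subgroup G) : Set G) := fun a ha =>
        mem_inf.2 ⟨(mem_inf.1 ha).2, mem_centralizer_iff.2 fun b hb => by
          have e1 := π.inf_elem.1 _ (mul_mem hb ha)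
          calc b * a = (b * a)⁻¹ := (inv_eq_of_mul_eq_one_left e1).symm
            _ = a * b := by
              rw [mul_inv_rev, inv_eq_of_mul_eq_one_left (π.inf_elem.1 a ha),
                inv_eq_of_mul_eq_one_left (π.inf_elem.1 b hb)]⟩
      have heq := Subgroup.eq_of_le_of_card_ge hle (by rw [π.card_inf h.hd]; omega)
      have hum : u ∈ d.E ⊓ centralizer ((c.E ⊓ d.E : Subgroup G) : Set G) :=
        mem_inf.2 ⟨huE, mem_centralizer_iff.2 fun b hb => (mul_inv_eq_iff_eq_mul.1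
          (mul_inv_eq_one.1 (hall b hb))).symm⟩
      rw [← heq] at hum
      exact (mem_inf.1 hum).1
    obtain ⟨haE, had⟩ := mem_inf.1 ha
    have hcm : u * a * u⁻¹ = d.z * a := mul_inv_eq_iff_eq_mul.1
      ((hdOk.comm_mem huE had).resolve_left hau)
    refine ⟨u * a, mul_mem huE had, mul_mem huH (h.hc.le_H haE), ?_, ?_⟩
    · calc u * a * (u * a) = u * a * u⁻¹ * (u * u) * a := by group
        _ = d.z * (a * d.z) * a := by rw [hcm, e]; group
        _ = d.z * d.z * (a * a) := by rw [← hdOk.z_comm had]; group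
        _ = 1 := by rw [hdOk.z_sq, π.inf_elem.1 a ha, one_mul]
    · rw [h.hc.pr_mul _ huH _ (h.hc.le_H haE), h.hc.pr_E haE, mul_one]
  -- move into the coset of `E`
  have hker : y * u'⁻¹ ∈ c.E ⊔ c.P := (h.hc.pr_ker _ (mul_mem hyH (inv_mem hu'H))).1 (by
    rw [h.hc.pr_mul _ hyH _ (inv_mem hu'H), h.hc.pr_inv hu'H, hu'pr, hypr, mul_inv_cancel])
  obtain ⟨e, he, p, hp, hep⟩ := exists_mul_of_mem_sup h.hc.P_norm hker
  obtain ⟨f, hf, m, hm, hmC, hym⟩ := h.hc.outer_split h.hd hyH hyM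
  have hpH := h.hc.P_le hp
  refine Reach.of_conj p ?_
  set e2 := p * (f * (p * f⁻¹ * p⁻¹)) * p⁻¹ * (p * p * e * (p * p)⁻¹) with he2
  have he2E : e2 ∈ c.E := mul_mem (h.hc.conjE hpH (mul_mem hf (h.hc.conjE hpH (inv_mem hf))))
    (h.hc.conjE (mul_mem hpH hpH) he)
  have hy3 : p * y * p⁻¹ = e2 * u' := by
    have hinv : m * p⁻¹ * m⁻¹ = p := by
      rw [h.hc.inverts hm hmC (inv_mem hp), inv_inv]
    calc p * y * p⁻¹ = p * (y * p⁻¹ * y⁻¹) * y := by group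
      _ = p * (f * (m * p⁻¹ * m⁻¹) * f⁻¹) * (y * u'⁻¹) * u' := by rw [hym]; group
      _ = p * (f * p * f⁻¹) * (e * p) * u' := by rw [hinv, hep]
      _ = e2 * (p * p * p) * u' := by rw [he2]; group
      _ = e2 * u' := by rw [h.hc.P_pow hp, mul_one]
  rw [hy3]
  have h22 : e2 * u' * (e2 * u') = 1 := by
    rw [← hy3, show p * y * p⁻¹ * (p * y * p⁻¹) = p * (y * y) * p⁻¹ by group, hy2]; group
  have hue : u' * e2 * u'⁻¹ = e2⁻¹ := by
    rw [inv_eq_of_mul_eq_one_left hu'2]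
    refine eq_inv_of_mul_eq_one_right ?_
    calc e2 * (u' * e2 * u') = e2 * u' * (e2 * u') := by group
      _ = 1 := h22
  have hfix : e2 ∈ h.hc.fixMod u' := ⟨he2E, by rw [hue]; exact h.hc.eqz_inv_self he2E⟩
  rw [← (h.hc.card_fix_outer h.hd hu'H (by rw [hu'pr, ← hypr]; exact hyM)
    (h.hc.involMod_of_sq (Or.inl hu'2))).2.2] at hfix
  obtain ⟨v, hv, ev⟩ := hfix
  refine Reach.of_conj v⁻¹ ?_
  set q := v⁻¹ * (e2 * u') * v⁻¹⁻¹ with hq
  have hqd : q ∈ d.E := by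
    rcases ev with e1 | e1
    · rw [hq, e1, show v⁻¹ * (v * (u' * v⁻¹ * u'⁻¹) * u') * v⁻¹⁻¹ = u' by group]; exact hu'E
    · rw [hq, e1, ← mul_assoc v⁻¹, ← mul_assoc v⁻¹, ← h.hc.z_comm (inv_mem hv),
        show c.z * v⁻¹ * (v * (u' * v⁻¹ * u'⁻¹)) * u' * v⁻¹⁻¹ = c.z * u' by group]
      exact mul_mem (π.z_mem h.hd) hu'E
  have hq2 : q * q = 1 := by
    rw [hq, show v⁻¹ * (e2 * u') * v⁻¹⁻¹ * (v⁻¹ * (e2 * u') * v⁻¹⁻¹) =
      v⁻¹ * (e2 * u' * (e2 * u')) * v⁻¹⁻¹ by group, h22]; group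
  have hq1 : q ≠ 1 := by
    intro e1
    rw [hq, mul_inv_eq_one] at e1
    have e3 : e2 * u' = 1 := mul_eq_left.1 e1
    refine hu1 ?_
    rw [← hu'pr, eq_inv_of_mul_eq_one_right e3]
    exact h.hc.pr_E (inv_mem he2E)
  refine Reach.of_conj g⁻¹ (h.reach_E hF hti ?_ ?_ fun e1 => ?_)
  · rw [inv_inv]; exact (Ctx.mem_conj_map c.E g q).1 hqd
  · rw [show g⁻¹ * q * g⁻¹⁻¹ * (g⁻¹ * q * g⁻¹⁻¹) = g⁻¹ * (q * q) * g⁻¹⁻¹ by group, hq2]; group
  · rw [mul_inv_eq_one] at e1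
    exact hq1 (mul_eq_left.1 e1)

/-- Every involution is conjugate into `V`. -/
theorem reach_all (h : Pkg c M W) (hF : HasFus c M) (hti : HexTI W) (hO : OuterInR M) [IsSimpleGroup G]
    (hG : ¬ IsMulCommutative G) {x : G} (hx : x * x = 1) (hx1 : x ≠ 1) : h.Reach x := by
  haveI : Fact (Nat.Prime 2) := ⟨Nat.prime_two⟩
  obtain ⟨T0, hT0, -, -⟩ := h.exists_sylow
  obtain ⟨T, hT⟩ := (IsPGroup.of_card (n := 1) (by
    rw [Nat.card_zpowers, pow_one]
    exact orderOf_eq_prime (by rw [pow_two]; exact hx) hx1) : IsPGroup 2 (Subgroup.zpowers x)).exists_le_sylow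
  obtain ⟨k, hk⟩ := MulAction.exists_smul_eq G T T0
  refine Reach.of_conj k ?_
  have hyT : k * x * k⁻¹ ∈ (T0 : Subgroup G) := by
    rw [← hk, Sylow.coe_subgroup_smul]
    exact Subgroup.smul_mem_pointwise_smul _ (MulAut.conj k) _ (hT (mem_zpowers x))
  set y := k * x * k⁻¹ with hy
  have hyH : y ∈ c.H := (hT0 hyT).1
  have hy2 : y * y = 1 := by
    rw [hy, show k * x * k⁻¹ * (k * x * k⁻¹) = k * (x * x) * k⁻¹ by group, hx]; group
  have hy1 : y ≠ 1 := fun e => hx1 (by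
    rw [hy, mul_inv_eq_one] at e
    exact mul_eq_left.1 e)
  by_cases hM : c.pr y ∈ M
  · by_cases h1 : c.pr y = 1
    · exact h.reach_E hF hti (h.hc.mem_E_of_pow ((h.hc.pr_ker _ hyH).1 h1) (k := 1)
        (by rw [pow_one, pow_two]; exact hy2)) hy2 hy1
    · exact h.reach_inner hti hG hyH hy2 hM h1
  · exact h.reach_outer hF hti hO hyH hy2 hM

/-- The involutions outside the class of `z` form one class. -/
theorem conj_of_not_z (h : Pkg c M W) (hF : HasFus c M) (hti : HexTI W) (hO : OuterInR M)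
    [IsSimpleGroup G] (hG : ¬ IsMulCommutative G) {x t : G} (hx : orderOf x = 2) (hxz : ¬ IsConj c.z x)
    (ht : t ∈ h.V) (ht1 : t ≠ 1) (htz : ¬ IsConj c.z t) : IsConj x t := by
  have hx2 : x * x = 1 := by rw [← pow_two, ← hx, pow_orderOf_eq_one]
  have hx1 : x ≠ 1 := fun e => by rw [e, orderOf_one] at hx; omega
  obtain ⟨v, hv, hxv⟩ := h.reach_all hF hti hO hG hx2 hx1
  have hv1 : v ≠ 1 := fun e => hx1 (isConj_one_left.1 (e ▸ hxv))
  have hvz : ¬ IsConj c.z v := fun e => hxz (e.trans hxv.symm)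
  obtain ⟨t0, ht0⟩ := Set.nonempty_of_ncard_ne_zero (s := h.fib h.rest 1)
    (by rw [(h.rest_A7 hF).1]; norm_num)
  have hmem : ∀ {u}, u ∈ h.V → u ≠ 1 → ¬ IsConj c.z u → IsConj t0 u := by
    intro u hu hu1 huz
    have hr : u ∈ h.rest := ⟨⟨hu, hu1⟩, fun e => huz (h.zOrb_isConj e)⟩
    rw [← h.rest_orbit hF ht0] at hr
    obtain ⟨m, -, e⟩ := hr
    exact isConj_iff.2 ⟨m, e⟩
  exact hxv.trans ((hmem hv hv1 hvz).symm.trans (hmem ht ht1 htz))

end Pkg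

end Cfsg.Agent.H98.JFour
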