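import Cfsg.Agent.H98.JFour.HexSetup
import Cfsg.Agent.H43.J4.Forms

/-!
`V` is the only elementary abelian subgroup of order `2 ^ 11` of a Sylow 2-subgroup.
-/

set_option autoImplicit false
set_option linter.style.haveILetI false

namespace Cfsg.Agent.H98.JFour

open Module H43.JFour Subgroup
open scoped Pointwise

universe u v

variable {G : Type u} [Group G] [Finite G] {A : Type v} [Group A]
variable {c : Ctx G A} {M W : Subgroup A}

namespace Pkg

/-- An inner element of `H` acts on `E ⧸ ⟨z⟩` as an element of `C` over it. -/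
theorem exists_C_act (h : Pkg c M W) {g : G} (hg : g ∈ c.H) (hM : c.pr g ∈ M) :
    ∃ n : c.C, c.pr (n : G) = c.pr g ∧
      ∀ a ∈ c.E, vec c (g * a * g⁻¹) = (spForm h.hc).ρ n (vec c a) := by
  obtain ⟨e, he, n, hn, rfl⟩ := h.hc.inner_split h.hd hg hM
  refine ⟨⟨n, hn⟩, ?_, fun a ha => ?_⟩
  · rw [h.hc.pr_mul _ (h.hc.le_H he) _ (mem_inf.1 hn).1, h.hc.pr_E he, one_mul]
  · rw [spForm_ρ h.hc _ ha]
    have hna := h.hc.conjE (mem_inf.1 hn).1 ha
    rw [vec_eq_iff h.hc (h.hc.conjE (mul_mem (h.hc.le_H he) (mem_inf.1 hn).1) ha) hna,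
      show e * n * a * (e * n)⁻¹ = e * (n * a * n⁻¹) * e⁻¹ by group]
    rcases h.hc.swap he hna with e1 | e1 <;> rw [e1]
    · exact Or.inl (mul_inv_cancel_right _ _)
    · exact Or.inr (by rw [mul_assoc c.z, mul_inv_cancel_right])

/-- The image in the module of a subgroup. -/
noncomputable def img (c : Ctx G A) (S : Subgroup G) : Submodule (ZMod 2) (Sp c) :=
  Submodule.span (ZMod 2) (vec c '' (S : Set G))

theorem le_pre_img {S : Subgroup G} (hS : S ≤ c.E) : S ≤ pre c (img c S) :=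
  fun a ha => ⟨hS ha, Submodule.subset_span ⟨a, ha, rfl⟩⟩

theorem card_le_img (h : Pkg c M W) {S : Subgroup G} (hS : S ≤ c.E) :
    Nat.card S ≤ 2 * 2 ^ finrank (ZMod 2) (img c S) := by
  rw [← card_pre h.hc]
  exact Subgroup.card_le_of_le (le_pre_img hS)

theorem apply_img (h : Pkg c M W) {S : Subgroup G} (hS : S ≤ c.E) {n : c.C}
    (hn : ∀ a ∈ S, (spForm h.hc).ρ n (vec c a) = vec c a) {u : Sp c} (hu : u ∈ img c S) :
    (spForm h.hc).ρ n u = u :=
  (spForm h.hc).mem_fix.1 (Submodule.span_le.2 (by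
    rintro _ ⟨a, ha, rfl⟩
    exact (spForm h.hc).mem_fix.2 (hn a ha)) hu)

/-- An abelian subgroup of `E` has order at most `2 ^ 7`. -/
theorem card_abelian_le (h : Pkg c M W) {S : Subgroup G} (hS : S ≤ c.E) (hz : c.z ∈ S)
    (hab : ∀ a ∈ S, ∀ b ∈ S, a * b = b * a) : Nat.card S ≤ 2 ^ 7 := by
  have h1 := h.hc.card_cent S hS hz
  have h2 : Nat.card S ≤ Nat.card ↥(c.E ⊓ centralizer (S : Set G)) :=
    Subgroup.card_le_of_le fun a ha =>
      mem_inf.2 ⟨hS ha, mem_centralizer_iff.2 fun b hb => hab b hb a ha⟩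
  by_contra hlt
  push Not at hlt
  have : (2 : ℕ) ^ 7 * 2 ^ 7 < Nat.card ↥(c.E ⊓ centralizer (S : Set G)) * Nat.card S :=
    Nat.mul_lt_mul'' (lt_of_lt_of_le hlt h2) hlt
  rw [h1] at this
  norm_num at this

/-- `E₅` acts on the module as its image in `A` prescribes. -/
theorem fix_of_pr (h : Pkg c M W) {n : c.C} {w : G} (hw : w ∈ h.E5) (hpr : c.pr (n : G) = c.pr w)
    {U : Submodule (ZMod 2) (Sp c)} (hU : U ≠ ⊥) (hn : ∀ u ∈ U, (spForm h.hc).ρ n u = u) :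
    ∀ u ∈ U, (spForm h.hc).ρ ⟨w, hw.1⟩ u = u := by
  haveI := finite_sp h.hc
  set f := spForm h.hc with hf
  obtain ⟨q, hq, hq'⟩ := h.ker_mem (n := (n : G) * w⁻¹) (mul_mem n.2 (inv_mem hw.1))
    (by rw [h.pr_mul_C n.2 (inv_mem hw.1), h.pr_inv_C hw.1, hpr, mul_inv_cancel])
  let w' : c.C := ⟨w, hw.1⟩
  let q' : c.C := ⟨q, h.hc.P_le_C hq⟩
  let z' : c.C := ⟨c.z, h.hc.z_mem_C⟩
  have hz1 : ∀ v, f.ρ z' v = v := fun v => by
    obtain ⟨a, ha, rfl⟩ := vec_surj c v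
    rw [hf, spForm_ρ h.hc _ ha]
    show vec c (c.z * a * c.z⁻¹) = _
    rw [h.hc.z_comm ha, mul_inv_cancel_right]
  have hact : ∀ v, f.ρ n v = f.ρ q' (f.ρ w' v) := by
    intro v
    rcases hq' with e | e
    · rw [← f.mul_apply, show n = q' * w' from Subtype.ext (mul_inv_eq_iff_eq_mul.1 e)]
    · rw [show n = z' * (q' * w') from Subtype.ext (by
        rw [mul_inv_eq_iff_eq_mul.1 e]; exact mul_assoc _ _ _), f.mul_apply, hz1, f.mul_apply]
  have hw2 : ∀ v, f.ρ w' (f.ρ w' v) = v := fun v => by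
    rw [← f.mul_apply, show w' * w' = 1 from Subtype.ext (h.E5_sq hw), f.one_apply]
  have hqq : ∀ u ∈ U, f.ρ q' (f.ρ q' u) = u := by
    intro u hu
    have h1 := hn u hu
    rw [hact] at h1
    have h2 : f.ρ q' (f.ρ w' u) = f.ρ w' (f.ρ q' u) := f.commute_apply
      (Subtype.ext (h.hc.P_central hq hw.1)) u
    calc f.ρ q' (f.ρ q' u) = f.ρ q' (f.ρ q' (f.ρ w' (f.ρ w' u))) := by rw [hw2]
      _ = f.ρ q' (f.ρ w' (f.ρ q' (f.ρ w' u))) :=
          congrArg (f.ρ q') (f.commute_apply (Subtype.ext (h.hc.P_central hq hw.1)) _)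
      _ = u := by rw [h1, h1]
  have hq1 : q = 1 := by
    by_contra hq1
    obtain ⟨u, hu, hu0⟩ := Submodule.exists_mem_ne_zero_of_ne_bot hU
    obtain ⟨a, ha, rfl⟩ := vec_surj c u
    have hq3 : q' ^ 3 = 1 :=
      Subtype.ext (orderOf_dvd_iff_pow_eq_one.1 (h.hc.cardP ▸ orderOf_dvd_natCard c.P hq))
    have h3 : f.ρ q' (vec c a) = vec c a := by
      calc f.ρ q' (vec c a) = f.ρ q' (f.ρ q' (f.ρ q' (vec c a))) := by rw [hqq _ hu]
        _ = vec c a := by
            rw [← f.mul_apply, ← f.mul_apply, show q' * q' * q' = 1 by rw [← pow_three', hq3],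
              f.one_apply]
    rw [hf, spForm_ρ h.hc _ ha] at h3
    refine hu0 ((vec_eq_zero h.hc ha).2 (h.hc.mem_zp.1 (h.hc.fpf hq hq1 ha ?_)))
    have h4 := (vec_eq_iff h.hc (h.hc.conjE (h.hc.P_le hq) ha) ha).1 h3
    exact h4
  subst hq1
  intro u hu
  have h1 := hn u hu
  rw [hact, show q' = 1 from rfl, f.one_apply] at h1
  exact h1

/-- Two distinct elements of `W` cut out the half. -/
theorem inf_fix (h : Pkg c M W) {v w : G} (hv : v ∈ h.E5) (hw : w ∈ h.E5) (hv1 : c.pr v ≠ 1)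
    (hw1 : c.pr w ≠ 1) (hne : c.pr v ≠ c.pr w) :
    (spForm h.hc).fix ⟨v, hv.1⟩ ⊓ (spForm h.hc).fix ⟨w, hw.1⟩ = h.X := by
  classical
  haveI := finite_sp h.hc
  haveI := h.finiteA
  set f := spForm h.hc with hf
  obtain ⟨x, y, -, -, hh⟩ := h.exists_half
  have hord : ∀ {u}, u ∈ h.E5 → c.pr u ≠ 1 → orderOf (c.pr u) = 2 := fun hu hu1 => by
    haveI : Fact (Nat.Prime 2) := ⟨Nat.prime_two⟩
    exact orderOf_eq_prime (by rw [pow_two]; exact h.sq_W hu.2.1) hu1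
  have h8 : ∀ {u} (hu : u ∈ h.E5), c.pr u ≠ 1 → finrank (ZMod 2) (f.fix ⟨u, hu.1⟩) = 8 :=
    fun hu hu1 => h.rank8 _ (Or.inl (h.E5_sq hu)) (hord hu hu1)
  rcases hh.dichotomy (a := (⟨v, hv.1⟩ : c.C)) (b := ⟨w, hw.1⟩) hv hw (h8 hv hv1) (h8 hw hw1) with e | e
  · exact e
  exfalso
  let lift : A → G := fun α => if hα : α ∈ W then (h.E5_surj hα).choose else 1
  have hlift : ∀ {α}, α ∈ W → lift α ∈ h.E5 ∧ c.pr (lift α) = α := fun {α} hα => by
    simp only [lift, dif_pos hα]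
    exact (h.E5_surj hα).choose_spec
  let φ : A → Submodule (ZMod 2) (Sp c) := fun α =>
    if hα : lift α ∈ c.C then f.fix ⟨lift α, hα⟩ else ⊥
  have hφ : ∀ {u} (hu : u ∈ h.E5), φ (c.pr u) = f.fix ⟨u, hu.1⟩ := by
    intro u hu
    obtain ⟨hl, hpl⟩ := hlift hu.2.1
    simp only [φ, dif_pos hl.1]
    have hz : ∀ (r : G) (hr : r ∈ c.C) (hzr : c.z * r ∈ c.C),
        f.fix ⟨c.z * r, hzr⟩ = f.fix ⟨r, hr⟩ := by
      intro r hr hzr
      ext v
      rw [f.mem_fix, f.mem_fix]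
      obtain ⟨a, ha, rfl⟩ := vec_surj c v
      rw [hf, spForm_ρ h.hc _ ha, spForm_ρ h.hc _ ha]
      have hra := h.hc.conjE (mem_inf.1 hr).1 ha
      show vec c (c.z * r * a * (c.z * r)⁻¹) = _ ↔ _
      rw [show c.z * r * a * (c.z * r)⁻¹ = c.z * (r * a * r⁻¹) * c.z⁻¹ by group,
        h.hc.z_comm hra, mul_inv_cancel_right]
    rcases h.E5_ker (mul_mem hl (inv_mem hu))
      (by rw [h.pr_mul_C hl.1 (inv_mem hu.1), h.pr_inv_C hu.1, hpl, mul_inv_cancel]) with e | e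
    · simp only [mul_inv_eq_one.1 e]
    · have e' := mul_inv_eq_iff_eq_mul.1 e
      rw [← hz u hu.1 (mul_mem h.hc.z_mem_C hu.1)]
      simp only [e']
  have hinj := h.hW.inj_of_mul φ ?_ ?_ ?_ hv.2.1 hw.2.1 hv1 hw1 (by rw [hφ hv, hφ hw, e])
  · exact hne hinj
  · intro a ha b hb ha1 hb1 hab e2
    obtain ⟨u, hu, rfl⟩ := h.E5_surj ha
    obtain ⟨t, ht, rfl⟩ := h.E5_surj hb
    rw [← h.pr_mul_C hu.1 ht.1, hφ (mul_mem hu ht), hφ hu]
    rw [hφ hu, hφ ht] at e2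
    have hut1 : c.pr (u * t) ≠ 1 := fun e3 => hab (by
      rw [h.pr_mul_C hu.1 ht.1] at e3
      rw [← inv_eq_of_mul_eq_one_left (h.sq_W hb)]
      exact eq_inv_of_mul_eq_one_left e3)
    refine (Submodule.eq_of_le_of_finrank_eq (fun x hx => ?_)
      ((h8 hu ha1).trans (h8 (mul_mem hu ht) hut1).symm)).symm
    have hx' : x ∈ f.fix ⟨t, ht.1⟩ := e2 ▸ hx
    rw [f.mem_fix] at hx hx' ⊢
    rw [show (⟨u * t, (mul_mem hu ht).1⟩ : c.C) = ⟨u, hu.1⟩ * ⟨t, ht.1⟩ from rfl, f.mul_apply, hx', hx]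
  · intro g hg a ha b hb e2
    obtain ⟨u, hu, rfl⟩ := h.E5_surj ha
    obtain ⟨t, ht, rfl⟩ := h.E5_surj hb
    obtain ⟨hgM, hgN⟩ := mem_inf.1 hg
    obtain ⟨n, hn, rfl⟩ := h.hc.C_surj h.hd hgM
    have hnH := (mem_inf.1 hn).1
    rw [← h.hc.pr_conj hnH (mem_inf.1 hu.1).1, ← h.hc.pr_conj hnH (mem_inf.1 ht.1).1,
      hφ (h.E5_conj (c.C_le_Nh hn) hgN hu), hφ (h.E5_conj (c.C_le_Nh hn) hgN ht)]
    rw [hφ hu, hφ ht] at e2
    have hc' : ∀ (r : G) (hr : r ∈ c.C) (hrr : n * r * n⁻¹ ∈ c.C) (v : Sp c),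
        v ∈ f.fix ⟨n * r * n⁻¹, hrr⟩ ↔ f.ρ (⟨n, hn⟩ : c.C)⁻¹ v ∈ f.fix ⟨r, hr⟩ := by
      intro r hr hrr v
      rw [f.mem_fix, f.mem_fix, show (⟨n * r * n⁻¹, hrr⟩ : c.C) = ⟨n, hn⟩ * ⟨r, hr⟩ * ⟨n, hn⟩⁻¹ from rfl,
        f.mul_apply, f.mul_apply]
      constructor
      · intro e3
        have := congrArg (f.ρ (⟨n, hn⟩ : c.C)⁻¹) e3
        rwa [f.inv_cancel] at this
      · intro e3
        rw [e3, f.cancel_inv]
    ext v
    rw [hc' u hu.1 _ v, hc' t ht.1 _ v, e2]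
  · by_contra hall
    push Not at hall
    have hle : f.fix ⟨v, hv.1⟩ ≤ h.X := by
      intro x hx
      refine f.mem_fixAll.2 fun r hr => ?_
      have hr' : (r : G) ∈ h.E5 := hr
      by_cases hr1 : c.pr (r : G) = 1
      · have hrho : f.ρ r = 1 := by
          rcases h.E5_ker hr' hr1 with e3 | e3
          · rw [show r = 1 from Subtype.ext e3, map_one]
          · refine LinearMap.ext fun v => ?_
            obtain ⟨a, ha, rfl⟩ := vec_surj c v
            rw [hf, spForm_ρ h.hc _ ha, e3, h.hc.z_comm ha, mul_inv_cancel_right]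
            rfl
        rw [hrho]; rfl
      · have e3 := hall (c.pr v) hv.2.1 (c.pr (r : G)) hr'.2.1 hv1 hr1
        rw [hφ hv, hφ hr'] at e3
        rw [e3] at hx
        exact f.mem_fix.1 hx
    have := Submodule.finrank_mono hle
    rw [h8 hv hv1, h.finrank_X] at this
    omega

theorem elem_sq {T : Subgroup G} (hA : Cfsg.IsElementaryAbelian 2 T) {a : G} (ha : a ∈ T) :
    a * a = 1 := by
  rw [← pow_two]; exact hA.2 a ha

theorem elem_comm {T : Subgroup G} (hA : Cfsg.IsElementaryAbelian 2 T) {a b : G} (ha : a ∈ T)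
    (hb : b ∈ T) : a * b = b * a := by
  have := hA.1
  exact congrArg Subtype.val (mul_comm' (⟨a, ha⟩ : T) ⟨b, hb⟩)

/-- The only elementary abelian subgroup of order `2 ^ 11` normalising `V` is `V`. -/
theorem eq_V (h : Pkg c M W) {T : Subgroup G} (hT : T ≤ h.NH) (hA : Cfsg.IsElementaryAbelian 2 T)
    (hcard : Nat.card T = 2 ^ 11) : T = h.V := by
  classical
  haveI := finite_sp h.hc
  haveI := h.finiteA
  set f := spForm h.hc with hf
  let φ : T →* A :=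
    { toFun := fun g => c.pr g
      map_one' := h.hc.pr_one
      map_mul' := fun a b => h.hc.pr_mul _ (hT a.2).1 _ (hT b.2).1 }
  set B := φ.range with hB
  have hBe : Cfsg.IsElementaryAbelian 2 B := by
    refine ⟨⟨⟨?_⟩⟩, ?_⟩
    · rintro ⟨_, a, rfl⟩ ⟨_, b, rfl⟩
      apply Subtype.ext
      show φ a * φ b = φ b * φ a
      rw [← map_mul, ← map_mul, show a * b = b * a from Subtype.ext (elem_comm hA a.2 b.2)]
    · rintro _ ⟨a, rfl⟩
      rw [← map_pow, pow_two, show a * a = 1 from Subtype.ext (elem_sq hA a.2), map_one]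
  have hBN : B ≤ normalizer (W : Set A) := by rintro _ ⟨a, rfl⟩; exact (hT a.2).2
  set A0 := T ⊓ c.E with hA0
  have hcardT : Nat.card T = Nat.card B * Nat.card A0 := by
    have h1 := Subgroup.card_eq_card_quotient_mul_card_subgroup φ.ker
    have hk : φ.ker = A0.subgroupOf T := by
      ext a
      rw [MonoidHom.mem_ker, mem_subgroupOf, hA0, mem_inf]
      constructor
      · intro e
        refine ⟨a.2, h.hc.mem_E_of_pow ((h.hc.pr_ker _ (hT a.2).1).1 e) (k := 1) ?_⟩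
        rw [pow_one, pow_two]; exact elem_sq hA a.2
      · exact fun e => h.hc.pr_E e.2
    rwa [Nat.card_congr (QuotientGroup.quotientKerEquivRange φ).toEquiv, hk,
      Nat.card_congr (subgroupOfEquivOfLe (inf_le_left : A0 ≤ T)).toEquiv] at h1
  have hA0E : A0 ≤ c.E := inf_le_right
  -- `A0` with `z`
  let A0z : Subgroup G := A0 ⊔ zpowers c.z
  have hA0zE : A0z ≤ c.E := sup_le hA0E (zpowers_le.2 h.hc.z_mem)
  have hA07 : Nat.card A0 ≤ 2 ^ 7 := by
    refine (Subgroup.card_le_of_le (le_sup_left : A0 ≤ A0z)).trans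
      (h.card_abelian_le hA0zE (mem_sup_right (mem_zpowers _)) ?_)
    have hmem : ∀ a ∈ A0z, ∃ b ∈ A0, a = b ∨ a = b * c.z := by
      intro a ha
      have hn : zpowers c.z ≤ normalizer (A0 : Set G) := by
        refine le_trans ?_ (centralizer_le_normalizer _)
        rw [zpowers_le, mem_centralizer_iff]
        exact fun b hb => (h.hc.z_comm (hA0E hb)).symm
      obtain ⟨b, hb, d, hd, rfl⟩ := exists_mul_of_mem_sup hn ha
      refine ⟨b, hb, ?_⟩
      rcases h.hc.mem_zp.1 hd with rfl | rfl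
      exacts [Or.inl (mul_one _), Or.inr rfl]
    intro a ha b hb
    obtain ⟨a', ha', ea⟩ := hmem a ha
    obtain ⟨b', hb', eb⟩ := hmem b hb
    have hcomm := elem_comm hA (mem_inf.1 ha').1 (mem_inf.1 hb').1
    have hza := h.hc.z_comm (hA0E ha')
    have hzb := h.hc.z_comm (hA0E hb')
    rcases ea with rfl | rfl <;> rcases eb with rfl | rfl
    · exact hcomm
    · rw [← mul_assoc, hcomm, mul_assoc, mul_assoc, hza]
    · rw [mul_assoc, hzb, ← mul_assoc, hcomm, mul_assoc]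
    · calc a' * c.z * (b' * c.z) = a' * (c.z * b') * c.z := by group
        _ = a' * b' * (c.z * c.z) := by rw [hzb]; group
        _ = b' * a' * (c.z * c.z) := by rw [hcomm]
        _ = b' * (c.z * a') * c.z := by rw [hza]; group
        _ = b' * c.z * (a' * c.z) := by group
  have hB32 := h.hd.elem_le B hBe
  set U0 := img c A0 with hU0
  have hA0img := h.card_le_img hA0E
  have hcT : 2 ^ 11 = Nat.card B * Nat.card A0 := hcard.symm.trans hcardT
  have hB16 : 16 ≤ Nat.card B := by nlinarith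
  have hU0ne : U0 ≠ ⊥ := fun e => by
    rw [← hU0, e, finrank_bot] at hA0img
    nlinarith
  -- elements of `T` fix the image of `A0`
  have hTfix : ∀ g ∈ T, ∀ a ∈ A0, g * a * g⁻¹ = a := fun g hg a ha => by
    rw [elem_comm hA hg (mem_inf.1 ha).1, mul_inv_cancel_right]
  have hinner : ∀ β ∈ B ⊓ M, ∃ n : c.C, c.pr (n : G) = β ∧ ∀ u ∈ U0, f.ρ n u = u := by
    intro β hβ
    obtain ⟨⟨a, rfl⟩, hβM⟩ := mem_inf.1 hβ
    obtain ⟨n, hn, hact⟩ := h.exists_C_act (hT a.2).1 hβM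
    refine ⟨n, hn, fun u hu => h.apply_img hA0E (fun b hb => ?_) hu⟩
    rw [← hact b (hA0E hb), hTfix a a.2 b hb]
  have hU0X : 4 ≤ Nat.card ↥(B ⊓ M ⊓ W) → U0 ≤ h.X := by
    intro h4
    obtain ⟨α, hα, hα1⟩ : ∃ α ∈ B ⊓ M ⊓ W, α ≠ 1 :=
      (Subgroup.bot_or_exists_ne_one _).resolve_left fun e => by rw [e, card_bot] at h4; omega
    obtain ⟨β, hβ, hβ'⟩ : ∃ β ∈ B ⊓ M ⊓ W, β ∉ ({1, α} : Finset A) := by
      by_contra hcon
      push Not at hcon
      have h5 : Nat.card ↥(B ⊓ M ⊓ W) ≤ ({1, α} : Finset A).card := by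
        rw [← Nat.card_eq_finsetCard]
        exact Nat.card_le_card_of_injective (fun x : ↥(B ⊓ M ⊓ W) => (⟨x, hcon x x.2⟩ : ({1, α} : Finset A)))
          fun a b e => Subtype.ext (congrArg Subtype.val e :)
      have := h5.trans Finset.card_le_two
      omega
    simp only [Finset.mem_insert, Finset.mem_singleton, not_or] at hβ'
    obtain ⟨v, hv, rfl⟩ := h.E5_surj (mem_inf.1 hα).2
    obtain ⟨w, hw, rfl⟩ := h.E5_surj (mem_inf.1 hβ).2
    obtain ⟨n, hn, hn'⟩ := hinner _ (mem_inf.1 hα).1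
    obtain ⟨m, hm, hm'⟩ := hinner _ (mem_inf.1 hβ).1
    intro u hu
    rw [← h.inf_fix hv hw hα1 hβ'.1 (Ne.symm hβ'.2)]
    exact ⟨f.mem_fix.2 (h.fix_of_pr hv hn hU0ne hn' u hu),
      f.mem_fix.2 (h.fix_of_pr hw hm hU0ne hm' u hu)⟩
  by_cases hBM : B ≤ M
  · -- only inner elements
    have hB16' : Nat.card B = 16 := le_antisymm (h.hW.elem_le B hBM hBe) hB16
    have h4 := h.hW.meet B (le_inf hBM hBN) hBe hB16'
    have hX := hU0X (by rwa [inf_eq_left.2 hBM])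
    have hA0eq : A0 = h.A7 := by
      refine Subgroup.eq_of_le_of_card_ge ?_ ?_
      · intro a ha
        rw [h.A7_eq_pre]
        exact ⟨hA0E ha, hX (Submodule.subset_span ⟨a, ha, rfl⟩)⟩
      · rw [h.card_A7]; rw [hB16'] at hcT; omega
    refine Subgroup.eq_of_le_of_card_ge (fun g hg => ?_) (by rw [h.card_V, hcard])
    refine h.mem_V_of_centralizes (hT hg) fun a ha => ?_
    rw [← hA0eq] at ha
    exact elem_comm hA hg (mem_inf.1 ha).1
  exfalso
  obtain ⟨_, ⟨u, rfl⟩, huM⟩ := SetLike.not_le_iff_exists.1 hBM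
  have hB0 : Nat.card B ≤ 2 * Nat.card ↥(B ⊓ M) := by
    have h1 := card_mul_index (M.subgroupOf B)
    have h2 : (M.subgroupOf B).index ≤ 2 := by
      haveI := h.hd.normal
      exact Nat.le_of_dvd (by norm_num) (h.hd.index ▸ relIndex_dvd_index_of_normal M B)
    have e : Nat.card (M.subgroupOf B) = Nat.card ↥(B ⊓ M) := by
      rw [← inf_subgroupOf_left]
      exact Nat.card_congr (subgroupOfEquivOfLe inf_le_left).toEquiv
    rw [e] at h1
    nlinarith
  obtain ⟨e, he, n, hn, hnC, hun⟩ := h.hc.outer_split h.hd (hT u.2).1 huM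
  obtain ⟨hpP, -⟩ := spForm_p_mem h.hc
  set p : G := (f.p : G) with hp
  -- the image meets its translate under `P` trivially
  have hdisj : U0 ⊓ U0.map (f.ρ f.p) = ⊥ := by
    let Fu : Submodule (ZMod 2) (Sp c) := LinearMap.ker (act h.hc (u : G) (hT u.2).1 - 1)
    have hFu : U0 ≤ Fu := Submodule.span_le.2 (by
      rintro _ ⟨a, ha, rfl⟩
      show (act h.hc (u : G) (hT u.2).1 - 1) (vec c a) = 0
      rw [LinearMap.sub_apply, Module.End.one_apply, act_vec h.hc _ (hA0E ha), hTfix u u.2 a ha,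
        sub_self])
    refine eq_bot_iff.2 fun v hv => ?_
    obtain ⟨hv1, w, hw, hwv⟩ := hv
    have hfix : ∀ {x}, x ∈ Fu → act h.hc (u : G) (hT u.2).1 x = x := fun hx => by
      have h0 : (act h.hc (u : G) (hT u.2).1 - 1) _ = 0 := LinearMap.mem_ker.1 hx
      rwa [LinearMap.sub_apply, Module.End.one_apply, sub_eq_zero] at h0
    have h1 := hfix (hFu hv1)
    have h2 := hfix (hFu hw)
    obtain ⟨a, ha, rfl⟩ := vec_surj c w
    have hwv' : vec c (p * a * p⁻¹) = v := by rw [← hwv, hf, spForm_ρ h.hc _ ha]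
    have hpa := h.hc.conjE (h.hc.P_le hpP) ha
    rw [act_vec h.hc _ ha] at h2
    rw [← hwv', act_vec h.hc _ hpa] at h1
    -- `u` inverts `P` modulo `E`
    have huv : ∀ {b}, b ∈ c.E → vec c ((u : G) * b * (u : G)⁻¹) = vec c (n * b * n⁻¹) := fun {b} hb => by
      rw [hun]
      have hnb := h.hc.conjE hn.1 hb
      rw [vec_eq_iff h.hc (h.hc.conjE (mul_mem (h.hc.le_H he) hn.1) hb) hnb,
        show e * n * b * (e * n)⁻¹ = e * (n * b * n⁻¹) * e⁻¹ by group]
      rcases h.hc.swap he hnb with e1 | e1 <;> rw [e1]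
      · exact Or.inl (mul_inv_cancel_right _ _)
      · exact Or.inr (by rw [mul_assoc c.z, mul_inv_cancel_right])
    rw [huv ha] at h2
    rw [huv hpa, show n * (p * a * p⁻¹) * n⁻¹ = n * p * n⁻¹ * (n * a * n⁻¹) * (n * p * n⁻¹)⁻¹ by group,
      h.hc.inverts hn hnC hpP,
      conj_vec_congr h.hc (inv_mem (h.hc.P_le hpP)) (h.hc.conjE hn.1 ha) ha h2] at h1
    have h3 : f.ρ f.p⁻¹ (vec c a) = f.ρ f.p (vec c a) := by
      rw [hf, spForm_ρ h.hc _ ha, spForm_ρ h.hc _ ha, InvMemClass.coe_inv]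
      exact h1
    have h4 : f.ρ f.p (vec c a) = vec c a := by
      calc f.ρ f.p (vec c a) = f.ρ f.p⁻¹ (vec c a) := h3.symm
        _ = f.ρ f.p (f.ρ f.p (vec c a)) := by
            rw [← f.mul_apply]; congr 2
            exact inv_eq_of_mul_eq_one_left (by rw [← pow_three']; exact f.p_cube)
        _ = f.ρ f.p (f.ρ f.p⁻¹ (vec c a)) := by rw [h3]
        _ = vec c a := f.cancel_inv _ _
    have h5 := f.fpf _ h4
    rw [h5, map_zero] at hwv
    rw [← hwv]
    exact Submodule.zero_mem _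
  have hpdim : finrank (ZMod 2) (U0.map (f.ρ f.p)) = finrank (ZMod 2) U0 :=
    (Submodule.equivMapOfInjective (f.ρ f.p) (fun a b e => by
      have := congrArg (f.ρ f.p⁻¹) e; rwa [f.inv_cancel, f.inv_cancel] at this) U0).finrank_eq.symm
  have hdim := Submodule.finrank_sup_add_finrank_inf_eq U0 (U0.map (f.ρ f.p))
  rw [hdisj, finrank_bot, hpdim, add_zero] at hdim
  have hle12 := Submodule.finrank_le (U0 ⊔ U0.map (f.ρ f.p))
  rw [finrank_sp h.hc] at hle12
  have hbound : ∀ β ∈ B ⊓ M, ∃ m : c.C, c.pr (m : G) = β ∧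
      ∀ x ∈ U0 ⊔ U0.map (f.ρ f.p), f.ρ m x = x := by
    intro β hβ
    obtain ⟨m, hm, hm'⟩ := hinner β hβ
    have hle : U0 ⊔ U0.map (f.ρ f.p) ≤ f.fix m := by
      refine sup_le (fun v hv => f.mem_fix.2 (hm' v hv)) ?_
      rintro _ ⟨v, hv, rfl⟩
      exact f.inv_p_fix m _ (f.mem_fix.2 (hm' v hv))
    exact ⟨m, hm, fun x hx => f.mem_fix.1 (hle hx)⟩
  rcases (by omega : finrank (ZMod 2) U0 = 6 ∨ finrank (ZMod 2) U0 ≤ 5) with h6 | h5
  · -- the inner part would be trivial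
    have htop : U0 ⊔ U0.map (f.ρ f.p) = ⊤ :=
      Submodule.eq_top_of_finrank_eq (by rw [finrank_sp h.hc]; omega)
    have hbot : B ⊓ M = ⊥ := eq_bot_iff.2 fun β hβ => by
      obtain ⟨m, hm, hm'⟩ := hbound β hβ
      have h1 : f.ρ m = 1 := LinearMap.ext fun x => hm' x (htop ▸ Submodule.mem_top)
      rw [mem_bot, ← hm]
      rcases eq_of_rep_eq_one h.hc h1 with e1 | e1 <;> rw [e1]
      exacts [h.hc.pr_one, h.hc.pr_E h.hc.z_mem]
    rw [hbot, card_bot] at hB0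
    omega
  have hA06 : Nat.card A0 ≤ 2 ^ 6 := by
    refine hA0img.trans ?_
    calc 2 * 2 ^ finrank (ZMod 2) U0 ≤ 2 * 2 ^ 5 := Nat.mul_le_mul_left 2 (Nat.pow_le_pow_right (by norm_num) h5)
      _ = 2 ^ 6 := by norm_num
  have hB32' : Nat.card B = 32 := by nlinarith
  have hBMe : Cfsg.IsElementaryAbelian 2 (B ⊓ M : Subgroup A) := by
    refine ⟨⟨⟨?_⟩⟩, fun a ha => hBe.2 a (mem_inf.1 ha).1⟩
    rintro ⟨a, ha⟩ ⟨b, hb⟩
    apply Subtype.ext
    show a * b = b * a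
    have := hBe.1
    exact congrArg Subtype.val (mul_comm' (⟨a, (mem_inf.1 ha).1⟩ : B) ⟨b, (mem_inf.1 hb).1⟩)
  have hBM16 : Nat.card ↥(B ⊓ M) = 16 := by
    have := h.hW.elem_le (B ⊓ M) inf_le_right hBMe
    omega
  have hX := hU0X (h.hW.meet (B ⊓ M) (le_inf inf_le_right (inf_le_left.trans hBN)) hBMe hBM16)
  have hXsup : U0 ⊔ U0.map (f.ρ f.p) = h.X := by
    refine Submodule.eq_of_le_of_finrank_eq (sup_le hX ?_) ?_
    · rintro _ ⟨v, hv, rfl⟩
      exact f.inv_p_fixAll _ _ (hX hv)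
    · have h1 : finrank (ZMod 2) U0 = 5 := by
        by_contra hne
        have h4 : finrank (ZMod 2) U0 ≤ 4 := by omega
        have : 2 ^ finrank (ZMod 2) U0 ≤ 2 ^ 4 := Nat.pow_le_pow_right (by norm_num) h4
        nlinarith
      have h2 : U0 ⊔ U0.map (f.ρ f.p) ≤ h.X :=
        sup_le hX (by rintro _ ⟨v, hv, rfl⟩; exact f.inv_p_fixAll _ _ (hX hv))
      have := Submodule.finrank_mono h2
      rw [h.finrank_X] at this ⊢
      omega
  have hBW : B ⊓ M = W := by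
    refine Subgroup.eq_of_le_of_card_ge (fun β hβ => ?_) (by rw [hBM16, h.hW.card])
    obtain ⟨m, hm, hm'⟩ := hbound β hβ
    rw [hXsup] at hm'
    rw [← hm]
    exact h.pr_mem_W (by rw [hm]; exact hBN (mem_inf.1 hβ).1) hm'
  refine huM (h.hW.le ((le_of_eq h.hW.cent) (mem_centralizer_iff.2 fun α hα => ?_)))
  have hαB : α ∈ B := (mem_inf.1 (hBW.symm ▸ hα)).1
  have := hBe.1
  exact congrArg Subtype.val (mul_comm' (⟨α, hαB⟩ : B) ⟨φ u, u, rfl⟩)

theorem card_two_part {X : Type*} [Group X] [Finite X] (T : Sylow 2 X) {m : ℕ}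
    (h : Nat.card X = 2 ^ 21 * m) (hm : ¬ 2 ∣ m) : Nat.card T = 2 ^ 21 := by
  haveI : Fact (Nat.Prime 2) := ⟨Nat.prime_two⟩
  rw [T.card_eq_multiplicity, h, Nat.factorization_mul (by norm_num) (by omega), Nat.factorization_pow]
  simp [Nat.prime_two.factorization, Nat.factorization_eq_zero_of_not_dvd hm]

/-- A Sylow 2-subgroup of `G` inside `N_H(V)`. -/
theorem exists_sylow (h : Pkg c M W) : ∃ T : Sylow 2 G, (T : Subgroup G) ≤ h.NH ∧ h.V ≤ T ∧ c.E ≤ T := by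
  haveI : Fact (Nat.Prime 2) := ⟨Nat.prime_two⟩
  let S : Sylow 2 h.NH := default
  set T0 := (S : Subgroup h.NH).map h.NH.subtype with hT0
  have hT0le : T0 ≤ h.NH := map_subtype_le _
  have hcT0 : Nat.card T0 = 2 ^ 21 := by
    rw [hT0, Subgroup.card_map_of_injective h.NH.subtype_injective]
    exact card_two_part S (m := 135) (by rw [h.card_NH]; norm_num) (by norm_num)
  have hP0 : IsPGroup 2 T0 := IsPGroup.of_card hcT0
  have hsub : ∀ Q : Subgroup G, Q ≤ h.NH → IsPGroup 2 Q →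
      (∀ g ∈ h.NH, ∀ x ∈ Q, g * x * g⁻¹ ∈ Q) → Q ≤ T0 := by
    intro Q hQ hQp hQn
    obtain ⟨S', hS'⟩ := (hQp.of_equiv (subgroupOfEquivOfLe hQ).symm).exists_le_sylow
    obtain ⟨g, hg⟩ := MulAction.exists_smul_eq h.NH S' S
    intro x hx
    have hy : ((g : G)⁻¹ * x * g) ∈ Q := by
      simpa using hQn (g : G)⁻¹ (inv_mem g.2) x hx
    have h1 : (⟨_, hQ hy⟩ : h.NH) ∈ (S' : Subgroup h.NH) := hS' hy
    have h2 : MulAut.conj g ⟨_, hQ hy⟩ ∈ ((g • S' : Sylow 2 h.NH) : Subgroup h.NH) := by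
      rw [Sylow.coe_subgroup_smul]
      exact Subgroup.smul_mem_pointwise_smul _ (MulAut.conj g) _ h1
    rw [hg] at h2
    refine ⟨_, h2, ?_⟩
    show (g : G) * ((g : G)⁻¹ * x * g) * (g : G)⁻¹ = x
    group
  have hVN : h.V ≤ h.NH := by
    intro x hx
    refine ⟨h.V_le_H hx, h.pr_mem_of_normalizes (h.V_le_H hx) fun y hy => ?_⟩
    rw [h.V_comm hx hy, mul_inv_cancel_right]; exact hy
  have hVT : h.V ≤ T0 := hsub _ hVN (IsPGroup.of_card h.card_V) fun g hg x hx => h.NH_conj_V hg hx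
  have hET : c.E ≤ T0 := hsub _ h.E_le_NH (IsPGroup.of_card h.hc.cardE) fun g hg x hx =>
    h.hc.conjE hg.1 hx
  obtain ⟨T, hT⟩ := hP0.exists_le_sylow
  have hTeq : (T : Subgroup G) = T0 := by
    by_contra hne
    have hlt : T0 < (T : Subgroup G) := lt_of_le_of_ne hT (Ne.symm hne)
    haveI : Group.IsNilpotent (T : Subgroup G) := T.isPGroup'.isNilpotent
    have hlt' : T0.subgroupOf (T : Subgroup G) < ⊤ := lt_top_iff_ne_top.2 fun e =>
      not_le_of_gt hlt fun x hx => (subgroupOf_eq_top.1 e) hx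
    obtain ⟨g, hg, hgn⟩ := SetLike.exists_of_lt (normalizerCondition_of_isNilpotent _ hlt')
    have hgconj : ∀ x ∈ T0, (g : G) * x * (g : G)⁻¹ ∈ T0 := fun x hx =>
      (mem_normalizer_iff.1 hg ⟨x, hT hx⟩).1 hx
    have hgconj' : ∀ x ∈ T0, (g : G)⁻¹ * x * g ∈ T0 := fun x hx => by
      have := (mem_normalizer_iff.1 (inv_mem hg) ⟨x, hT hx⟩).1 hx
      simpa [mem_subgroupOf] using this
    -- `g` fixes the only involution of the centre of `T0`
    have hcz : (g : G) * c.z * (g : G)⁻¹ = c.z := by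
      have hmem : (g : G) * c.z * (g : G)⁻¹ ∈ T0 := hgconj _ (hET h.hc.z_mem)
      have hcentral : ∀ x ∈ T0, (g : G) * c.z * (g : G)⁻¹ * x = x * ((g : G) * c.z * (g : G)⁻¹) := by
        intro x hx
        have h1 := c.mem_H.1 (hT0le (hgconj' x hx)).1
        calc (g : G) * c.z * (g : G)⁻¹ * x = g * (c.z * ((g : G)⁻¹ * x * g)) * (g : G)⁻¹ := by group
          _ = x * ((g : G) * c.z * (g : G)⁻¹) := by rw [h1]; group
      have hE : (g : G) * c.z * (g : G)⁻¹ ∈ c.E :=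
        h.hc.cent _ (hT0le hmem).1 fun a ha => hcentral a (hET ha)
      refine (h.hc.mem_of_center hE fun a ha => hcentral a (hET ha)).resolve_left fun e => h.hc.z_ne ?_
      rw [mul_inv_eq_one] at e
      exact mul_eq_left.1 e
    have hgH : (g : G) ∈ c.H := c.mem_H.2 (by
      calc c.z * g = (g : G) * c.z * (g : G)⁻¹ * g := by rw [hcz]
        _ = g * c.z := by group)
    set Q := (T : Subgroup G) ⊓ c.H
    have hQT0 : T0 < Q := by
      refine lt_of_le_of_ne (le_inf hT fun x hx => (hT0le hx).1) fun e => hgn ?_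
      show (g : G) ∈ T0
      rw [e]; exact mem_inf.2 ⟨g.2, hgH⟩
    have hQp : IsPGroup 2 Q := T.isPGroup'.to_le inf_le_left
    obtain ⟨k, hk⟩ := hQp.exists_card_eq
    have hdvd : Nat.card Q ∣ Nat.card c.H := card_dvd_of_le inf_le_right
    have hgt : Nat.card T0 < Nat.card Q := by
      refine lt_of_le_of_ne (Subgroup.card_le_of_le hQT0.le) fun e => hQT0.ne ?_
      exact eq_of_le_of_card_ge hQT0.le e.ge
    rw [h.hc.card_H, h.hd.card, hk, show 3 * 2 ^ 13 * 887040 = 2 ^ 21 * 10395 by norm_num] at hdvd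
    rw [hk, hcT0] at hgt
    have hk22 : 22 ≤ k := (Nat.pow_lt_pow_iff_right (by norm_num)).1 hgt
    have : 2 ^ 22 ∣ 2 ^ 21 * 10395 := (pow_dvd_pow 2 hk22).trans hdvd
    norm_num at this
  exact ⟨T, hTeq ▸ hT0le, hTeq ▸ hVT, hTeq ▸ hET⟩

/-- Every Sylow 2-subgroup has exactly one elementary abelian subgroup of order `2 ^ 11`. -/
theorem existsUnique_eleven (h : Pkg c M W) (T : Sylow 2 G) :
    ∃! V : Subgroup G, V ≤ (T : Subgroup G) ∧ Cfsg.IsElementaryAbelian 2 V ∧ Nat.card V = 2 ^ 11 := by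
  haveI : Fact (Nat.Prime 2) := ⟨Nat.prime_two⟩
  obtain ⟨T0, hT0, hVT, -⟩ := h.exists_sylow
  obtain ⟨g, rfl⟩ := MulAction.exists_smul_eq G T0 T
  have hmem : ∀ x, x ∈ ((g • T0 : Sylow 2 G) : Subgroup G) ↔ g⁻¹ * x * g ∈ (T0 : Subgroup G) := by
    intro x
    rw [Sylow.coe_subgroup_smul, Subgroup.mem_pointwise_smul_iff_inv_smul_mem]
    simp [MulAut.smul_def, MulAut.conj_symm_apply]
  have helem : ∀ (U : Subgroup G) (k : G), Cfsg.IsElementaryAbelian 2 U →
      Cfsg.IsElementaryAbelian 2 (U.map (MulAut.conj k).toMonoidHom) := by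
    intro U k hU
    refine ⟨⟨⟨?_⟩⟩, ?_⟩
    · rintro ⟨_, a, ha, rfl⟩ ⟨_, b, hb, rfl⟩
      apply Subtype.ext
      show MulAut.conj k a * MulAut.conj k b = MulAut.conj k b * MulAut.conj k a
      rw [← map_mul, ← map_mul, elem_comm hU ha hb]
    · rintro _ ⟨a, ha, rfl⟩
      show (MulAut.conj k a) ^ 2 = 1
      rw [← map_pow, hU.2 a ha, map_one]
  refine ⟨h.V.map (MulAut.conj g).toMonoidHom, ⟨?_, helem _ g h.elem_V, ?_⟩, ?_⟩
  · rintro _ ⟨x, hx, rfl⟩
    rw [hmem]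
    show g⁻¹ * (g * x * g⁻¹) * g ∈ _
    rw [show g⁻¹ * (g * x * g⁻¹) * g = x by group]
    exact hVT hx
  · rw [Subgroup.card_map_of_injective (MulAut.conj g).injective, h.card_V]
  · rintro U ⟨hUT, hUe, hUc⟩
    have h1 : U.map (MulAut.conj g⁻¹).toMonoidHom = h.V := by
      refine h.eq_V ?_ (helem U g⁻¹ hUe)
        (by rw [Subgroup.card_map_of_injective (MulAut.conj _).injective, hUc])
      rintro _ ⟨x, hx, rfl⟩
      refine hT0 ?_
      have := (hmem x).1 (hUT hx)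
      simpa using this
    rw [← h1, Subgroup.map_map]
    ext x
    constructor
    · intro hx
      refine ⟨x, hx, ?_⟩
      show g * (g⁻¹ * x * g⁻¹⁻¹) * g⁻¹ = x
      group
    · rintro ⟨y, hy, rfl⟩
      show g * (g⁻¹ * y * g⁻¹⁻¹) * g⁻¹ ∈ U
      rwa [show g * (g⁻¹ * y * g⁻¹⁻¹) * g⁻¹ = y by group]

end Pkg

end Cfsg.Agent.H98.JFour
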